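import Cfsg.Agent.H620.ChevChk

/-!
# The numbers of long root groups as polynomials (helper620)
-/

set_option autoImplicit false

namespace Cfsg.Agent.H620.ChevCnt

open Cfsg Cfsg.Lie Cfsg.Agent.H620.ChevChk

def addAt : List ℕ → ℕ → List ℕ
  | [], 0 => [1]
  | [], n + 1 => 0 :: addAt [] n
  | a :: l, 0 => (a + 1) :: l
  | a :: l, n + 1 => a :: addAt l n

def ev : List ℕ → ℕ → ℕ
  | [], _ => 0
  | a :: l, q => a + q * ev l q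

theorem ev_addAt (q : ℕ) : ∀ (n : ℕ) (l : List ℕ), ev (addAt l n) q = ev l q + q ^ n
  | 0, [] => by simp [addAt, ev]
  | n + 1, [] => by
    have h := ev_addAt q n []
    simp only [addAt, ev] at h ⊢
    rw [h]
    ring
  | 0, a :: l => by simp only [addAt, ev]; ring
  | n + 1, a :: l => by
    have h := ev_addAt q n l
    simp only [addAt, ev] at h ⊢
    rw [h]
    ring

def cntL (L : List ℕ) : List ℕ := L.foldr (fun n l => addAt l n) []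

theorem ev_cntL (q : ℕ) (L : List ℕ) : ev (cntL L) q = (L.map (q ^ ·)).sum := by
  induction L with
  | nil => simp [cntL, ev]
  | cons a L ih =>
    have : cntL (a :: L) = addAt (cntL L) a := rfl
    rw [this, ev_addAt, ih]
    simp [add_comm]

/-- the exponents -/
def exs (D : ChevalleyDatum) (c : ℕ → ℤ) (m H : ℤ) (sh : List ℕ) : List ℕ :=
  ((List.range D.nroots).filter fun r => lg D sh m r).map fun r => KK m H (FI D c r)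

theorem cnt_G2 : cntL (exs chevG2 cG 3 3 [0]) = [1, 1, 1, 1, 1, 1] := by decide +kernel
theorem cnt_F4 : cntL (exs chevF4 cF 2 8 [0, 1]) = [1, 1, 1, 1, 2, 2, 2, 2, 2, 2, 2, 2, 1, 1, 1, 1] := by
  decide +kernel
theorem cnt_E6 : cntL (exs chevE6 cE 1 11 []) =
    [1, 1, 1, 2, 3, 3, 4, 5, 5, 5, 6, 6, 5, 5, 5, 4, 3, 3, 2, 1, 1, 1] := by decide +kernel
theorem cnt_E7 : cntL (exs chevE7 cE 1 17 []) =
    [1, 1, 1, 1, 2, 2, 3, 3, 4, 4, 5, 5, 6, 6, 6, 6, 7, 7, 6, 6, 6, 6, 5, 5, 4, 4, 3, 3, 2, 2, 1, 1, 1, 1] := by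
  decide +kernel
theorem cnt_E8 : cntL (exs chevE8 cE 1 29 []) =
    [1, 1, 1, 1, 1, 1, 2, 2, 2, 2, 3, 3, 4, 4, 4, 4, 5, 5, 6, 6, 6, 6, 7, 7, 7, 7, 7, 7, 8, 8, 7, 7, 7, 7, 7, 7, 6, 6,
      6, 6, 5, 5, 4, 4, 4, 4, 3, 3, 2, 2, 2, 2, 1, 1, 1, 1, 1, 1] := by decide +kernel

theorem cast_pred {q k : ℕ} (hq : 1 ≤ q) : ((q ^ k - 1 : ℕ) : ℤ) = (q : ℤ) ^ k - 1 := by
  rw [Nat.cast_sub (Nat.one_le_pow _ _ hq)]
  push_cast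
  ring

theorem poly_G2 {q : ℕ} (hq : 1 ≤ q) : ev [1, 1, 1, 1, 1, 1] q * (q ^ 1 - 1) = 1 * (q ^ 6 - 1) := by
  zify
  rw [cast_pred hq, cast_pred hq]
  simp only [ev]
  push_cast
  ring

theorem poly_F4 {q : ℕ} (hq : 1 ≤ q) : ev [1, 1, 1, 1, 2, 2, 2, 2, 2, 2, 2, 2, 1, 1, 1, 1] q *
    ((q ^ 1 - 1) * (q ^ 4 - 1)) = (q ^ 8 - 1) * (q ^ 12 - 1) := by
  zify
  rw [cast_pred hq, cast_pred hq, cast_pred hq, cast_pred hq]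
  simp only [ev]
  push_cast
  ring

theorem poly_E6 {q : ℕ} (hq : 1 ≤ q) :
    ev [1, 1, 1, 2, 3, 3, 4, 5, 5, 5, 6, 6, 5, 5, 5, 4, 3, 3, 2, 1, 1, 1] q *
    ((q ^ 1 - 1) * (q ^ 3 - 1) * (q ^ 4 - 1)) = (q ^ 8 - 1) * (q ^ 9 - 1) * (q ^ 12 - 1) := by
  zify
  simp only [cast_pred hq]
  simp only [ev]
  push_cast
  ring

theorem poly_E7 {q : ℕ} (hq : 1 ≤ q) :
    ev [1, 1, 1, 1, 2, 2, 3, 3, 4, 4, 5, 5, 6, 6, 6, 6, 7, 7, 6, 6, 6, 6, 5, 5, 4, 4, 3, 3, 2, 2, 1, 1, 1, 1] q *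
    ((q ^ 1 - 1) * (q ^ 4 - 1) * (q ^ 6 - 1)) = (q ^ 12 - 1) * (q ^ 14 - 1) * (q ^ 18 - 1) := by
  zify
  simp only [cast_pred hq]
  simp only [ev]
  push_cast
  ring

theorem poly_E8 {q : ℕ} (hq : 1 ≤ q) :
    ev [1, 1, 1, 1, 1, 1, 2, 2, 2, 2, 3, 3, 4, 4, 4, 4, 5, 5, 6, 6, 6, 6, 7, 7, 7, 7, 7, 7, 8, 8, 7, 7, 7, 7, 7, 7, 6, 6,
      6, 6, 5, 5, 4, 4, 4, 4, 3, 3, 2, 2, 2, 2, 1, 1, 1, 1, 1, 1] q *
    ((q ^ 1 - 1) * (q ^ 6 - 1) * (q ^ 10 - 1)) = (q ^ 20 - 1) * (q ^ 24 - 1) * (q ^ 30 - 1) := by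
  zify
  simp only [cast_pred hq]
  simp only [ev]
  push_cast
  ring

end Cfsg.Agent.H620.ChevCnt
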