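import Cfsg.Agent.H620.RowSmall
import Cfsg.Agent.CTwoTab.Exc
import Cfsg.Agent.H620.RowSU
import Cfsg.Agent.H690.LieRow
import Cfsg.Agent.H690.LThreeFour
import Cfsg.Agent.H163.Steinberg
import Cfsg.Agent.H714.PslMore
import Cfsg.Agent.H714.AltFull
import Cfsg.Agent.S4812
import Cfsg.Agent.S0822
import Cfsg.Agent.S0255
import Cfsg.Agent.S0253
import Cfsg.Agent.OddHalf.Known

/-!
# The rows of the classical groups and of the alternating groups (helper620)
-/

set_option autoImplicit false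

namespace Cfsg.Agent.H620.RowClass

open Cfsg Cfsg.Agent.H620 Cfsg.Agent.H713

/-- Both rows. -/
def Rows (S : Type*) [Group S] : Prop := Row56 S ∧ Row57 S

theorem Rows.mulEquiv {S T : Type*} [Group S] [Group T] (h : Rows S) (e : S ≃* T) : Rows T :=
  ⟨h.1.mulEquiv e, h.2.mulEquiv e⟩

/-- A nontrivial `VZ` element of order prime to two given primes. -/
theorem rows_of_coprime {S : Type*} [Group S] (h : ∀ l m : ℕ, l.Prime → m.Prime →
    ∃ x : S, VZ S x ∧ x ≠ 1 ∧ Nat.Coprime l (orderOf x) ∧ Nat.Coprime m (orderOf x)) : Rows S := by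
  constructor
  · intro p hp
    obtain ⟨x, hx, -, h1, -⟩ := h p p hp hp
    exact ⟨x, hx, fun hd => hp.one_lt.ne' (Nat.dvd_one.1 (h1 ▸ Nat.dvd_gcd dvd_rfl hd))⟩
  · intro p q hp hq
    obtain ⟨x, hx, hx1, h1, h2⟩ := h p q hp hq
    refine ⟨x, hx, ?_⟩
    rintro ⟨a, b, hab⟩
    apply hx1
    rw [← orderOf_eq_one_iff, hab]
    have h3 : Nat.Coprime (p ^ a * q ^ b) (orderOf x) :=
      Nat.Coprime.mul_left (Nat.Coprime.pow_left a h1) (Nat.Coprime.pow_left b h2)
    rw [hab] at h3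
    exact (Nat.coprime_self _).1 h3

/-- The Steinberg character. -/
theorem kill_of_hasSplit {K : Type*} [Group K] [Finite K] {p : ℕ} [Fact p.Prime]
    (h : Cfsg.Agent.FixBN.HasSplit p K) : Kill K p := by
  obtain ⟨χ, hχ, h1⟩ := Cfsg.Agent.H163.Steinberg.exists_irr_of_hasSplit h
  have P : Sylow p K := default
  refine kill_of_dvd p hχ (Nat.card P) (h1 P).1 ?_
  rw [P.card_eq_multiplicity]

theorem kill_of_lie {K : Type*} [Group K] [Finite K] [IsSimpleGroup K] {p : ℕ} (hp : p.Prime)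
    (h : IsLieTypeChar p K) : Kill K p := by
  have : Fact p.Prime := ⟨hp⟩
  exact kill_of_hasSplit (H690.LieRow.hasSplit hp h)

theorem _root_.Cfsg.Agent.H620.LieGood.mulEquiv {S T : Type*} [Group S] [Group T] {r : ℕ}
    (h : LieGood S r) (e : S ≃* T) : LieGood T r := by
  obtain ⟨t, u, y, k, ht, hrt, hd, hkt, hu, huk, hcent, hy, hyr⟩ := h
  refine ⟨t, e u, e y, k, ht, hrt, ?_, hkt.mulEquiv e, ?_, ?_, ?_, ?_, ?_⟩
  · rwa [← Nat.card_congr e.toEquiv]
  · intro h
    exact hu (e.injective (by rw [h, map_one]))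
  · rw [← map_pow, huk, map_one]
  · intro z hz hzt
    have h1 := hcent (e.symm z) (e.injective (by simpa using hz)) (by rw [← map_pow, hzt, map_one])
    rw [← e.apply_symm_apply z, h1, map_one]
  · rw [← map_mul, ← map_mul, hy]
  · rw [MulEquiv.orderOf_eq]
    exact hyr

theorem rows_of_lieGood {K : Type*} [Group K] [Finite K] [IsSimpleGroup K] {p : ℕ} (hp : p.Prime)
    (h : IsLieTypeChar p K) (hg : LieGood K p) : Rows K :=
  hg.rows hp (kill_of_lie hp h)

/-! ### Alternating groups -/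

theorem rows_alt {n : ℕ} (hn : 5 ≤ n) : Rows (alternatingGroup (Fin n)) := by
  constructor
  · intro p hp
    obtain ⟨x, hx, -, h1⟩ := H714.AltFull.exists_vz_coprime hn hp
    exact ⟨x, hx, fun hd => hp.one_lt.ne' (Nat.dvd_one.1 (h1 ▸ Nat.dvd_gcd dvd_rfl hd))⟩
  · intro p q hp hq
    obtain ⟨x, hx, r, hr, hrp, hrq, hrx⟩ := H714.AltFull.exists_vz_prime hn p q
    refine ⟨x, hx, ?_⟩
    rintro ⟨a, b, hab⟩
    rcases prime_mem_of_pow_mul_pow hp hq hr hab hrx with h | h
    · exact hrp h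
    · exact hrq h

/-! ### `PSL₂(q)` -/

theorem kill_of_degree {S : Type*} [Group S] [Finite S] {F : Type*} [Field F] [Fintype F] [CharP F 2]
    (h4 : 4 ≤ Fintype.card F) (e : S ≃* Matrix.SpecialLinearGroup (Fin 2) F) {n : ℕ}
    (hn : n = Fintype.card F - 1 ∨ n = Fintype.card F ∨ n = Fintype.card F + 1) {l : ℕ}
    (hl : l.Prime) (hln : l ∣ n) : Kill S l := by
  have : Fact l.Prime := ⟨hl⟩
  have h1 : n ∈ charDegrees (Matrix.SpecialLinearGroup (Fin 2) F) :=
    (S4812.degrees F _ rfl h4 n).2 (Or.inr hn)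
  obtain ⟨χ, hχ, hd⟩ := H681.DegBasic.mem_charDegrees.1 h1
  refine Kill.mulEquiv ?_ e.symm
  refine kill_of_dvd l hχ n hd ?_
  have hcard : Nat.card (Matrix.SpecialLinearGroup (Fin 2) F) =
      Fintype.card F * (Fintype.card F ^ 2 - 1) := ClassicalGeometry.PSL2Basic.card_SL2 F
  have hq0 : 2 ≤ Fintype.card F := by omega
  have heven : 2 ∣ Fintype.card F := by
    have h8 : (Fintype.card F : F) = 0 := FiniteField.cast_card_eq_zero F
    exact (CharP.cast_eq_zero_iff F 2 _).1 h8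
  set q := Fintype.card F with hq
  have hfac : Nat.card (Matrix.SpecialLinearGroup (Fin 2) F) = (q - 1) * (q * (q + 1)) := by
    rw [hcard, ← one_pow 2, Nat.sq_sub_sq]
    ring_nf
  -- the other factors are prime to `l`
  have key : ∀ m : ℕ, n * m = (q - 1) * (q * (q + 1)) → ¬ l ∣ m →
      l ^ (Nat.card (Matrix.SpecialLinearGroup (Fin 2) F)).factorization l ∣ n := by
    intro m hm hlm
    have h2 := Nat.ordProj_dvd (Nat.card (Matrix.SpecialLinearGroup (Fin 2) F)) l
    rw [hfac, ← hm] at h2 ⊢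
    refine (Nat.Coprime.pow_left _ ((hl.coprime_iff_not_dvd).2 hlm)).dvd_of_dvd_mul_right h2
  obtain ⟨j, hj⟩ := heven
  have hodd1 : ∀ d : ℕ, d.Prime → d ∣ q - 1 → ¬ d ∣ q + 1 := by
    intro d hd h3 h5
    have h6 : d ∣ 2 := by
      have := (Nat.dvd_sub h5 h3)
      have h7 : q + 1 - (q - 1) = 2 := by omega
      rwa [h7] at this
    have h8 : d = 2 := (Nat.prime_dvd_prime_iff_eq hd Nat.prime_two).1 h6
    rw [h8] at h5
    omega
  have hodd2 : ∀ d : ℕ, d.Prime → d ∣ q - 1 → ¬ d ∣ q := by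
    intro d hd h3 h5
    have := (Nat.dvd_sub h5 h3)
    have h7 : q - (q - 1) = 1 := by omega
    rw [h7] at this
    exact hd.one_lt.ne' (Nat.dvd_one.1 this)
  have hodd3 : ∀ d : ℕ, d.Prime → d ∣ q → ¬ d ∣ q + 1 := by
    intro d hd h3 h5
    exact hd.one_lt.ne' (Nat.dvd_one.1 ((Nat.dvd_add_right h3).1 h5))
  rcases hn with rfl | rfl | rfl
  · refine key (q * (q + 1)) rfl fun h => ?_
    rcases hl.dvd_mul.1 h with h | h
    · exact hodd2 l hl hln h
    · exact hodd1 l hl hln h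
  · refine key ((q - 1) * (q + 1)) (by ring) fun h => ?_
    rcases hl.dvd_mul.1 h with h | h
    · exact hodd2 l hl h hln
    · exact hodd3 l hl hln h
  · refine key ((q - 1) * q) (by ring) fun h => ?_
    rcases hl.dvd_mul.1 h with h | h
    · exact hodd1 l hl h hln
    · exact hodd3 l hl h hln

theorem rows_psl_two_even {F : Type*} [Field F] [Fintype F] [CharP F 2] (h4 : 4 ≤ Fintype.card F) :
    Rows (Matrix.ProjectiveSpecialLinearGroup (Fin 2) F) := by
  have e : Matrix.ProjectiveSpecialLinearGroup (Fin 2) F ≃* Matrix.SpecialLinearGroup (Fin 2) F :=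
    (QuotientGroup.quotientMulEquivOfEq (S4812.center_eq_bot F)).trans QuotientGroup.quotientBot
  refine Rows.mulEquiv ?_ e.symm
  have hcard : Nat.card (Matrix.SpecialLinearGroup (Fin 2) F) =
      Fintype.card F * (Fintype.card F ^ 2 - 1) := ClassicalGeometry.PSL2Basic.card_SL2 F
  have hfac : Nat.card (Matrix.SpecialLinearGroup (Fin 2) F) =
      (Fintype.card F - 1) * (Fintype.card F * (Fintype.card F + 1)) := by
    rw [hcard, ← one_pow 2, Nat.sq_sub_sq]
    ring_nf
  have heven : 2 ∣ Fintype.card F := by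
    have h8 : (Fintype.card F : F) = 0 := FiniteField.cast_card_eq_zero F
    exact (CharP.cast_eq_zero_iff F 2 _).1 h8
  obtain ⟨l, hl, hlq⟩ := Nat.exists_prime_and_dvd (show Fintype.card F - 1 ≠ 1 by omega)
  obtain ⟨m, hm, hmq⟩ := Nat.exists_prime_and_dvd (show Fintype.card F + 1 ≠ 1 by omega)
  have hl2 : l ≠ 2 := by rintro rfl; omega
  have hm2 : m ≠ 2 := by rintro rfl; omega
  have hlm : l ≠ m := by
    rintro rfl
    have h6 : l ∣ 2 := by
      have := (Nat.dvd_sub hmq hlq)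
      have h7 : Fintype.card F + 1 - (Fintype.card F - 1) = 2 := by omega
      rwa [h7] at this
    exact hl2 ((Nat.prime_dvd_prime_iff_eq hl Nat.prime_two).1 h6)
  have k1 : Kill (Matrix.SpecialLinearGroup (Fin 2) F) l :=
    kill_of_degree h4 (MulEquiv.refl _) (Or.inl rfl) hl hlq
  have k2 : Kill (Matrix.SpecialLinearGroup (Fin 2) F) 2 :=
    kill_of_degree h4 (MulEquiv.refl _) (Or.inr (Or.inl rfl)) Nat.prime_two heven
  have k3 : Kill (Matrix.SpecialLinearGroup (Fin 2) F) m :=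
    kill_of_degree h4 (MulEquiv.refl _) (Or.inr (Or.inr rfl)) hm hmq
  have d1 : l ∣ Nat.card (Matrix.SpecialLinearGroup (Fin 2) F) := by
    rw [hfac]; exact dvd_mul_of_dvd_left hlq _
  have d2 : 2 ∣ Nat.card (Matrix.SpecialLinearGroup (Fin 2) F) := by
    rw [hfac]; exact dvd_mul_of_dvd_right (dvd_mul_of_dvd_left heven _) _
  have d3 : m ∣ Nat.card (Matrix.SpecialLinearGroup (Fin 2) F) := by
    rw [hfac]; exact dvd_mul_of_dvd_right (dvd_mul_of_dvd_right hmq _) _
  refine ⟨row56_of_kill 2 l Nat.prime_two hl hl2.symm k2 k1 d2 d1, ?_⟩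
  refine row57_of_kill_three ![2, l, m] ?_ ?_ ?_ ?_
  · intro i; fin_cases i
    · exact Nat.prime_two
    · exact hl
    · exact hm
  · intro i j hij
    fin_cases i <;> fin_cases j <;> simp at hij ⊢ <;> first | exact absurd hij hl2.symm | exact absurd hij hl2 | exact absurd hij hm2.symm | exact absurd hij hm2 | exact absurd hij hlm | exact absurd hij hlm.symm
  · intro i; fin_cases i
    · exact d2
    · exact d1
    · exact d3
  · intro i; fin_cases i
    · exact k2
    · exact k1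
    · exact k3

theorem rows_psl_two {F : Type} [Field F] [Fintype F] (h4 : 4 ≤ Fintype.card F) :
    Rows (Matrix.ProjectiveSpecialLinearGroup (Fin 2) F) := by
  obtain ⟨p, hp, hc⟩ := OddHalf.Known.char_cases (F := F)
  by_cases h2 : p = 2
  · subst h2
    exact rows_psl_two_even h4
  · have hodd : Odd (Fintype.card F) := by
      have : Fact p.Prime := ⟨hp⟩
      obtain ⟨n, -, hn⟩ := FiniteField.card F p
      rw [hn]
      exact (hp.odd_of_ne_two h2).pow
    by_cases h5 : Fintype.card F = 5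
    · obtain ⟨e⟩ := Cfsg.Agent.S0253.result (F := F) h5
      exact (rows_alt (n := 5) le_rfl).mulEquiv e.symm
    · have h7 : 7 ≤ Fintype.card F := by
        obtain ⟨k, hk⟩ := hodd
        omega
      exact rows_of_coprime fun l m hl hm => H714.PslMore.exists_vz_coprime hodd h7 hl hm

/-! ### The remaining small groups -/

/-- The primes of `PSL_n(q)`. -/
theorem kill_psl {F : Type*} [Field F] [Fintype F] {n : ℕ} (hn : 3 ≤ n) {t e : ℕ} (ht : t.Prime)
    (hs : Lin.Small F t e) (he : 2 < e) (hne : n < e + 2) :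
    Kill (Matrix.ProjectiveSpecialLinearGroup (Fin n) F) t := by
  have := Fact.mk ht
  let a : Fin n → F := Pi.single ⟨0, by omega⟩ 1
  let φ : Fin n → F := Pi.single ⟨1, by omega⟩ 1
  let φl : (Fin n → F) →ₗ[F] F :=
    { toFun := fun v => φ ⬝ᵥ v
      map_add' := fun v w => dotProduct_add _ _ _
      map_smul' := fun d v => by simp [dotProduct_smul] }
  have h : φ ⬝ᵥ a = 0 := by
    show (Pi.single _ (1 : F)) ⬝ᵥ a = 0
    rw [single_dotProduct, one_mul]
    exact Pi.single_eq_of_ne (fun h => absurd (congrArg Fin.val h) (by simp)) _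
  have ha : a ≠ 0 := by
    intro h1
    have := congrFun h1 ⟨0, by omega⟩
    simp [a] at this
  have hv₀ : φ ⬝ᵥ (Pi.single ⟨1, by omega⟩ (1 : F)) = 1 := by
    show (Pi.single _ (1 : F)) ⬝ᵥ _ = 1
    rw [single_dotProduct, one_mul, Pi.single_eq_same]
  exact (Lin.kill_of_transvection (RowSL.pr n F) (QuotientGroup.mk'_surjective _) (RowSL.toM n F)
    (fun g hg => RowSL.pr_eq_one hg) (fun g hg => by
      have : g = 1 := Subtype.ext hg
      rw [this, map_one]) hs (RowSL.tv a φ h) a φl (RowSL.tv_mulVec a φ h) ha h _ hv₀ he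
      (by simpa using hne) (by rw [Fintype.card_fin]; omega)).1

theorem rows_psl_three_four {K : Type*} [Group K] [Finite K] [IsSimpleGroup K]
    (hK : IsLieTypeChar 2 K) {F : Type} [Field F] [Fintype F] (hF : Fintype.card F = 4)
    (e : K ≃* Matrix.ProjectiveSpecialLinearGroup (Fin 3) F) : Rows K := by
  have k2 : Kill K 2 := kill_of_lie Nat.prime_two hK
  have k7 : Kill K 7 := by
    refine Kill.mulEquiv ?_ e.symm
    refine kill_psl le_rfl (t := 7) (e := 3) (by norm_num) ⟨by rw [hF]; norm_num, ?_⟩ (by norm_num)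
      (by norm_num)
    intro i hi0 hi
    rw [hF]
    interval_cases i <;> norm_num
  have hcard : Nat.card K = 20160 := by
    rw [Nat.card_congr e.toEquiv, CTwoTab.card_PSL_three F hF]
  have f2 : Fact (Nat.Prime 2) := ⟨Nat.prime_two⟩
  have f5 : Fact (Nat.Prime 5) := ⟨by norm_num⟩
  have f7 : Fact (Nat.Prime 7) := ⟨by norm_num⟩
  obtain ⟨x2, hx2⟩ := exists_prime_orderOf_dvd_card' (G := K) 2 (by rw [hcard]; norm_num)
  obtain ⟨x5, hx5⟩ := exists_prime_orderOf_dvd_card' (G := K) 5 (by rw [hcard]; norm_num)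
  obtain ⟨x7, hx7⟩ := exists_prime_orderOf_dvd_card' (G := K) 7 (by rw [hcard]; norm_num)
  have v5 : VZ K x5 := by
    have h1 : VZ _ (e x5) := H690.LThreeFour.vz_five hF (by rw [MulEquiv.orderOf_eq, hx5])
    have h2 := H713.VZ.mulEquiv e.symm h1
    rwa [e.symm_apply_apply] at h2
  refine ⟨row56_of_kill 2 7 Nat.prime_two (by norm_num) (by norm_num) k2 k7
    (by rw [hcard]; norm_num) (by rw [hcard]; norm_num), ?_⟩
  refine row57_of_three ![x2, x5, x7] ![2, 5, 7] ?_ ?_ ?_ ?_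
  · intro i; fin_cases i <;> norm_num
  · intro i j hij
    fin_cases i <;> fin_cases j <;> simp at hij ⊢
  · intro i; fin_cases i <;> simp [hx2, hx5, hx7]
  · intro i; fin_cases i
    · exact k2.vz (x := x2) (by rw [hx2])
    · exact v5
    · exact k7.vz (x := x7) (by rw [hx7])


theorem rows_psl_three_two {F : Type} [Field F] [Fintype F] (hF : Fintype.card F = 2) :
    Rows (Matrix.ProjectiveSpecialLinearGroup (Fin 3) F) := by
  have : Fact (Nat.Prime 7) := ⟨by norm_num⟩
  obtain ⟨e⟩ := Cfsg.Agent.S0255.result (F := ZMod 7) (K := F) (ZMod.card 7) hF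
  exact (rows_psl_two (F := ZMod 7) (by rw [ZMod.card]; norm_num)).mulEquiv e

/-! ### The classical families -/

variable {K : Type*} [Group K] [Finite K] [IsSimpleGroup K] {p : ℕ}

theorem rows_isPSL (hp : p.Prime) (h : IsPSLChar p K) : Rows K := by
  have hK : IsLieTypeChar p K := Or.inl h
  obtain ⟨F, _, _, _, n, hn, h4, ⟨e⟩⟩ := h
  have : Fact p.Prime := ⟨hp⟩
  by_cases h2 : n = 2
  · subst h2
    exact (rows_psl_two (h4 rfl)).mulEquiv e.symm
  · have hn3 : 3 ≤ n := by omega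
    by_cases h32 : n = 3 ∧ Fintype.card F = 2
    · obtain ⟨rfl, hF⟩ := h32
      exact (rows_psl_three_two hF).mulEquiv e.symm
    · by_cases h34 : n = 3 ∧ Fintype.card F = 4
      · obtain ⟨rfl, hF⟩ := h34
        have hp2 : p = 2 := by
          have h8 : ((4 : ℕ) : F) = 0 := by rw [← hF]; exact FiniteField.cast_card_eq_zero F
          have h9 : p ∣ 2 ^ 2 := (CharP.cast_eq_zero_iff F p _).1 h8
          exact (Nat.prime_dvd_prime_iff_eq hp Nat.prime_two).1 (hp.dvd_of_dvd_pow h9)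
        subst hp2
        exact rows_psl_three_four hK hF e
      · refine rows_of_lieGood hp hK (LieGood.mulEquiv (RowSL.lieGood_psl hn3 ?_ p) e.symm)
        intro h3
        exact ⟨fun h => h32 ⟨h3, h⟩, fun h => h34 ⟨h3, h⟩⟩

theorem rows_isPSp (hp : p.Prime) (h : IsPSpChar p K) : Rows K := by
  have hK : IsLieTypeChar p K := Or.inr (Or.inl h)
  obtain ⟨F, _, _, _, m, hm, h3, ⟨e⟩⟩ := h
  have : Fact p.Prime := ⟨hp⟩
  by_cases hex : Fintype.card F = 2 ∧ m = 3
  · obtain ⟨hF, rfl⟩ := hex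
    exact rows_of_lieGood hp hK (LieGood.mulEquiv (RowSmall.lieGood_sp hF p) e.symm)
  · exact rows_of_lieGood hp hK (LieGood.mulEquiv (RowSp.lieGood_psp hm hex p) e.symm)

theorem rows_isPSU (hp : p.Prime) (h : IsPSUChar p K) : Rows K := by
  have hK : IsLieTypeChar p K := Or.inr (Or.inr (Or.inl h))
  obtain ⟨F, _, _, _, n, q, hF, hn, h3, ⟨e⟩⟩ := h
  have : Fact p.Prime := ⟨hp⟩
  by_cases h4 : n = 4 ∧ q = 2
  · obtain ⟨rfl, rfl⟩ := h4
    have : Fact (Nat.Prime 3) := ⟨Nat.prime_three⟩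
    obtain ⟨f⟩ := Cfsg.Agent.S0822.result (F := F) (K := ZMod 3) (by rw [hF]; norm_num) (ZMod.card 3)
    have h5 : IsPSpChar 3 K := ⟨ZMod 3, inferInstance, inferInstance, inferInstance, 2, le_rfl,
      fun _ => by rw [ZMod.card], ⟨e.trans f⟩⟩
    exact rows_isPSp Nat.prime_three h5
  · exact rows_of_lieGood hp hK (LieGood.mulEquiv (RowSU.lieGood_psu hF hn h3 h4 p) e.symm)

theorem rows_isPOmegaOdd (hp : p.Prime) (h : IsPOmegaOddChar p K) : Rows K := by
  have hK : IsLieTypeChar p K := Or.inr (Or.inr (Or.inr (Or.inl h)))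
  obtain ⟨F, _, _, _, m, hm, hodd, ⟨e⟩⟩ := h
  have : Fact p.Prime := ⟨hp⟩
  exact rows_of_lieGood hp hK (LieGood.mulEquiv (RowOm.lieGood_odd hodd hm p) e.symm)

theorem rows_isPOmegaPlus (hp : p.Prime) (h : IsPOmegaPlusChar p K) : Rows K := by
  have hK : IsLieTypeChar p K := Or.inr (Or.inr (Or.inr (Or.inr (Or.inl h))))
  obtain ⟨F, _, _, _, m, hm, ⟨e⟩⟩ := h
  have : Fact p.Prime := ⟨hp⟩
  by_cases hex : Fintype.card F = 2 ∧ m = 4
  · obtain ⟨hF, rfl⟩ := hex
    exact rows_of_lieGood hp hK (LieGood.mulEquiv (RowSmall.lieGood_om hF p) e.symm)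
  · exact rows_of_lieGood hp hK (LieGood.mulEquiv (RowOm.lieGood_plus hm hex p) e.symm)

theorem rows_isPOmegaMinus (hp : p.Prime) (h : IsPOmegaMinusChar p K) : Rows K := by
  have hK : IsLieTypeChar p K := Or.inr (Or.inr (Or.inr (Or.inr (Or.inr (Or.inl h)))))
  obtain ⟨F, _, _, _, m, a, b, hm, hab, ⟨e⟩⟩ := h
  have : Fact p.Prime := ⟨hp⟩
  exact rows_of_lieGood hp hK (LieGood.mulEquiv (RowOm.lieGood_minus hm hab p) e.symm)

omit [Finite K] [IsSimpleGroup K] in
theorem rows_isAlternating (h : IsAlternating K) : Rows K := by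
  obtain ⟨n, hn, ⟨e⟩⟩ := h
  exact (rows_alt hn).mulEquiv e.symm

end Cfsg.Agent.H620.RowClass
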