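import Cfsg.Agent.H620.ChevTbl
import Cfsg.Agent.H620.ChevCnt
import Cfsg.Agent.H620.RowClass
import Cfsg.Agent.S1059
import Cfsg.Agent.S1062
import Cfsg.Agent.S1063
import Cfsg.Agent.S1064
import Cfsg.Agent.S1065

/-!
# The rows of the exceptional Chevalley groups (helper620)
-/

set_option autoImplicit false
set_option linter.unusedSectionVars false

namespace Cfsg.Agent.H620.RowChev

open CoxeterSystem Cfsg.Agent.ChevalleyStructure.CoxeterGeom Cfsg.Agent.Tits.Roots Cfsg.Agent.Tits.Core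
  Cfsg.Agent.Nodes.Reps Cfsg.Agent.Nodes.BNOf Cfsg.Agent.Nodes.Coroot Cfsg.Agent.Nodes.RGDChev
  Cfsg.Agent.KFacts.RgdTI Cfsg.Agent.KFacts.RgdPar Cfsg.Agent.Nodes.Bruhat
open Cfsg Cfsg.Lie Cfsg.Agent.H620.ExcIndex Cfsg.Agent.H620.ChevChk Cfsg.Agent.H620.ChevTbl
  Cfsg.Agent.H620.ChevCnt
open Cfsg.Agent.ChevalleyStructure Cfsg.Agent.ChevalleyStructure.RootVec
  Cfsg.Agent.ChevalleyStructure.NPerm
open Cfsg.Agent.KFacts.RgdChevCoord (TT XX nc)

theorem not_dvd_P {P N d Q A D B Z t : ℕ} (ht : t.Prime) (h1 : d * (P * N) = Q * A * Z) (h2 : N * D = B * Z)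
    (hZ : 0 < Z) (hQ : ¬ t ∣ Q) (hA : ¬ t ∣ A) (hD : ¬ t ∣ D) : ¬ t ∣ P := by
  intro h
  have h3 : (d * P * B) * Z = (Q * A * D) * Z := by
    calc (d * P * B) * Z = d * P * (B * Z) := by ring
      _ = d * P * (N * D) := by rw [h2]
      _ = d * (P * N) * D := by ring
      _ = _ := by rw [h1]; ring
  have h4 := Nat.eq_of_mul_eq_mul_right hZ h3
  have h5 : t ∣ Q * A * D := by
    rw [← h4]
    exact dvd_mul_of_dvd_left (dvd_mul_of_dvd_right h _) _
  rcases ht.dvd_mul.1 h5 with h6 | h6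
  · rcases ht.dvd_mul.1 h6 with h7 | h7
    · exact hQ h7
    · exact hA h7
  · exact hD h6

theorem sum_OO {D : ChevalleyDatum} {l : ℕ} {M : CoxeterMatrix (Fin l)} (hp : IsType D l M)
    (c : ℕ → ℤ) (m H : ℤ) (sh : List ℕ) (q : ℕ) :
    ∑ s ∈ OO D l sh m, q ^ Kv c m H s = ev (cntL (exs D c m H sh)) q := by
  classical
  rw [ev_cntL]
  unfold OO exs
  rw [Finset.sum_image]
  · rw [List.map_map]
    have e : (Finset.range D.nroots).filter (fun r => lg D sh m r = true) =
        ((List.range D.nroots).filter fun r => lg D sh m r).toFinset := by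
      ext r
      simp
    rw [e, List.sum_toFinset]
    · congr 1
      refine List.map_congr_left fun r _ => ?_
      show q ^ KK m H (Fv c (vec D l r)) = _
      rw [Fv_vec hp]
      rfl
    · exact List.nodup_range.filter _
  · intro r hr s hs e
    rw [Finset.mem_coe, Finset.mem_filter, Finset.mem_range] at hr hs
    exact vec_inj hp hr.1 hs.1 e

/-- **`LieGood` for the exceptional Chevalley groups**, from the tables. -/
theorem lieGood_chev {D : ChevalleyDatum} {l : ℕ} {M : CoxeterMatrix (Fin l)} (hp : IsType D l M)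
    {K : Type} [Field K] [Fintype K] (p : ℕ) [Fact p.Prime] [CharP K p] {c : ℕ → ℤ} {m H : ℤ} {sh : List ℕ}
    {s0 : ℕ} (hs0 : s0 < D.nroots) (hlg : lg D sh m s0 = true) (h0 : KK m H (FI D c s0) = 0)
    (h : chk D c m H sh s0 = true) (hL : chkL D s0 = true) (hD : chkD D s0 = true) (i₀ j : Fin l)
    (hi₀ : lg D sh m (D.simple i₀) = true) (hj : D.cartan j s0 = 0)
    {cl : List ℕ} (hcl : cntL (exs D c m H sh) = cl) {d Q A Z Dd B t : ℕ}
    (hcard : d * Nat.card (D.group K) = Q * A * Z) (hpoly : ev cl (Fintype.card K) * Dd = B * Z)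
    (hZ : 0 < Z) (ht : t.Prime) (htp : t ≠ p) (hd : ¬ t ∣ d) (htZ : t ∣ Z) (hQ : ¬ t ∣ Q) (hA : ¬ t ∣ A)
    (hDd : ¬ t ∣ Dd) (hq1 : ¬ t ∣ Fintype.card K + 1) : LieGood (D.group K) p := by
  classical
  let cs := M.toCoxeterSystem
  have : Finite M.Group := finite_W hp cs
  have hG : GG cs hp.isCartan ((D.diagonalSubgroup K).subgroupOf (D.group K)) (XX D l K) = ⊤ :=
    KFacts.Mult.RGDW.GG_eq_top_of_G1 (G1_eq_top hp cs)
  have L := lr (K := K) hp cs p hs0 hL
  have hd' := dom hp cs hs0 hD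
  have Tb := tbl hp cs hs0 hlg h0 h
  have hcX : ∀ i : Fin l, Nat.card (XX D l K (sr i)) = Fintype.card K := by
    intro i
    rw [← vec_simple hp i, ← Nat.card_eq_fintype_card]
    exact GenExc.Chev.card_XX hp (simple_lt hp.inList (lt_rank hp i))
  have hq0 : 0 < Fintype.card K := Fintype.card_pos
  have hidx := index_of_tbl hG L hd' Tb hq0 (q := Fintype.card K) (fun i => by rw [hcX, pow_one])
  rw [sum_OO hp, hcl] at hidx
  have hPN := Subgroup.card_mul_index (PS ((D.diagonalSubgroup K).subgroupOf (D.group K)) (XX D l K)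
    (Ge cs hp.isCartan (vec D l s0)))
  rw [hidx] at hPN
  have hP : ¬ t ∣ Nat.card (PS ((D.diagonalSubgroup K).subgroupOf (D.group K)) (XX D l K)
      (Ge cs hp.isCartan (vec D l s0))) :=
    not_dvd_P ht (by rw [hPN]; exact hcard) hpoly hZ hQ hA hDd
  have htY : t ∣ Nat.card (D.group K) := by
    have h1 : t ∣ d * Nat.card (D.group K) := by
      rw [hcard]
      exact dvd_mul_of_dvd_right htZ _
    exact (ht.dvd_mul.1 h1).resolve_left hd
  obtain ⟨w, hw⟩ := (Tb.orbit (sr i₀)).1 (by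
    rw [← vec_simple hp i₀]
    exact Finset.mem_image.2 ⟨D.simple i₀, Finset.mem_filter.2
      ⟨Finset.mem_range.2 (simple_lt hp.inList (lt_rank hp i₀)), hi₀⟩, rfl⟩)
  have hw' : rep cs hp.isCartan w⁻¹ (sr i₀) = vec D l s0 := by
    rw [← hw, rep_inv_apply]
  have hj' : cpr cs hp.isCartan (sr j) (vec D l s0) = 0 := by
    have h1 := cartan_sign hp cs j hs0
    rw [hj] at h1
    have h2 := h1.1
    have h3 := h1.2
    simp only [lt_self_iff_false, iff_false, not_lt] at h2 h3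
    omega
  exact RootLie.lieGood_of_lr hG L hd' ht htp hP htY hw' (by rw [hcX]; exact hq1) hj'

/-! ### The families -/

section Families

variable {K : Type} [Field K] [Fintype K] (p : ℕ) [hp : Fact p.Prime] [CharP K p]

theorem ne_char {t : ℕ} (ht : ¬ t ∣ Fintype.card K) : t ≠ p := by
  rintro rfl
  obtain ⟨n, -, hn⟩ := FiniteField.card K t
  apply ht
  rw [hn]
  exact dvd_pow_self t n.pos.ne'

theorem not_dvd_succ {q n t : ℕ} (hq : 2 ≤ q) (ht : t.Prime) (hn : 3 ≤ n) (hprim : ∀ m, t ∣ q ^ m - 1 ↔ n ∣ m) :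
    ¬ t ∣ q + 1 := by
  intro h
  have h1 : q ^ 2 - 1 = (q + 1) * (q - 1) := by rw [← one_pow 2, Nat.sq_sub_sq, one_pow]
  have h2 := (hprim 2).1 (by rw [h1]; exact dvd_mul_of_dvd_left h _)
  have := Nat.le_of_dvd (by norm_num) h2
  omega

theorem not_dvd_gcd {q n t k : ℕ} (ht : t.Prime) (hn : 3 ≤ n) (hprim : ∀ m, t ∣ q ^ m - 1 ↔ n ∣ m) :
    ¬ t ∣ Nat.gcd k (q - 1) := by
  intro h
  have h2 := (hprim 1).1 (by rw [pow_one]; exact h.trans (Nat.gcd_dvd_right _ _))
  have := Nat.le_of_dvd (by norm_num) h2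
  omega

theorem isTy_G2 : IsType chevG2 2 CoxeterMatrix.G₂ := by simp [IsType, typeList]
theorem isTy_F4 : IsType chevF4 4 CoxeterMatrix.F₄ := by simp [IsType, typeList]
theorem isTy_E6 : IsType chevE6 6 CoxeterMatrix.E₆ := by simp [IsType, typeList]
theorem isTy_E7 : IsType chevE7 7 CoxeterMatrix.E₇ := by simp [IsType, typeList]
theorem isTy_E8 : IsType chevE8 8 CoxeterMatrix.E₈ := by simp [IsType, typeList]

theorem pred_pos {q k : ℕ} (hq : 2 ≤ q) (hk : 0 < k) : 0 < q ^ k - 1 := by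
  have := Nat.one_lt_pow hk.ne' (show 1 < q by omega)
  omega

theorem not_dvd_pow {q t k : ℕ} (ht : t.Prime) (h : ¬ t ∣ q) : ¬ t ∣ q ^ k := fun h1 => h (ht.dvd_of_dvd_pow h1)

theorem lieGood_G2 (h3 : 3 ≤ Fintype.card K) : LieGood (chevG2.group K) p := by
  have hq : 2 ≤ Fintype.card K := by omega
  obtain ⟨t, ht, hprim, -, htq⟩ := Cfsg.Agent.Lib.Zsigmondy.exists_primitive (a := Fintype.card K)
    (n := 6) hq (by norm_num) (by norm_num) (by omega)
  refine lieGood_chev isTy_G2 p (m := 3) (H := 3) (s0 := 11) (by decide +kernel) (by decide +kernel)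
    (by decide +kernel) chk_G2 chkL_G2 chkD_G2 1 0 (by decide +kernel) (by decide +kernel) cnt_G2 (d := 1)
    (Q := Fintype.card K ^ 6) (A := Fintype.card K ^ 2 - 1) (Z := Fintype.card K ^ 6 - 1)
    (by rw [one_mul]; exact Cfsg.Agent.S1059.result rfl) (poly_G2 (by omega)) (pred_pos hq (by norm_num)) ht
    (ne_char p htq) (by rw [Nat.dvd_one]; exact ht.one_lt.ne') ((hprim _).2 dvd_rfl) (not_dvd_pow ht htq) ?_ ?_
    (not_dvd_succ hq ht (by norm_num) hprim)
  · rw [hprim]; omega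
  · rw [hprim]; omega

theorem lieGood_F4 : LieGood (chevF4.group K) p := by
  have hq : 2 ≤ Fintype.card K := Fintype.one_lt_card
  obtain ⟨t, ht, hprim, -, htq⟩ := Cfsg.Agent.Lib.Zsigmondy.exists_primitive (a := Fintype.card K)
    (n := 12) hq (by norm_num) (by norm_num) (by omega)
  refine lieGood_chev isTy_F4 p (m := 2) (H := 8) (s0 := 47) (by decide +kernel) (by decide +kernel)
    (by decide +kernel) chk_F4 chkL_F4 chkD_F4 3 0 (by decide +kernel) (by decide +kernel) cnt_F4 (d := 1)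
    (Q := Fintype.card K ^ 24) (A := (Fintype.card K ^ 2 - 1) * (Fintype.card K ^ 6 - 1) * (Fintype.card K ^ 8 - 1))
    (Z := Fintype.card K ^ 12 - 1)
    (by rw [one_mul, Cfsg.Agent.S1062.result rfl]; ring) (poly_F4 (by omega)) (pred_pos hq (by norm_num)) ht
    (ne_char p htq) (by rw [Nat.dvd_one]; exact ht.one_lt.ne') ((hprim _).2 dvd_rfl) (not_dvd_pow ht htq) ?_ ?_
    (not_dvd_succ hq ht (by norm_num) hprim)
  · simp only [ht.dvd_mul, hprim]; omega
  · simp only [ht.dvd_mul, hprim]; omega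

theorem lieGood_E6 : LieGood (chevE6.group K) p := by
  have hq : 2 ≤ Fintype.card K := Fintype.one_lt_card
  obtain ⟨t, ht, hprim, -, htq⟩ := Cfsg.Agent.Lib.Zsigmondy.exists_primitive (a := Fintype.card K)
    (n := 12) hq (by norm_num) (by norm_num) (by omega)
  refine lieGood_chev isTy_E6 p (m := 1) (H := 11) (s0 := 71) (by decide +kernel) (by decide +kernel)
    (by decide +kernel) chk_E6 chkL_E6 chkD_E6 0 0 (by decide +kernel) (by decide +kernel) cnt_E6
    (d := Nat.gcd 3 (Fintype.card K - 1))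
    (Q := Fintype.card K ^ 36) (A := (Fintype.card K ^ 2 - 1) * (Fintype.card K ^ 5 - 1) * (Fintype.card K ^ 6 - 1) *
      (Fintype.card K ^ 8 - 1) * (Fintype.card K ^ 9 - 1))
    (Z := Fintype.card K ^ 12 - 1)
    (by rw [Cfsg.Agent.S1063.result rfl]; ring) (poly_E6 (by omega)) (pred_pos hq (by norm_num)) ht
    (ne_char p htq) (not_dvd_gcd ht (by norm_num) hprim) ((hprim _).2 dvd_rfl) (not_dvd_pow ht htq) ?_ ?_
    (not_dvd_succ hq ht (by norm_num) hprim)
  · simp only [ht.dvd_mul, hprim]; omega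
  · simp only [ht.dvd_mul, hprim]; omega

theorem lieGood_E7 : LieGood (chevE7.group K) p := by
  have hq : 2 ≤ Fintype.card K := Fintype.one_lt_card
  obtain ⟨t, ht, hprim, -, htq⟩ := Cfsg.Agent.Lib.Zsigmondy.exists_primitive (a := Fintype.card K)
    (n := 18) hq (by norm_num) (by norm_num) (by omega)
  refine lieGood_chev isTy_E7 p (m := 1) (H := 17) (s0 := 125) (by decide +kernel) (by decide +kernel)
    (by decide +kernel) chk_E7 chkL_E7 chkD_E7 0 6 (by decide +kernel) (by decide +kernel) cnt_E7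
    (d := Nat.gcd 2 (Fintype.card K - 1))
    (Q := Fintype.card K ^ 63) (A := (Fintype.card K ^ 2 - 1) * (Fintype.card K ^ 6 - 1) * (Fintype.card K ^ 8 - 1) *
      (Fintype.card K ^ 10 - 1) * (Fintype.card K ^ 12 - 1) * (Fintype.card K ^ 14 - 1))
    (Z := Fintype.card K ^ 18 - 1)
    (by rw [Cfsg.Agent.S1064.result rfl]; ring) (poly_E7 (by omega)) (pred_pos hq (by norm_num)) ht
    (ne_char p htq) (not_dvd_gcd ht (by norm_num) hprim) ((hprim _).2 dvd_rfl) (not_dvd_pow ht htq) ?_ ?_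
    (not_dvd_succ hq ht (by norm_num) hprim)
  · simp only [ht.dvd_mul, hprim]; omega
  · simp only [ht.dvd_mul, hprim]; omega

theorem lieGood_E8 : LieGood (chevE8.group K) p := by
  have hq : 2 ≤ Fintype.card K := Fintype.one_lt_card
  obtain ⟨t, ht, hprim, -, htq⟩ := Cfsg.Agent.Lib.Zsigmondy.exists_primitive (a := Fintype.card K)
    (n := 30) hq (by norm_num) (by norm_num) (by omega)
  refine lieGood_chev isTy_E8 p (m := 1) (H := 29) (s0 := 239) (by decide +kernel) (by decide +kernel)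
    (by decide +kernel) chk_E8 chkL_E8 chkD_E8 0 0 (by decide +kernel) (by decide +kernel) cnt_E8
    (d := 1)
    (Q := Fintype.card K ^ 120) (A := (Fintype.card K ^ 2 - 1) * (Fintype.card K ^ 8 - 1) *
      (Fintype.card K ^ 12 - 1) * (Fintype.card K ^ 14 - 1) * (Fintype.card K ^ 18 - 1) * (Fintype.card K ^ 20 - 1) *
      (Fintype.card K ^ 24 - 1))
    (Z := Fintype.card K ^ 30 - 1)
    (by rw [one_mul, Cfsg.Agent.S1065.result rfl]; ring) (poly_E8 (by omega)) (pred_pos hq (by norm_num)) ht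
    (ne_char p htq) (by rw [Nat.dvd_one]; exact ht.one_lt.ne') ((hprim _).2 dvd_rfl) (not_dvd_pow ht htq) ?_ ?_
    (not_dvd_succ hq ht (by norm_num) hprim)
  · simp only [ht.dvd_mul, hprim]; omega
  · simp only [ht.dvd_mul, hprim]; omega

end Families

theorem lieGood_exceptional {G : Type*} [Group G] {p : ℕ} (hp : p.Prime) (h : IsExceptionalChevChar p G) :
    LieGood G p := by
  have : Fact p.Prime := ⟨hp⟩
  obtain ⟨F, _, _, _, ⟨h3, ⟨e⟩⟩ | ⟨⟨e⟩⟩ | ⟨⟨e⟩⟩ | ⟨⟨e⟩⟩ | ⟨⟨e⟩⟩⟩ := h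
  · exact (lieGood_G2 p h3).mulEquiv e.symm
  · exact (lieGood_F4 p).mulEquiv e.symm
  · exact (lieGood_E6 p).mulEquiv e.symm
  · exact (lieGood_E7 p).mulEquiv e.symm
  · exact (lieGood_E8 p).mulEquiv e.symm

theorem rows_exceptional {G : Type*} [Group G] [Finite G] [IsSimpleGroup G] {p : ℕ} (hp : p.Prime)
    (h : IsExceptionalChevChar p G) : RowClass.Rows G :=
  RowClass.rows_of_lieGood hp (Or.inr (Or.inr (Or.inr (Or.inr (Or.inr (Or.inr (Or.inl h)))))))
    (lieGood_exceptional hp h)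

end Cfsg.Agent.H620.RowChev
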