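import Cfsg.Agent.H620.Reduce
import Cfsg.Agent.H620.PN.Regular
import Cfsg.Agent.H620.PN.Struct

/-!
# Reduction of S4555 and S4559 to simple groups (helper620)

* `vn_of_theta`: elements of a `p`-group with a regular orbit on the characters of a normal
  `p'`-subgroup vanish;
* `vn_of_minimal`: in the situation of a minimal normal `p'`-subgroup;
* `normal_sylow_of_rows`: S4555 from the rows;
* `exists_van_of_rows`: S4559 from the rows.
-/

set_option autoImplicit false

namespace Cfsg.Agent.H620.PNorm

open Cfsg Cfsg.Agent.Characters Cfsg.Agent.H690.Van Subgroup Cfsg.Agent.H620.Solv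
  Cfsg.Agent.H620.PN

universe u

/-- Coprime groups of automorphisms of the simple groups are cyclic. -/
def CCAll : Prop := ∀ (S : Type u) [Group S] [Finite S] [IsSimpleGroup S],
  (∃ a b : S, a * b ≠ b * a) → Cfsg.Agent.H988.CopCyc.CC S

/-- Elements of a `p`-group with a regular orbit on the characters of a normal `p'`-subgroup
vanish. -/
theorem vn_of_theta {G : Type u} [Group G] [Finite G] (N : Subgroup G) [hN : N.Normal]
    (Z : Subgroup G) (hZN : (Z ⊔ N).Normal) (hdis : Z ⊓ N = ⊥) {θ : N → ℂ}
    (hθ : IsIrrCharacter N θ)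
    (hreg : ∀ z ∈ Z, (∀ n : N, θ (MulAut.conjNormal z n) = θ n) → z = 1) :
    ∀ x ∈ Z, x ≠ 1 → Vn x := by
  intro x hx hx1
  refine Vn.of_not_inertia N θ hθ x fun g hg => ?_
  have h1 : g * x * g⁻¹ ∈ Z ⊔ N := hZN.conj_mem x (Subgroup.mem_sup_left hx) g
  rw [← SetLike.mem_coe, Subgroup.mul_normal] at h1
  obtain ⟨y, hy, n, hn, hyn⟩ := h1
  have hyn' : y * n = g * x * g⁻¹ := hyn
  have h2 : y = 1 := by
    apply hreg y hy
    intro a
    have h3 := hg (MulAut.conjNormal n⁻¹ a)
    have h4 : (⟨g * x * g⁻¹ * (MulAut.conjNormal n⁻¹ a : N) * (g * x * g⁻¹)⁻¹,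
        hN.conj_mem _ (MulAut.conjNormal n⁻¹ a : N).2 (g * x * g⁻¹)⟩ : N) =
        MulAut.conjNormal y a := by
      apply Subtype.ext
      show g * x * g⁻¹ * (n⁻¹ * a * n⁻¹⁻¹) * (g * x * g⁻¹)⁻¹ = y * a * y⁻¹
      rw [← hyn']
      group
    rw [h4] at h3
    rw [h3]
    have h5 : MulAut.conjNormal n⁻¹ a = (⟨n, hn⟩ : N)⁻¹ * a * ((⟨n, hn⟩ : N)⁻¹)⁻¹ := by
      apply Subtype.ext
      rfl
    rw [h5]
    exact Core.isIrr_isClassFunction hθ a _
  rw [h2, one_mul] at hyn'
  have h3 : x ∈ N := by
    have := hN.conj_mem _ (hyn' ▸ hn : g * x * g⁻¹ ∈ N) g⁻¹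
    simpa [mul_assoc] using this
  have h4 : x ∈ Z ⊓ N := Subgroup.mem_inf.2 ⟨hx, h3⟩
  rw [hdis, Subgroup.mem_bot] at h4
  exact hx1 h4

/-- In the situation of a minimal normal `p'`-subgroup. -/
theorem vn_of_minimal (hCC : CCAll.{u}) {G : Type u} [Group G] [Finite G] (N : Subgroup G)
    [hN : N.Normal] (hmin : ∀ M : Subgroup G, M.Normal → M ≤ N → M = ⊥ ∨ M = N)
    (p : ℕ) [hp : Fact p.Prime] (hpN : ¬ p ∣ Nat.card N)
    (hcore : ∀ K : Subgroup G, K.Normal → IsPGroup p K → K = ⊥)
    (E : Subgroup G) (hE : IsPGroup p E) (hEN : (E ⊔ N).Normal)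
    (Z : Subgroup G) (hZE : Z ≤ E) (hZN : (Z ⊔ N).Normal) (hZ : ∀ x ∈ Z, ∀ y ∈ Z, x * y = y * x) :
    ∀ x ∈ Z, x ≠ 1 → Vn x := by
  have hcop : (Nat.card N).Coprime p := ((Nat.Prime.coprime_iff_not_dvd hp.out).2 hpN).symm
  have hZp : IsPGroup p Z := hE.to_le hZE
  have hdis : Z ⊓ N = ⊥ := by
    rw [← disjoint_iff]
    apply disjoint_of_coprime_natCard
    obtain ⟨m, hm⟩ := (IsPGroup.iff_card).1 hZp
    rw [hm]
    exact Nat.Coprime.pow_left m hcop.symm
  by_cases hna : ∀ x ∈ N, ∀ y ∈ N, Commute x y
  · have hC := inf_centralizer N hcop E hE hEN (Or.inl fun a ha b hb => hna a ha b hb) hcore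
    obtain ⟨θ, hθ, hreg⟩ := exists_theta_ab N (fun a ha b hb => hna a ha b hb) p hpN Z hZ hZp
      (fun z hz h => hC z (hZE hz) h)
    exact vn_of_theta N Z hZN hdis hθ hreg
  · have hC := inf_centralizer N hcop E hE hEN (Or.inr (inf_centralizer_eq_bot N hmin hna)) hcore
    obtain ⟨θ, hθ, hreg⟩ := exists_theta_na hCC N hmin hna p hpN Z hZ hZp
      (fun z hz h => hC z (hZE hz) h)
    exact vn_of_theta N Z hZN hdis hθ hreg

/-- What has to be shown for the simple groups in S4555. -/
def VPow (p : ℕ) (S : Type*) [Group S] : Prop :=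
  ∃ x : S, (∃ j : ℕ, orderOf x = p ^ j) ∧ H713.VZ S x

/-- What has to be shown for the simple groups in S4559. -/
def VOrdP (p : ℕ) (S : Type*) [Group S] : Prop :=
  ∃ x : S, orderOf x = p ∧ H713.VZ S x

theorem VOrdP.vPow {p : ℕ} {S : Type*} [Group S] (h : VOrdP p S) : VPow p S := by
  obtain ⟨x, hx, h⟩ := h
  exact ⟨x, ⟨1, by rw [hx, pow_one]⟩, h⟩

theorem VPow.mulEquiv {p : ℕ} {S : Type*} [Group S] {S' : Type*} [Group S'] (h : VPow p S)
    (e : S ≃* S') : VPow p S' := by
  obtain ⟨x, ⟨j, hj⟩, hx⟩ := h
  exact ⟨e x, ⟨j, by rw [MulEquiv.orderOf_eq, hj]⟩, hx.mulEquiv e⟩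

theorem VOrdP.mulEquiv {p : ℕ} {S : Type*} [Group S] {S' : Type*} [Group S'] (h : VOrdP p S)
    (e : S ≃* S') : VOrdP p S' := by
  obtain ⟨x, hj, hx⟩ := h
  exact ⟨e x, by rw [MulEquiv.orderOf_eq, hj], hx.mulEquiv e⟩

theorem card_quot_lt {G : Type u} [Group G] [Finite G] (L : Subgroup G) (hLb : L ≠ ⊥) :
    Nat.card (G ⧸ L) < Nat.card G := by
  have h1 := Subgroup.card_eq_card_quotient_mul_card_subgroup L
  have h2 : 1 < Nat.card L := by
    rw [Subgroup.one_lt_card_iff_ne_bot]; exact hLb
  have h3 : 0 < Nat.card (G ⧸ L) := Nat.card_pos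
  rw [h1]
  nlinarith

/-- The order of a simple factor is divisible by the primes dividing the order of the minimal
normal subgroup. -/
theorem van_of_minimal_dvd {G : Type u} [Group G] [Finite G] (N : Subgroup G) [N.Normal]
    (hmin : ∀ M : Subgroup G, M.Normal → M ≤ N → M = ⊥ ∨ M = N)
    (hna : ¬ ∀ x ∈ N, ∀ y ∈ N, Commute x y) (p : ℕ) (hp : p.Prime) (hpN : p ∣ Nat.card N) :
    ∃ T : Subgroup G, IsSimpleGroup T ∧ (∃ a b : T, a * b ≠ b * a) ∧ p ∣ Nat.card T ∧
      ∀ x : T, H713.VZ T x → H713.Van G (x : G) := by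
  classical
  obtain ⟨m, T, e, hm, hsimple, hTna, hTinj, hTN, hTn, hconj, htrans, he, hcoord⟩ :=
    Cfsg.Agent.PermutationGroups.OnanScott.exists_coordinates N hmin hna
  set o : Fin m := ⟨0, hm⟩ with ho
  refine ⟨T o, hsimple o, hTna o, ?_, ?_⟩
  · have h1 : Nat.card N = ∏ i, Nat.card (T i) := by
      rw [Nat.card_congr e.toEquiv, Nat.card_pi]
    have h2 : ∀ i, Nat.card (T i) = Nat.card (T o) := by
      intro i
      obtain ⟨g, hg⟩ := htrans o i
      exact (Nat.card_congr (H713.conjIso g hg).toEquiv).symm
    rw [h1] at hpN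
    obtain ⟨i, -, hi⟩ := (Prime.dvd_finsetProd_iff hp.prime _).1 hpN
    rw [← h2 i]
    exact hi
  · intro x hx
    obtain ⟨θ, hθ⟩ := hx
    choose g hg using fun i => htrans o i
    have := Fintype.ofFinite (T o)
    let Θ : N → ℂ := fun n => ∏ i, (θ : T o → ℂ) ((H713.conjIso (g i) (hg i)).symm (e n i))
    have hΘ : IsIrrCharacter N Θ := by
      have h1 := H713.isIrr_pi (ι := Fin m) θ.2
      let E : N ≃* (Fin m → T o) :=
        e.trans (MulEquiv.piCongrRight fun i => (H713.conjIso (g i) (hg i)).symm)
      exact Core.isIrr_comp (E : N →* (Fin m → T o)) E.surjective h1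
    obtain ⟨χ, hχ⟩ := H713.exists_lift N hΘ
    have hvan : ∀ n : N, e n o = x → H713.Van G (n : G) := by
      intro n hn
      refine ⟨χ, hχ n fun k => ?_⟩
      obtain ⟨j, hj⟩ := hconj k o
      refine Finset.prod_eq_zero (Finset.mem_univ j) ?_
      have h1 := H713.coord_conj e hTN he hcoord k o j hj n
      have h2 : e (MulAut.conjNormal k n) j = H713.conjIso k hj x := by
        apply Subtype.ext
        rw [h1, H713.conjIso_apply, hn]
      rw [h2]
      exact hθ ((H713.conjIso k hj).trans (H713.conjIso (g j) (hg j)).symm)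
    have h3 := hvan (e.symm (Pi.mulSingle o x)) (by simp)
    rwa [he] at h3

/-- S4555 from the rows. -/
theorem normal_sylow_of_rows (hCC : CCAll.{u}) {r : ℕ} [hr : Fact r.Prime]
    (hrow : ∀ (S : Type u) [Group S] [Finite S] [IsSimpleGroup S], (∃ a b : S, a * b ≠ b * a) →
      r ∣ Nat.card S → VPow r S) :
    ∀ (n : ℕ) (G : Type u) [Group G] [Finite G], Nat.card G = n → NV r G →
      ∀ R : Sylow r G, (R : Subgroup G).Normal := by
  intro n
  induction n using Nat.strong_induction_on with
  | _ n ih =>
    intro G _ _ hn hV R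
    rcases subsingleton_or_nontrivial G with hs | hnt
    · have : (R : Subgroup G) = ⊥ := Subsingleton.elim _ _
      rw [this]
      infer_instance
    by_cases hcore : ∀ K : Subgroup G, K.Normal → IsPGroup r K → K = ⊥
    · obtain ⟨L, hLn, hLb, -, hmin⟩ := exists_min_le (⊤ : Subgroup G) inferInstance top_ne_bot
      have h1 := sup_normal_of_quot L R (fun S => ih _ (hn ▸ card_quot_lt L hLb) (G ⧸ L) rfl
        (hV.quot hr.out L) S)
      by_cases hrL : r ∣ Nat.card L
      · exfalso
        have hna : ¬ ∀ x ∈ L, ∀ y ∈ L, Commute x y := by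
          intro hab
          -- the Sylow `r`-subgroup of `L` is normal in `G`
          obtain ⟨S⟩ : Nonempty (Sylow r L) := inferInstance
          have hSn : (S : Subgroup L).Normal := by
            constructor
            intro a ha b
            have : b * a * b⁻¹ = a := by
              rw [show b * a = a * b from Subtype.ext (hab b b.2 a a.2), mul_inv_cancel_right]
            rw [this]; exact ha
          have hSc : (S : Subgroup L).Characteristic := Sylow.characteristic_of_normal S hSn
          have hmapn : ((S : Subgroup L).map L.subtype).Normal := inferInstance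
          have h2 := hcore _ hmapn (S.2.map L.subtype)
          rw [Subgroup.map_eq_bot_iff_of_injective _ L.subtype_injective] at h2
          have h3 := S.not_dvd_index
          rw [h2, Subgroup.index_bot] at h3
          exact h3 hrL
        obtain ⟨T, hT, hTna, hTd, hTv⟩ := van_of_minimal_dvd L hmin hna r hr.out hrL
        obtain ⟨x, ⟨j, hj⟩, hx⟩ := hrow T hTna hTd
        exact hV (x : G) ⟨j, by rw [Subgroup.orderOf_coe, hj]⟩ (hTv x hx)
      · by_contra hRn
        have hRb : (R : Subgroup G) ≠ ⊥ := by
          intro h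
          apply hRn
          rw [h]; infer_instance
        have hnt : Nontrivial (R : Subgroup G) := (Subgroup.nontrivial_iff_ne_bot _).2 hRb
        have hZnt := R.2.center_nontrivial
        obtain ⟨⟨z, hz⟩, hz1⟩ := exists_ne (1 : Subgroup.center (R : Subgroup G))
        have hz1' : (z : G) ≠ 1 := fun h => hz1 (Subtype.ext (Subtype.ext h))
        have h2 := vn_of_minimal hCC L hmin r hrL hcore (R : Subgroup G) R.2 h1
          ((Subgroup.center (R : Subgroup G)).map (R : Subgroup G).subtype)
          (Subgroup.map_subtype_le _) (center_sup_normal L R h1) (by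
            rintro _ ⟨a, ha, rfl⟩ _ ⟨b, hb, rfl⟩
            exact congrArg Subtype.val ((Subgroup.mem_center_iff.1 hb) a)) (z : G) ⟨z, hz, rfl⟩ hz1'
        obtain ⟨m, hm⟩ := (IsPGroup.iff_orderOf.1 R.2) z
        exact hV _ ⟨m, by rw [Subgroup.orderOf_coe, hm]⟩ h2
    · push Not at hcore
      obtain ⟨K, hKn, hKr, hKb⟩ := hcore
      have h1 := sup_normal_of_quot K R (fun S => ih _ (hn ▸ card_quot_lt K hKb) (G ⧸ K) rfl
        (hV.quot hr.out K) S)
      have h2 : K ≤ (R : Subgroup G) := by
        have h3 : IsPGroup r (K ⊔ (R : Subgroup G) : Subgroup G) :=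
          hKr.to_sup_of_normal_left R.2
        have h4 := R.3 h3 le_sup_right
        rw [← h4]
        exact le_sup_left
      rwa [sup_eq_left.2 h2] at h1

/-- An element of order `p` of a quotient by a normal `p'`-subgroup lifts to an element of
order `p`. -/
theorem exists_lift_order {G : Type u} [Group G] [Finite G] (N : Subgroup G) [N.Normal] (p : ℕ)
    [hp : Fact p.Prime] (hpN : ¬ p ∣ Nat.card N) (g : G) (hg : orderOf (g : G ⧸ N) = p) :
    ∃ g' : G, (g' : G ⧸ N) = g ∧ orderOf g' = p := by
  obtain ⟨g', h1, m, hm⟩ := exists_lift_pow N hp.out g ⟨1, by rw [hg, pow_one]⟩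
  refine ⟨g', h1, ?_⟩
  apply orderOf_eq_prime
  · have h2 : g' ^ p ∈ N := by
      rw [← QuotientGroup.eq_one_iff, QuotientGroup.mk_pow, h1, ← hg, pow_orderOf_eq_one]
    have h3 : orderOf (g' ^ p) ∣ p ^ m := by
      rw [← hm]; exact orderOf_pow_dvd p
    have h4 : (orderOf (g' ^ p)).Coprime (p ^ m) := by
      apply Nat.Coprime.pow_right
      exact (Nat.Coprime.coprime_dvd_left (Subgroup.orderOf_dvd_natCard N h2)
        ((Nat.Prime.coprime_iff_not_dvd hp.out).2 hpN).symm)
    exact orderOf_eq_one_iff.1 (Nat.Coprime.eq_one_of_dvd h4 h3)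
  · rintro rfl
    rw [← h1, QuotientGroup.mk_one, orderOf_one] at hg
    exact hp.out.one_lt.ne hg

/-- S4559 from the rows. -/
theorem exists_van_of_rows (hCC : CCAll.{u}) {p : ℕ} [hp : Fact p.Prime]
    (hrow : ∀ (S : Type u) [Group S] [Finite S] [IsSimpleGroup S], (∃ a b : S, a * b ≠ b * a) →
      p ∣ Nat.card S → VOrdP p S) :
    ∀ (n : ℕ) (G : Type u) [Group G] [Finite G], Nat.card G = n → p ∣ Nat.card G →
      (∀ K : Subgroup G, K.Normal → IsPGroup p K → K = ⊥) → ∃ g : G, orderOf g = p ∧ Vn g := by
  intro n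
  induction n using Nat.strong_induction_on with
  | _ n ih =>
    intro G _ _ hn hpG hcore
    have hnt : Nontrivial G := by
      rw [← Finite.one_lt_card_iff_nontrivial]
      exact lt_of_lt_of_le hp.out.one_lt (Nat.le_of_dvd Nat.card_pos hpG)
    obtain ⟨L, hLn, hLb, -, hmin⟩ := exists_min_le (⊤ : Subgroup G) inferInstance top_ne_bot
    by_cases hrL : p ∣ Nat.card L
    · have hna : ¬ ∀ x ∈ L, ∀ y ∈ L, Commute x y := by
        intro hab
        obtain ⟨S⟩ : Nonempty (Sylow p L) := inferInstance
        have hSn : (S : Subgroup L).Normal := by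
          constructor
          intro a ha b
          have : b * a * b⁻¹ = a := by
            rw [show b * a = a * b from Subtype.ext (hab b b.2 a a.2), mul_inv_cancel_right]
          rw [this]; exact ha
        have hSc : (S : Subgroup L).Characteristic := Sylow.characteristic_of_normal S hSn
        have hmapn : ((S : Subgroup L).map L.subtype).Normal := inferInstance
        have h2 := hcore _ hmapn (S.2.map L.subtype)
        rw [Subgroup.map_eq_bot_iff_of_injective _ L.subtype_injective] at h2
        have h3 := S.not_dvd_index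
        rw [h2, Subgroup.index_bot] at h3
        exact h3 hrL
      obtain ⟨T, hT, hTna, hTd, hTv⟩ := van_of_minimal_dvd L hmin hna p hp.out hrL
      obtain ⟨x, hj, hx⟩ := hrow T hTna hTd
      exact ⟨(x : G), by rw [Subgroup.orderOf_coe, hj], hTv x hx⟩
    · by_cases hq : ∀ K : Subgroup (G ⧸ L), K.Normal → IsPGroup p K → K = ⊥
      · have hd : p ∣ Nat.card (G ⧸ L) := by
          have h1 := Subgroup.card_eq_card_quotient_mul_card_subgroup L
          rw [h1] at hpG
          exact (hp.out.dvd_mul.1 hpG).resolve_right hrL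
        obtain ⟨g, hg, hv⟩ := ih _ (hn ▸ card_quot_lt L hLb) (G ⧸ L) rfl hd hq
        obtain ⟨g, rfl⟩ := QuotientGroup.mk_surjective g
        obtain ⟨g', h1, h2⟩ := exists_lift_order L p hrL g hg
        exact ⟨g', h2, Vn.of_quot L (by rw [h1]; exact hv)⟩
      · push Not at hq
        obtain ⟨K, hKn, hKp, hKb⟩ := hq
        obtain ⟨M, hMn, hMb, hMK, hMmin⟩ := exists_min_le K hKn hKb
        have hMp : IsPGroup p M := hKp.to_le hMK
        -- `M` is elementary abelian
        have hMnt : Nontrivial M := (Subgroup.nontrivial_iff_ne_bot M).2 hMb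
        have hMc : ∀ a ∈ M, ∀ b ∈ M, a * b = b * a := by
          have h1 := hMp.center_nontrivial
          have h2 : ((Subgroup.center M).map M.subtype).Normal := inferInstance
          rcases hMmin _ h2 (Subgroup.map_subtype_le _) with h3 | h3
          · exfalso
            rw [Subgroup.map_eq_bot_iff_of_injective _ M.subtype_injective] at h3
            exact (Subgroup.nontrivial_iff_ne_bot _).1 h1 h3
          · intro a ha b hb
            rw [← h3] at hb
            obtain ⟨b, hb, rfl⟩ := hb
            exact congrArg Subtype.val ((Subgroup.mem_center_iff.1 hb) ⟨a, ha⟩)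
        have hMe : ∀ a ∈ M, a ^ p = 1 := by
          -- the elements of order dividing `p`
          let W : Subgroup (G ⧸ L) :=
            { carrier := {a | a ∈ M ∧ a ^ p = 1}
              mul_mem' := by
                rintro a b ⟨ha, ha'⟩ ⟨hb, hb'⟩
                refine ⟨M.mul_mem ha hb, ?_⟩
                rw [(show Commute a b from hMc a ha b hb).mul_pow, ha', hb', one_mul]
              one_mem' := ⟨M.one_mem, one_pow p⟩
              inv_mem' := by
                rintro a ⟨ha, ha'⟩
                exact ⟨M.inv_mem ha, by rw [inv_pow, ha', inv_one]⟩ }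
          have hWn : W.Normal := by
            constructor
            rintro a ⟨ha, ha'⟩ g
            exact ⟨hMn.conj_mem a ha g, by rw [conj_pow, ha', mul_one, mul_inv_cancel]⟩
          rcases hMmin W hWn (fun a ha => ha.1) with h3 | h3
          · exfalso
            have hpM : p ∣ Nat.card M := by
              obtain ⟨k, hk⟩ := (IsPGroup.iff_card).1 hMp
              have h4 : 1 < Nat.card M := Finite.one_lt_card
              rw [hk] at h4 ⊢
              have hk0 : k ≠ 0 := by
                rintro rfl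
                simp at h4
              exact dvd_pow_self p hk0
            obtain ⟨x, hx⟩ := exists_prime_orderOf_dvd_card' p hpM
            have h5 : (x : G ⧸ L) ∈ W := ⟨x.2, by
              rw [← Subgroup.coe_pow, ← hx, pow_orderOf_eq_one, Subgroup.coe_one]⟩
            rw [h3, Subgroup.mem_bot] at h5
            have h6 : x = 1 := Subtype.ext h5
            rw [h6, orderOf_one] at hx
            exact hp.out.one_lt.ne hx
          · intro a ha
            rw [← h3] at ha
            exact ha.2
        -- the preimage and its Sylow subgroup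
        let Mt : Subgroup G := M.comap (QuotientGroup.mk' L)
        have hMtn : Mt.Normal := hMn.comap _
        have hLM : L ≤ Mt := by
          intro x hx
          show ((x : G) : G ⧸ L) ∈ M
          rw [(QuotientGroup.eq_one_iff x).2 hx]
          exact M.one_mem
        obtain ⟨Q⟩ : Nonempty (Sylow p Mt) := inferInstance
        let E : Subgroup G := (Q : Subgroup Mt).map Mt.subtype
        have hEp : IsPGroup p E := Q.2.map Mt.subtype
        have hEM : E ≤ Mt := Subgroup.map_subtype_le _
        have hsup : E ⊔ L = Mt := by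
          apply le_antisymm (sup_le hEM hLM)
          have hind : (E ⊔ L).relIndex Mt = 1 := by
            have h1 : (E ⊔ L).relIndex Mt ∣ E.relIndex Mt :=
              Subgroup.relIndex_dvd_of_le_left Mt le_sup_left
            have h2 : (E ⊔ L).relIndex Mt ∣ L.relIndex Mt :=
              Subgroup.relIndex_dvd_of_le_left Mt le_sup_right
            have h3 : ¬ p ∣ E.relIndex Mt := by
              have : E.relIndex Mt = (Q : Subgroup Mt).index := by
                show (E.subgroupOf Mt).index = _
                congr 1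
                exact Subgroup.comap_map_eq_self_of_injective Mt.subtype_injective _
              rw [this]
              exact Q.not_dvd_index
            have h4 : ∃ k, L.relIndex Mt = p ^ k := by
              have h5 : L.relIndex Mt = Nat.card M := by
                have h6 : L = (⊥ : Subgroup (G ⧸ L)).comap (QuotientGroup.mk' L) := by
                  rw [MonoidHom.comap_bot, QuotientGroup.ker_mk']
                have h7 := Subgroup.relIndex_comap (⊥ : Subgroup (G ⧸ L)) (QuotientGroup.mk' L) Mt
                rw [← h6] at h7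
                rw [h7, Subgroup.map_comap_eq_self_of_surjective
                  (QuotientGroup.mk'_surjective L), Subgroup.relIndex_bot_left]
              rw [h5]
              exact (IsPGroup.iff_card).1 hMp
            obtain ⟨k, hk⟩ := h4
            rw [hk] at h2
            obtain ⟨j, -, hj⟩ := (Nat.dvd_prime_pow hp.out).1 h2
            rw [hj] at h1 ⊢
            by_cases hj0 : j = 0
            · rw [hj0, pow_zero]
            · exact absurd ((dvd_pow_self p hj0).trans h1) h3
          exact Subgroup.relIndex_eq_one.1 hind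
        have hEn : (E ⊔ L).Normal := by rw [hsup]; exact hMtn
        have hdis : E ⊓ L = ⊥ := by
          rw [← disjoint_iff]
          apply disjoint_of_coprime_natCard
          obtain ⟨m, hm⟩ := (IsPGroup.iff_card).1 hEp
          rw [hm]
          exact Nat.Coprime.pow_left m ((Nat.Prime.coprime_iff_not_dvd hp.out).2 hrL)
        have hEc : ∀ x ∈ E, ∀ y ∈ E, x * y = y * x := by
          intro x hx y hy
          have h1 : (x * y) * (y * x)⁻¹ ∈ E ⊓ L := by
            refine Subgroup.mem_inf.2 ⟨E.mul_mem (E.mul_mem hx hy) (E.inv_mem (E.mul_mem hy hx)), ?_⟩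
            rw [← QuotientGroup.eq_one_iff, QuotientGroup.mk_mul, QuotientGroup.mk_inv,
              QuotientGroup.mk_mul, QuotientGroup.mk_mul, mul_inv_eq_one]
            exact hMc _ (hEM hx) _ (hEM hy)
          rw [hdis, Subgroup.mem_bot, mul_inv_eq_one] at h1
          exact h1
        have hEe : ∀ x ∈ E, x ^ p = 1 := by
          intro x hx
          have h1 : x ^ p ∈ E ⊓ L := by
            refine Subgroup.mem_inf.2 ⟨E.pow_mem hx p, ?_⟩
            rw [← QuotientGroup.eq_one_iff, QuotientGroup.mk_pow]
            exact hMe _ (hEM hx)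
          rw [hdis, Subgroup.mem_bot] at h1
          exact h1
        have hEb : E ≠ ⊥ := by
          intro h
          rw [h, bot_sup_eq] at hsup
          apply hMb
          rw [← Subgroup.map_comap_eq_self_of_surjective (QuotientGroup.mk'_surjective L) M]
          change Mt.map (QuotientGroup.mk' L) = ⊥
          rw [← hsup, Subgroup.map_eq_bot_iff, QuotientGroup.ker_mk']
        obtain ⟨x, hx, hx1⟩ := (Subgroup.bot_or_exists_ne_one E).resolve_left hEb
        exact ⟨x, orderOf_eq_prime (hEe x hx) hx1,
          vn_of_minimal hCC L hmin p hrL hcore E hEp hEn E le_rfl hEn hEc x hx hx1⟩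

/-- What has to be shown for the simple groups in the version with `p`-singular elements. -/
def VSing (p : ℕ) (S : Type*) [Group S] : Prop :=
  ∃ x : S, p ∣ orderOf x ∧ H713.VZ S x

theorem VSing.mulEquiv {p : ℕ} {S : Type*} [Group S] {S' : Type*} [Group S'] (h : VSing p S)
    (e : S ≃* S') : VSing p S' := by
  obtain ⟨x, hj, hx⟩ := h
  exact ⟨e x, by rw [MulEquiv.orderOf_eq]; exact hj, hx.mulEquiv e⟩

/-- A group without vanishing `p`-singular elements has a normal Sylow `p`-subgroup, from the rows
`VSing`. -/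
theorem normal_sylow_of_sing (hCC : CCAll.{u}) {r : ℕ} [hr : Fact r.Prime]
    (hrow : ∀ (S : Type u) [Group S] [Finite S] [IsSimpleGroup S], (∃ a b : S, a * b ≠ b * a) →
      r ∣ Nat.card S → VSing r S) :
    ∀ (n : ℕ) (G : Type u) [Group G] [Finite G], Nat.card G = n →
      (∀ g : G, r ∣ orderOf g → ¬ Vn g) → ∀ R : Sylow r G, (R : Subgroup G).Normal := by
  intro n
  induction n using Nat.strong_induction_on with
  | _ n ih =>
    intro G _ _ hn hV R
    have hVq : ∀ (K : Subgroup G) [K.Normal], ∀ g : G ⧸ K, r ∣ orderOf g → ¬ Vn g := by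
      intro K _ g hg hv
      obtain ⟨g, rfl⟩ := QuotientGroup.mk_surjective g
      exact hV g (hg.trans (orderOf_map_dvd (QuotientGroup.mk' K) g)) (Vn.of_quot K hv)
    rcases subsingleton_or_nontrivial G with hs | hnt
    · have : (R : Subgroup G) = ⊥ := Subsingleton.elim _ _
      rw [this]
      infer_instance
    by_cases hcore : ∀ K : Subgroup G, K.Normal → IsPGroup r K → K = ⊥
    · obtain ⟨L, hLn, hLb, -, hmin⟩ := exists_min_le (⊤ : Subgroup G) inferInstance top_ne_bot
      have h1 := sup_normal_of_quot L R (fun S => ih _ (hn ▸ card_quot_lt L hLb) (G ⧸ L) rfl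
        (hVq L) S)
      by_cases hrL : r ∣ Nat.card L
      · exfalso
        have hna : ¬ ∀ x ∈ L, ∀ y ∈ L, Commute x y := by
          intro hab
          obtain ⟨S⟩ : Nonempty (Sylow r L) := inferInstance
          have hSn : (S : Subgroup L).Normal := by
            constructor
            intro a ha b
            have : b * a * b⁻¹ = a := by
              rw [show b * a = a * b from Subtype.ext (hab b b.2 a a.2), mul_inv_cancel_right]
            rw [this]; exact ha
          have hSc : (S : Subgroup L).Characteristic := Sylow.characteristic_of_normal S hSn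
          have hmapn : ((S : Subgroup L).map L.subtype).Normal := inferInstance
          have h2 := hcore _ hmapn (S.2.map L.subtype)
          rw [Subgroup.map_eq_bot_iff_of_injective _ L.subtype_injective] at h2
          have h3 := S.not_dvd_index
          rw [h2, Subgroup.index_bot] at h3
          exact h3 hrL
        obtain ⟨T, hT, hTna, hTd, hTv⟩ := van_of_minimal_dvd L hmin hna r hr.out hrL
        obtain ⟨x, hj, hx⟩ := hrow T hTna hTd
        exact hV (x : G) (by rw [Subgroup.orderOf_coe]; exact hj) (hTv x hx)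
      · by_contra hRn
        have hRb : (R : Subgroup G) ≠ ⊥ := by
          intro h
          apply hRn
          rw [h]; infer_instance
        have hnt : Nontrivial (R : Subgroup G) := (Subgroup.nontrivial_iff_ne_bot _).2 hRb
        have hZnt := R.2.center_nontrivial
        obtain ⟨⟨z, hz⟩, hz1⟩ := exists_ne (1 : Subgroup.center (R : Subgroup G))
        have hz1' : (z : G) ≠ 1 := fun h => hz1 (Subtype.ext (Subtype.ext h))
        have h2 := vn_of_minimal hCC L hmin r hrL hcore (R : Subgroup G) R.2 h1
          ((Subgroup.center (R : Subgroup G)).map (R : Subgroup G).subtype)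
          (Subgroup.map_subtype_le _) (center_sup_normal L R h1) (by
            rintro _ ⟨a, ha, rfl⟩ _ ⟨b, hb, rfl⟩
            exact congrArg Subtype.val ((Subgroup.mem_center_iff.1 hb) a)) (z : G) ⟨z, hz, rfl⟩ hz1'
        obtain ⟨m, hm⟩ := (IsPGroup.iff_orderOf.1 R.2) z
        refine hV _ ?_ h2
        rw [Subgroup.orderOf_coe, hm]
        apply dvd_pow_self
        rintro rfl
        rw [pow_zero, orderOf_eq_one_iff] at hm
        exact hz1' (congrArg Subtype.val hm)
    · push Not at hcore
      obtain ⟨K, hKn, hKr, hKb⟩ := hcore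
      have h1 := sup_normal_of_quot K R (fun S => ih _ (hn ▸ card_quot_lt K hKb) (G ⧸ K) rfl
        (hVq K) S)
      have h2 : K ≤ (R : Subgroup G) := by
        have h3 : IsPGroup r (K ⊔ (R : Subgroup G) : Subgroup G) :=
          hKr.to_sup_of_normal_left R.2
        have h4 := R.3 h3 le_sup_right
        rw [← h4]
        exact le_sup_left
      rwa [sup_eq_left.2 h2] at h1

/-- S4555 from the rows, final form. -/
theorem s4555_of_rows (hCC : CCAll.{u}) {p : ℕ} [hp : Fact p.Prime]
    (hrow : ∀ (S : Type u) [Group S] [Finite S] [IsSimpleGroup S], (∃ a b : S, a * b ≠ b * a) →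
      p ∣ Nat.card S → VPow p S)
    {G : Type u} [Group G] [Finite G]
    (h : ∀ g : G, (∃ j : ℕ, orderOf g = p ^ j) → ∀ χ : IrrCharacter G, (χ : G → ℂ) g ≠ 0)
    (P : Sylow p G) : (P : Subgroup G).Normal := by
  refine normal_sylow_of_rows hCC hrow _ G rfl ?_ P
  rintro g hg ⟨χ, hχ⟩
  exact h g hg χ hχ

/-- S4559 from the rows, final form. -/
theorem s4559_of_rows (hCC : CCAll.{u}) {p : ℕ} [hp : Fact p.Prime]
    (hrow : ∀ (S : Type u) [Group S] [Finite S] [IsSimpleGroup S], (∃ a b : S, a * b ≠ b * a) →
      p ∣ Nat.card S → VOrdP p S)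
    {G : Type u} [Group G] [Finite G] (hdvd : p ∣ Nat.card G)
    (h : ∀ g : G, orderOf g = p → ∀ χ : IrrCharacter G, (χ : G → ℂ) g ≠ 0) :
    Cfsg.pCore p G ≠ ⊥ := by
  intro hcore
  obtain ⟨g, hg, χ, hχ⟩ := exists_van_of_rows hCC hrow _ G rfl hdvd (fun K hK hKp => by
    rw [eq_bot_iff, ← hcore]
    exact le_sSup ⟨hK, hKp⟩)
  exact h g hg χ hχ

end Cfsg.Agent.H620.PNorm
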