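import Cfsg.Agent.H620.RowSz
import Cfsg.Agent.LieRecognition.ReeFinal

/-!
# The rows of the small Ree groups (helper620)
-/

set_option autoImplicit false

namespace Cfsg.Agent.H620.RowRee

open Cfsg Cfsg.Agent.H620 Cfsg.Agent.H713 Cfsg.Agent.H620.RowClass Cfsg.Agent.H620.RowSz
open Cfsg.Agent.LieRecognition

/-- Principal series characters of a rank one group. -/
theorem isIrr_ind {G : Type*} [Group G] [Finite G] (B : Subgroup G) (f : B →* ℂˣ) (n e : G)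
    (he : e ∈ B) (hne : n⁻¹ * e * n = e⁻¹) (hbr : ∀ x, x ∉ B → ∃ b ∈ B, ∃ c ∈ B, x = b * n * c)
    (h2 : f ⟨e, he⟩ ^ 2 ≠ 1) : ∃ χ : G → ℂ, IsIrrCharacter G χ ∧ χ 1 = (B.index : ℂ) := by
  classical
  have : Fintype G := Fintype.ofFinite G
  refine ⟨indFun B (fun t => (f t : ℂ)), ?_, ?_⟩
  · apply Cfsg.Agent.CharactersDeep.MackeyLinear.isIrrCharacter_indFun
    intro x hx
    obtain ⟨b, hb, c, hc, rfl⟩ := hbr x hx
    have h3 : (b * n * c)⁻¹ * (b * e * b⁻¹) * (b * n * c) = c⁻¹ * e⁻¹ * c := by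
      rw [← hne]
      group
    have hmem : (b * n * c)⁻¹ * (b * e * b⁻¹) * (b * n * c) ∈ B := by
      rw [h3]
      exact mul_mem (mul_mem (inv_mem hc) (inv_mem he)) hc
    refine ⟨⟨b * e * b⁻¹, mul_mem (mul_mem hb he) (inv_mem hb)⟩, hmem, ?_⟩
    have e1 : f ⟨b * e * b⁻¹, mul_mem (mul_mem hb he) (inv_mem hb)⟩ = f ⟨e, he⟩ := by
      have : (⟨b * e * b⁻¹, mul_mem (mul_mem hb he) (inv_mem hb)⟩ : B) = ⟨b, hb⟩ * ⟨e, he⟩ * ⟨b, hb⟩⁻¹ := rfl
      rw [this, map_mul, map_mul, map_inv, mul_comm (f ⟨b, hb⟩), mul_inv_cancel_right]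
    have e2 : f ⟨(b * n * c)⁻¹ * (b * e * b⁻¹) * (b * n * c), hmem⟩ = (f ⟨e, he⟩)⁻¹ := by
      have : (⟨(b * n * c)⁻¹ * (b * e * b⁻¹) * (b * n * c), hmem⟩ : B) = ⟨c, hc⟩⁻¹ * (⟨e, he⟩)⁻¹ * ⟨c, hc⟩ :=
        Subtype.ext h3
      rw [this, map_mul, map_mul, map_inv, map_inv, mul_comm, mul_inv_cancel_left]
    rw [e1, e2]
    intro h4
    apply h2
    rw [pow_two]
    nth_rewrite 2 [h4]
    exact mul_inv_cancel _
  · rw [Cfsg.Agent.CharactersDeep.NormalInd.indFun_one]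
    simp

section
variable {K : Type*} [Field K] {G : Type*} [Group G] {m : ℕ} {U : K → K → K → G} {h : Kˣ → G} {n : G}

theorem U_inv (D : ReeAbs.Data m U h n) (t u v : K) : ∃ t' u' v', (U t u v)⁻¹ = U t' u' v' := by
  refine ⟨-t, -u + t * (-t) ^ (3 ^ (m + 1)),
    -v + u * (-t) + t ^ 2 * (-t) ^ (3 ^ (m + 1)) - t * (-t) * (-t) ^ (3 ^ (m + 1)), ?_⟩
  rw [inv_eq_iff_mul_eq_one, D.U_mul, ← D.U_zero]
  congr 1 <;> ring

/-- The Borel subgroup. -/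
def borel (D : ReeAbs.Data m U h n) : Subgroup G where
  carrier := {g | ∃ t u v a, g = U t u v * h a}
  one_mem' := ⟨0, 0, 0, 1, by rw [D.U_zero, D.h_one, mul_one]⟩
  mul_mem' := by
    rintro _ _ ⟨t, u, v, a, rfl⟩ ⟨t', u', v', a', rfl⟩
    have h1 : U t u v * h a * (U t' u' v' * h a') = U t u v * (h a * U t' u' v') * h a' := by group
    rw [h1, D.h_U, ← mul_assoc, D.U_mul, mul_assoc, ← D.h_mul]
    exact ⟨_, _, _, _, rfl⟩
  inv_mem' := by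
    rintro _ ⟨t, u, v, a, rfl⟩
    obtain ⟨t', u', v', h1⟩ := U_inv D t u v
    show ∃ t u v a_1, _ = _
    rw [mul_inv_rev, h1, ← D.h_inv, D.h_U]
    exact ⟨_, _, _, _, rfl⟩

theorem mem_borel (D : ReeAbs.Data m U h n) {g : G} : g ∈ borel D ↔ ∃ t u v a, g = U t u v * h a := Iff.rfl

/-- The torus component. -/
noncomputable def torFun (D : ReeAbs.Data m U h n) (g : borel D) : Kˣ :=
  g.2.choose_spec.choose_spec.choose_spec.choose

theorem torFun_spec (D : ReeAbs.Data m U h n) (g : borel D) :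
    ∃ t u v, (g : G) = U t u v * h (torFun D g) :=
  ⟨_, _, _, g.2.choose_spec.choose_spec.choose_spec.choose_spec⟩

theorem torFun_eq (D : ReeAbs.Data m U h n) (g : borel D) {t u v : K} {a : Kˣ}
    (hg : (g : G) = U t u v * h a) : torFun D g = a := by
  obtain ⟨t', u', v', h1⟩ := torFun_spec D g
  exact (D.inj₁ _ _ _ _ _ _ _ _ (h1.symm.trans hg)).2.2.2

/-- The torus component. -/
noncomputable def tor (D : ReeAbs.Data m U h n) : borel D →* Kˣ where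
  toFun := torFun D
  map_one' := torFun_eq D 1 (t := 0) (u := 0) (v := 0) (by rw [D.U_zero, D.h_one, mul_one]; rfl)
  map_mul' := by
    intro g g'
    obtain ⟨t, u, v, h1⟩ := torFun_spec D g
    obtain ⟨t', u', v', h2⟩ := torFun_spec D g'
    have h4 : ((g * g' : borel D) : G) = _ := congrArg₂ (· * ·) h1 h2
    rw [show ∀ a b c d : G, (a * b) * (c * d) = a * (b * c) * d from fun a b c d => by group, D.h_U,
      ← mul_assoc, D.U_mul, mul_assoc, ← D.h_mul] at h4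
    exact torFun_eq D _ h4

theorem tor_h (D : ReeAbs.Data m U h n) (a : Kˣ) (ha : h a ∈ borel D) : tor D ⟨h a, ha⟩ = a :=
  torFun_eq D _ (t := 0) (u := 0) (v := 0) (by rw [D.U_zero, one_mul])

theorem h_mem (D : ReeAbs.Data m U h n) (a : Kˣ) : h a ∈ borel D :=
  ⟨0, 0, 0, a, by rw [D.U_zero, one_mul]⟩

theorem U_mem (D : ReeAbs.Data m U h n) (t u v : K) : U t u v ∈ borel D :=
  ⟨t, u, v, 1, by rw [D.h_one, mul_one]⟩

theorem card_borel [Fintype K] (D : ReeAbs.Data m U h n) (hK : Fintype.card K = 3 ^ (2 * m + 1)) :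
    Nat.card (borel D) = (3 ^ (2 * m + 1)) ^ 3 * (3 ^ (2 * m + 1) - 1) := by
  classical
  let f : K × K × K × Kˣ → borel D := fun x => ⟨U x.1 x.2.1 x.2.2.1 * h x.2.2.2, ⟨_, _, _, _, rfl⟩⟩
  have hf : Function.Bijective f := by
    constructor
    · rintro ⟨t, u, v, a⟩ ⟨t', u', v', a'⟩ hh
      obtain ⟨rfl, rfl, rfl, rfl⟩ := D.inj₁ _ _ _ _ _ _ _ _ (congrArg Subtype.val hh)
      rfl
    · rintro ⟨g, t, u, v, a, rfl⟩
      exact ⟨(t, u, v, a), rfl⟩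
  rw [← Nat.card_congr (Equiv.ofBijective f hf), Nat.card_eq_fintype_card]
  simp only [Fintype.card_prod, Fintype.card_units, hK]
  ring

theorem exists_irr [Fintype K] [Finite G] (D : ReeAbs.Data m U h n) (hK : Fintype.card K = 3 ^ (2 * m + 1))
    (hm : 1 ≤ m) : ∃ χ : G → ℂ, IsIrrCharacter G χ ∧ χ 1 = ((borel D).index : ℂ) := by
  classical
  have hq : 3 ^ 3 ≤ 3 ^ (2 * m + 1) := Nat.pow_le_pow_right (by norm_num) (by omega)
  -- a character `φ` of `Kˣ` with `φ(a)² ≠ 1`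
  obtain ⟨a, ha⟩ : ∃ a : Kˣ, a ^ 2 ≠ 1 := by
    by_contra hcon
    push Not at hcon
    have h1 := IsCyclic.exponent_eq_card (α := Kˣ)
    have h2 : Monoid.exponent Kˣ ∣ 2 := Monoid.exponent_dvd_of_forall_pow_eq_one hcon
    rw [h1, Nat.card_eq_fintype_card, Fintype.card_units, hK] at h2
    have := Nat.le_of_dvd (by norm_num) h2
    omega
  obtain ⟨φ, hφ⟩ := CommGroup.exists_apply_ne_one_of_hasEnoughRootsOfUnity Kˣ ℂ ha
  refine isIrr_ind (borel D) (φ.comp (tor D)) n (h a) (h_mem D a) ?_ ?_ ?_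
  · have h1 : n⁻¹ = n := D.n_inv
    rw [h1, D.n_h, mul_assoc, D.n_n, mul_one, D.h_inv]
  · intro x hx
    rcases D.bruhat x with ⟨t, u, v, a, h1⟩ | ⟨t, u, v, a, t', u', v', h1⟩
    · exact absurd ⟨t, u, v, a, h1⟩ hx
    · exact ⟨U t u v * h a, ⟨_, _, _, _, rfl⟩, U t' u' v', U_mem D _ _ _, h1⟩
  · rw [MonoidHom.comp_apply, tor_h, ← map_pow]
    exact hφ

theorem kill_data [Fintype K] [Finite G] (D : ReeAbs.Data m U h n) (hK : Fintype.card K = 3 ^ (2 * m + 1))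
    (hm : 1 ≤ m) {l : ℕ} (hl : l.Prime) (hl2 : l ≠ 2) (hd : l ∣ (3 ^ (2 * m + 1)) ^ 3 + 1) :
    Kill G l ∧ l ∣ Nat.card G := by
  have hcard := ReeFinal.card_of_data D hK
  have hB := card_borel D hK
  obtain ⟨χ, hχ, hχ1⟩ := exists_irr D hK hm
  have hq : 1 ≤ 3 ^ (2 * m + 1) := Nat.one_le_pow _ _ (by norm_num)
  refine ⟨kill_of_index hχ hχ1 hl ?_, hcard ▸ dvd_mul_of_dvd_right hd _⟩
  rw [hB]
  intro h
  generalize 3 ^ (2 * m + 1) = q at *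
  rcases hl.dvd_mul.1 h with h4 | h4
  · have h5 := (Nat.dvd_add_right h4).1 hd
    exact hl.one_lt.ne' (Nat.dvd_one.1 h5)
  · have h5 : q ^ 3 + 1 = (q - 1) * (q ^ 2 + q + 1) + 2 := by
      obtain ⟨c, rfl⟩ : ∃ c, q = c + 1 := ⟨q - 1, by omega⟩
      simp only [Nat.add_sub_cancel]
      ring
    have h6 : l ∣ 2 := by
      rw [h5] at hd
      exact (Nat.dvd_add_right (h4.mul_right _)).1 hd
    exact hl2 ((Nat.prime_dvd_prime_iff_eq hl Nat.prime_two).1 h6)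

end

/-- Two primes dividing `q³ + 1`. -/
theorem exists_two_primes {m : ℕ} (hm : 1 ≤ m) : ∃ l k : ℕ, l.Prime ∧ k.Prime ∧ l ≠ k ∧ l ≠ 3 ∧ k ≠ 3 ∧
    l ≠ 2 ∧ k ≠ 2 ∧ l ∣ (3 ^ (2 * m + 1)) ^ 3 + 1 ∧ k ∣ (3 ^ (2 * m + 1)) ^ 3 + 1 := by
  set r := 3 ^ m with hr
  have hr2 : 3 ≤ r := by
    calc 3 = 3 ^ 1 := rfl
      _ ≤ r := Nat.pow_le_pow_right (by norm_num) hm
  have hrodd : r % 2 = 1 := by
    rw [hr, Nat.pow_mod]
    norm_num
  have hq : 3 ^ (2 * m + 1) = 3 * r ^ 2 := by rw [hr]; ring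
  rw [hq]
  have e1 : (3 * r ^ 2) ^ 3 + 1 = (3 * r ^ 2 + 1) * (3 * r ^ 2 + 3 * r + 1) * (3 * r ^ 2 - 3 * r + 1) := by
    obtain ⟨c, hc⟩ : ∃ c, r = c + 1 := ⟨r - 1, by omega⟩
    have h1 : 3 * r ^ 2 - 3 * r = 3 * c * r := by
      rw [hc]
      have : 3 * (c + 1) ^ 2 = 3 * c * (c + 1) + 3 * (c + 1) := by ring
      omega
    rw [h1, hc]
    ring
  have hge : 1 < 3 * r ^ 2 - 3 * r + 1 := by
    have : 3 * r * 2 ≤ 3 * r ^ 2 := by nlinarith
    omega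
  obtain ⟨l, hl, hld⟩ := Nat.exists_prime_and_dvd (n := 3 * r ^ 2 + 3 * r + 1) (by omega)
  obtain ⟨k, hk, hkd⟩ := Nat.exists_prime_and_dvd (n := 3 * r ^ 2 - 3 * r + 1) (by omega)
  have hl3 : l ≠ 3 := by
    rintro rfl
    have : 3 ∣ 3 * r ^ 2 + 3 * r := ⟨r ^ 2 + r, by ring⟩
    omega
  have hk3 : k ≠ 3 := by
    rintro rfl
    have : 3 ∣ 3 * r ^ 2 - 3 * r := Nat.dvd_sub ⟨r ^ 2, by ring⟩ ⟨r, by ring⟩
    omega
  have hrr : r ^ 2 % 2 = 1 := by rw [Nat.pow_mod, hrodd]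
  have hl2 : l ≠ 2 := by
    rintro rfl
    omega
  have hk2 : k ≠ 2 := by
    rintro rfl
    have : 3 * r ≤ 3 * r ^ 2 := by nlinarith
    omega
  refine ⟨l, k, hl, hk, ?_, hl3, hk3, hl2, hk2, ?_, ?_⟩
  · rintro rfl
    have h1 : l ∣ 6 * r := by
      have h2 := Nat.dvd_sub hld hkd
      have h3 : 3 * r ^ 2 + 3 * r + 1 - (3 * r ^ 2 - 3 * r + 1) = 6 * r := by
        have : 3 * r ≤ 3 * r ^ 2 := by nlinarith
        omega
      rwa [h3] at h2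
    rcases hl.dvd_mul.1 h1 with h2 | h2
    · have h6 : (6 : ℕ) = 2 * 3 := by norm_num
      rw [h6] at h2
      rcases hl.dvd_mul.1 h2 with h3 | h3
      · exact hl2 ((Nat.prime_dvd_prime_iff_eq hl Nat.prime_two).1 h3)
      · exact hl3 ((Nat.prime_dvd_prime_iff_eq hl Nat.prime_three).1 h3)
    · exact hl3 ((Nat.prime_dvd_prime_iff_eq hl Nat.prime_three).1 (hl.dvd_of_dvd_pow h2))
  · rw [e1]
    exact dvd_mul_of_dvd_left (dvd_mul_of_dvd_right hld _) _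
  · rw [e1]
    exact dvd_mul_of_dvd_right hkd _

theorem kill3_ree {K : Type*} [Group K] [Finite K] (h : Cfsg.Lie.IsoRee K) : Kill3 K 3 := by
  obtain ⟨F, i1, i2, m, hm, hF, ⟨e⟩⟩ := h
  have D := ReeFinal.data hF
  obtain ⟨l, k, hl, hk, hlk, hl3, hk3, hl2, hk2, hld, hkd⟩ := exists_two_primes hm
  have h1 := kill_data D hF hm hl hl2 hld
  have h2 := kill_data D hF hm hk hk2 hkd
  exact Kill3.mulEquiv ⟨l, k, hl, hk, hlk, hl3, hk3, h1.2, h2.2, h1.1, h2.1⟩ e.symm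

theorem rows_ree {K : Type*} [Group K] [Finite K] [IsSimpleGroup K] (h : Cfsg.Lie.IsoRee K) : Rows K := by
  have hL : IsLieTypeChar 3 K := by
    unfold IsLieTypeChar
    tauto
  refine Kill3.rows Nat.prime_three ?_ (kill_of_lie Nat.prime_three hL) (kill3_ree h)
  obtain ⟨F, i1, i2, m, hm, hF, ⟨e⟩⟩ := h
  rw [Nat.card_congr e.toEquiv, ReeFinal.card hF, mul_assoc]
  exact dvd_mul_of_dvd_left (dvd_pow (dvd_pow_self 3 (by omega)) (by norm_num)) _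

end Cfsg.Agent.H620.RowRee
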