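import Cfsg.Agent.H620.RowSporA
import Cfsg.Agent.H419.Spor.J2
import Cfsg.Agent.H419.Spor.J3
import Cfsg.Agent.H713.Spor.Fi22
import Cfsg.Agent.H713.Spor.Fi23
import Cfsg.Agent.H713.Spor.FiTF
import Cfsg.Agent.H713.Spor.M
import Cfsg.Agent.H690.Spor.Trans
import Cfsg.Agent.H690.Spor.Ru
import Cfsg.Agent.H690.Spor.SuzRow
import Cfsg.Agent.H690.Spor.Tits
import Cfsg.Agent.H723.Spor.JFour
import Cfsg.Agent.S1689

/-!
# The rows of sporadic groups, second part (helper620)
-/

set_option autoImplicit false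

namespace Cfsg.Agent.H620.RowSporB

open Cfsg Cfsg.Agent.H620 Cfsg.Agent.H713 Cfsg.Agent.H620.RowClass Cfsg.Agent.H620.SporCrit
open Cfsg.Agent.H665.NoPQ Cfsg.Agent.H419.Row Cfsg.Agent.H419.Count Cfsg.Agent.H419.LeechIrr
open Cfsg.Agent.H419.Spor.Mathieu Cfsg.Agent.H419.TwoTrans Cfsg.Agent.H620.RowSporA
open Cfsg.Agent.SporadicA.Co0Mono Cfsg.Agent.SporadicA.Co1Simple Cfsg.Agent.H419.LeechFix

universe u

/-- An element of even order is not of order divisible by `p` if `p` does not divide the orders of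
the centralizers of involutions. -/
theorem not_dvd_of_invol {S : Type*} [Group S] [Finite S] {p : ℕ}
    (h : ∀ u : S, orderOf u = 2 → ¬ p ∣ Nat.card (Subgroup.centralizer ({u} : Set S))) (x : S)
    (h2 : 2 ∣ orderOf x) : ¬ p ∣ orderOf x := by
  intro hpx
  have hx0 : orderOf x ≠ 0 := (orderOf_pos x).ne'
  have h3 : orderOf (x ^ (orderOf x / 2)) = 2 := orderOf_pow_orderOf_div hx0 h2
  have h4 : orderOf (x ^ (orderOf x / p)) = p := orderOf_pow_orderOf_div hx0 hpx
  have h5 : x ^ (orderOf x / p) ∈ Subgroup.centralizer ({x ^ (orderOf x / 2)} : Set S) := by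
    rw [Subgroup.mem_centralizer_singleton_iff, ← pow_add, ← pow_add, add_comm]
  apply h _ h3
  rw [← h4, ← Subgroup.orderOf_mk _ h5]
  exact orderOf_dvd_natCard _

theorem rows_j2 {K : Type*} [Group K] [Finite K] (h : Spor.IsoJ2 K) : Rows K := by
  have hev := Cfsg.Agent.H419.Spor.J2.evMix h
  obtain ⟨t, u, Q, v, ρ, D⟩ := Cfsg.Agent.KFacts.J2.Facts.exists_dat_of h
  have hcard := D.card
  have hinv : ∀ x : K, orderOf x = 2 → ¬ 7 ∣ Nat.card (Subgroup.centralizer ({x} : Set K)) := by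
    intro x hx
    rcases D.F.cover x hx with h1 | h1
    · rw [Cfsg.Agent.Blocks.SylowIn.card_centralizer_of_isConj h1, D.cardC]
      norm_num
    · rw [Cfsg.Agent.Blocks.SylowIn.card_centralizer_of_isConj h1, D.card_cent_u]
      norm_num
  have h7 : HasDZ 7 K := hasDZ_of_two_classes hinv D.F.hz D.F.hu D.F.nconj
  exact rows_of_evMix (p := 7) (by norm_num) (by rw [hcard]; norm_num) h7 hev (not_dvd_of_invol hinv)

theorem arith_j3 (e a b : ℕ) (he : e ∣ 19 - 1) (he2 : Even e) (hb : b ∣ 1920) (hb2 : Odd b)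
    (h1 : (e * (a * b)) % 19 = 50232960 / 19 % 19)
    (h2 : (a * 1920) % 19 = 50232960 / 19 % 19) : False := by
  norm_num at h1 h2 he
  have hb' : b ∣ 15 := by
    have h3 : Nat.Coprime b (2 ^ 7) := Nat.Coprime.pow_right 7 (Nat.coprime_two_right.2 hb2)
    exact h3.dvd_of_dvd_mul_left (by norm_num; exact hb)
  have hbm : b ∈ ({1, 3, 5, 15} : Finset ℕ) := by
    have : b ∈ Nat.divisors 15 := Nat.mem_divisors.2 ⟨hb', by norm_num⟩
    have h4 : Nat.divisors 15 = {1, 3, 5, 15} := by decide +kernel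
    rwa [h4] at this
  have hem : e ∈ ({2, 6, 18} : Finset ℕ) := by
    have : e ∈ (Nat.divisors 18).filter (fun e => Even e) :=
      Finset.mem_filter.2 ⟨Nat.mem_divisors.2 ⟨he, by norm_num⟩, he2⟩
    have h4 : (Nat.divisors 18).filter (fun e => Even e) = {2, 6, 18} := by decide +kernel
    rwa [h4] at this
  have ha' : a % 19 = 9 := by omega
  have key : ∀ e ∈ ({2, 6, 18} : Finset ℕ), ∀ b ∈ ({1, 3, 5, 15} : Finset ℕ),
      (e * (9 * b)) % 19 ≠ 9 := by decide +kernel
  apply key e hem b hbm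
  have : (e * (a * b)) % 19 = (e * (9 * b)) % 19 := by
    rw [Nat.mul_mod e (a * b), Nat.mul_mod a b, ha', Nat.mul_mod e (9 * b), Nat.mul_mod 9 b]
  omega

theorem rows_j3 {K : Type*} [Group K] (h : Spor.IsoJ3 K) : Rows K := by
  obtain ⟨hcard, hM, hone, -⟩ := Cfsg.Agent.CpAutJThree.base h
  have hfin : Finite K := Nat.finite_of_card_ne_zero (by rw [hcard]; norm_num)
  have hev := Cfsg.Agent.H419.Spor.J3.evMix h
  have hm : ∀ u : K, orderOf u = 2 → Nat.card (Subgroup.centralizer ({u} : Set K)) = 1920 :=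
    fun u hu => (hM u hu).2.1
  have h19 : HasDZ 19 K := by
    refine hasDZ_of_card (by norm_num) (by rw [hcard]; exact factorization_eq_one (by norm_num) (by norm_num))
      (by rw [hcard]; norm_num) (m := 1920) hm (by norm_num) ?_
    intro e a b x t hx ht hb he he2 hbm hbo hao hd h1 h2
    rw [hcard] at hd h1 h2
    exact arith_j3 e a b he he2 hbm hbo h1 h2
  exact rows_of_evMix (p := 19) (by norm_num) (by rw [hcard]; norm_num) h19 hev
    (not_dvd_of_invol fun u hu => by rw [hm u hu]; norm_num)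

theorem rows_j4 {K : Type*} [Group K] (h : Spor.IsoJ4 K) : Rows K := by
  obtain ⟨e⟩ := h
  have hcard : Nat.card Spor.J4 = 86775571046077562880 := Cfsg.Agent.H858.FixJ4.card_J4
  have hfin : Finite Spor.J4 := Nat.finite_of_card_ne_zero (by rw [hcard]; norm_num)
  have : Fact (Nat.Prime 29) := ⟨by norm_num⟩
  have : Fact (Nat.Prime 43) := ⟨by norm_num⟩
  exact Rows.mulEquiv (rows_of_dz 23 29 43 (Cfsg.Agent.H723.Spor.JFour.dz_big (by simp))
    (Cfsg.Agent.H723.Spor.JFour.dz_big (by simp)) (Cfsg.Agent.H723.Spor.JFour.dz_big (by simp))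
    (by rw [hcard]; norm_num) (by rw [hcard]; norm_num) (by rw [hcard]; norm_num) (by norm_num)
    (by norm_num) (by norm_num)) e.symm

theorem rows_co3 {K : Type*} [Group K] (h : Spor.IsoCo3 K) : Rows K := by
  obtain ⟨e⟩ := h
  obtain ⟨hs, hcard⟩ := Cfsg.Agent.OddHalf.D8.RowCo3.card_of (K := Spor.Co3) ⟨MulEquiv.refl _⟩
  have hfin : Finite Spor.Co3 := Nat.finite_of_card_ne_zero (by rw [hcard]; norm_num)
  have hfac : (Nat.card Spor.Co3).factorization 23 = 1 := by
    rw [hcard]; exact factorization_eq_one (by norm_num) (by norm_num)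
  obtain ⟨μ, hμ⟩ := irr23 Cfsg.Agent.H419.Spor.Co3.inc Cfsg.Agent.H419.Spor.Co3.inc_injective
    (by rw [hcard]; norm_num) Cfsg.Agent.H419.Spor.Co3.k ⟨Cfsg.Agent.H419.Spor.Co3.y14, fun h => by
      have := Cfsg.Agent.H419.Spor.Co3.order
      rw [h, orderOf_one] at this
      norm_num at this⟩ Cfsg.Agent.H419.Spor.Co3.inc_k (w := Spor.leechV) (fun h => by
        have := congrArg (fun v : leechLattice => (v : GolayPt → ℤ) none) h
        exact absurd this (by decide)) Cfsg.Agent.H419.Spor.Co3.inc_fix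
  have hv : Van Spor.Co3 (Cfsg.Agent.H419.Spor.Co3.k Cfsg.Agent.H419.Spor.Co3.y14) := by
    refine ⟨μ, ?_⟩
    have h1 := hμ (Cfsg.Agent.H419.Spor.Co3.k Cfsg.Agent.H419.Spor.Co3.y14)
    rw [lchi_perm Cfsg.Agent.H419.Spor.Co3.inc
      (Cfsg.Agent.H419.Spor.Co3.inc_k Cfsg.Agent.H419.Spor.Co3.y14)] at h1
    have h2 : Nat.card (MulAction.fixedBy GolayPt
        ((Cfsg.Agent.H419.Spor.Co3.y14 : St1) : M24)) = 1 := x14_fix
    rw [h2] at h1
    simpa using h1
  exact Rows.mulEquiv (rows_of_prime_mul (p := 23) (q := 2) (r := 7) (n := 14) (by norm_num) (by norm_num)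
    (by norm_num) (by norm_num) (by norm_num) (by norm_num)
    (vord_of_dz (Cfsg.Agent.H713.Spor.Small.hasDZ_of_lchi hfac hμ) (by rw [hcard]; norm_num))
    ⟨_, vz_of_inner hv (inner_of_out Cfsg.Agent.S2071.result), Cfsg.Agent.H419.Spor.Co3.order⟩
    (by norm_num) (by norm_num) (by norm_num)) e.symm

theorem rows_co2 {K : Type*} [Group K] (h : Spor.IsoCo2 K) : Rows K := by
  obtain ⟨e⟩ := h
  have hs : IsSimpleGroup Spor.Co2 := Cfsg.Agent.Schreier.CoTwoStab.isSimpleGroup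
  have hcard : Nat.card Spor.Co2 = 42305421312000 := Cfsg.Agent.BiChar.Small.card_Co2
  have hfin : Finite Spor.Co2 := Nat.finite_of_card_ne_zero (by rw [hcard]; norm_num)
  have hfac : (Nat.card Spor.Co2).factorization 23 = 1 := by
    rw [hcard]; exact factorization_eq_one (by norm_num) (by norm_num)
  obtain ⟨μ, hμ⟩ := irr23 Cfsg.Agent.H419.Spor.Co2.inc Cfsg.Agent.H419.Spor.Co2.inc_injective
    (by rw [hcard]; norm_num) Cfsg.Agent.H419.Spor.Co2.k ⟨Cfsg.Agent.H419.Spor.Co3.y14, fun h => by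
      have := Cfsg.Agent.H419.Spor.Co2.order
      rw [h, orderOf_one] at this
      norm_num at this⟩ Cfsg.Agent.H419.Spor.Co2.inc_k (w := Cfsg.Agent.H419.Spor.Co2.leechW) (fun h => by
        have := congrArg (fun v : leechLattice => (v : GolayPt → ℤ) none) h
        exact absurd this (by decide)) Cfsg.Agent.H419.Spor.Co2.inc_fix
  have hv : Van Spor.Co2 (Cfsg.Agent.H419.Spor.Co2.k Cfsg.Agent.H419.Spor.Co3.y14) := by
    refine ⟨μ, ?_⟩
    have h1 := hμ (Cfsg.Agent.H419.Spor.Co2.k Cfsg.Agent.H419.Spor.Co3.y14)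
    rw [lchi_perm Cfsg.Agent.H419.Spor.Co2.inc
      (Cfsg.Agent.H419.Spor.Co2.inc_k Cfsg.Agent.H419.Spor.Co3.y14)] at h1
    have h2 : Nat.card (MulAction.fixedBy GolayPt
        ((Cfsg.Agent.H419.Spor.Co3.y14 : St1) : M24)) = 1 := x14_fix
    rw [h2] at h1
    simpa using h1
  exact Rows.mulEquiv (rows_of_prime_mul (p := 23) (q := 2) (r := 7) (n := 14) (by norm_num) (by norm_num)
    (by norm_num) (by norm_num) (by norm_num) (by norm_num)
    (vord_of_dz (Cfsg.Agent.H713.Spor.Small.hasDZ_of_lchi hfac hμ) (by rw [hcard]; norm_num))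
    ⟨_, vz_of_inner hv (inner_of_out Cfsg.Agent.S2070.result), Cfsg.Agent.H419.Spor.Co2.order⟩
    (by norm_num) (by norm_num) (by norm_num)) e.symm

theorem rows_fi22 {K : Type u} [Group K] (h : Spor.IsoFi22 K) : Rows K := by
  obtain ⟨e⟩ := h
  have hc := Cfsg.Agent.H713.Spor.Fi22.card_fi22 e
  have hfin : Finite K := Nat.finite_of_card_ne_zero (by rw [hc]; norm_num)
  have : Fact (Nat.Prime 13) := ⟨by norm_num⟩
  obtain ⟨x, hx⟩ := Cfsg.Agent.H713.Spor.Fi22.exists_22 e
  exact rows_of_two 11 13 2 22 (by norm_num) (Cfsg.Agent.H713.Spor.Fi22.hasDZ_11 e)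
    (Cfsg.Agent.H713.Spor.Fi22.hasDZ_13 e)
    (vord_of_dz_order (Cfsg.Agent.H713.Spor.Fi22.hasDZ_11 e) hx (by norm_num)) (by norm_num)
    (by rw [hc]; norm_num) (by rw [hc]; norm_num) (by norm_num) (by norm_num) (by norm_num)

theorem rows_fi23 {K : Type*} [Group K] (h : Spor.IsoFi23 K) : Rows K := by
  obtain ⟨e⟩ := h
  have hcard : Nat.card Spor.Fi23 = 4089470473293004800 := Cfsg.Agent.Fischer.Fi23Simple.card_Fi23
  have hfin : Finite Spor.Fi23 := Cfsg.Agent.H713.Spor.Fi23.finite_fi23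
  have : Fact (Nat.Prime 13) := ⟨by norm_num⟩
  have : Fact (Nat.Prime 17) := ⟨by norm_num⟩
  obtain ⟨hi, ho⟩ := Cfsg.Agent.S1689.result
  have h13 : HasDZ 13 Spor.Fi23 := by
    refine Cfsg.Agent.H690.Spor.RankThree.hasDZ_of_index _ (k := 3510) (l := 28160) hi ho (by norm_num)
      (by norm_num) (by norm_num) ?_ ?_ ?_
    · right
      rw [hcard]
      norm_num
    · rw [hcard]
      exact factorization_eq_one (by norm_num) (by norm_num)
    · rw [Cfsg.Agent.H690.Spor.RankRows.fac (n := 1) (m := 31671 * 270 * 28160) (by norm_num) (by norm_num)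
        (by norm_num)]
      decide
  exact Rows.mulEquiv (rows_of_dz 13 17 23 h13 Cfsg.Agent.H713.Spor.Fi23.hasDZ_17
    Cfsg.Agent.H713.Spor.Fi23.hasDZ_23
    (by rw [hcard]; norm_num) (by rw [hcard]; norm_num) (by rw [hcard]; norm_num) (by norm_num)
    (by norm_num) (by norm_num)) e.symm

theorem rows_fi24 {K : Type*} [Group K] (h : Spor.IsoFi24' K) : Rows K := by
  obtain ⟨e⟩ := h
  have hfin := Cfsg.Agent.H713.Spor.FiTF.finite'
  have hcard : Nat.card Spor.Fi24' = 1255205709190661721292800 := Cfsg.Agent.R08.FiTwentyFour.card_commutator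
  have : Fact (Nat.Prime 17) := ⟨by norm_num⟩
  have : Fact (Nat.Prime 29) := ⟨by norm_num⟩
  exact Rows.mulEquiv (rows_of_dz 17 23 29 Cfsg.Agent.H713.Spor.FiTF.hasDZ_17
    Cfsg.Agent.H713.Spor.FiTF.hasDZ_23 Cfsg.Agent.H713.Spor.FiTF.hasDZ_29
    (by rw [hcard]; norm_num) (by rw [hcard]; norm_num) (by rw [hcard]; norm_num) (by norm_num)
    (by norm_num) (by norm_num)) e.symm

theorem rows_m {K : Type*} [Group K] (h : Spor.IsoM K) : Rows K := by
  have hcard := Cfsg.Agent.H713.Spor.M.card_eq h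
  have hfin : Finite K := Nat.finite_of_card_ne_zero (by rw [hcard]; norm_num)
  exact rows_of_dz 29 41 59 (Cfsg.Agent.H713.Spor.M.hasDZ_29 h) (Cfsg.Agent.H713.Spor.M.hasDZ_41 h)
    (Cfsg.Agent.H713.Spor.M.hasDZ_59 h) (by rw [hcard]; norm_num) (by rw [hcard]; norm_num)
    (by rw [hcard]; norm_num) (by norm_num) (by norm_num) (by norm_num)

theorem rows_b (hS : Cfsg.Agent.H690.Spor.Trans.AllKnown) {K : Type u} [Group K] (h : Spor.IsoB K) : Rows K := by
  have h23 := fun p hp => Cfsg.Agent.H690.Spor.Trans.b hS h (p := p) hp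
  obtain ⟨e⟩ := h
  have hcard : Nat.card K = 4154781481226426191177580544000000 := by
    rw [Nat.card_congr e.toEquiv]
    exact (Cfsg.Agent.S1704.result : Cfsg.IsB Cfsg.Spor.BabyMonster).2
  have hfin : Finite K := Nat.finite_of_card_ne_zero (by rw [hcard]; norm_num)
  have : Fact (Nat.Prime 31) := ⟨by norm_num⟩
  have : Fact (Nat.Prime 47) := ⟨by norm_num⟩
  exact rows_of_dz 23 31 47 (h23 23 (by simp)) (h23 31 (by simp)) (h23 47 (by simp))
    (by rw [hcard]; norm_num) (by rw [hcard]; norm_num) (by rw [hcard]; norm_num) (by norm_num)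
    (by norm_num) (by norm_num)

theorem rows_ru {K : Type u} [Group K] (h : Spor.IsoRu K) : Rows K := by
  have h7 := fun p hp => Cfsg.Agent.H690.Spor.Ru.hasDZ h (p := p) hp
  obtain ⟨e⟩ := h
  have hcard : Nat.card K = 145926144000 := by
    rw [Nat.card_congr (e.trans Cfsg.Agent.RuLat.Main.equiv).toEquiv]
    exact Cfsg.Agent.SporadicB.RuOrder.card_H
  have hfin : Finite K := Nat.finite_of_card_ne_zero (by rw [hcard]; norm_num)
  have : Fact (Nat.Prime 13) := ⟨by norm_num⟩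
  have : Fact (Nat.Prime 29) := ⟨by norm_num⟩
  exact rows_of_dz 7 13 29 (h7 7 (by simp)) (h7 13 (by simp)) (h7 29 (by simp))
    (by rw [hcard]; norm_num) (by rw [hcard]; norm_num) (by rw [hcard]; norm_num) (by norm_num)
    (by norm_num) (by norm_num)

theorem rows_suz {K : Type u} [Group K] (h : Spor.IsoSuz K) : Rows K := by
  have hfin := Cfsg.Agent.H690.Spor.SuzRow.finite h
  have hcard : Nat.card K = 448345497600 := by
    obtain ⟨e⟩ := h
    rw [Nat.card_congr e.toEquiv]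
    exact Cfsg.Agent.OrdDiv.table_spor Spor.Suz (.suz, 448345497600) (by decide +kernel) ⟨MulEquiv.refl _⟩
  obtain ⟨x, hx, ho⟩ := Cfsg.Agent.H690.Spor.SuzRow.exists_vz h
  exact rows_of_two 7 11 2 14 (by norm_num) (Cfsg.Agent.H690.Spor.RankRows.suz h (Or.inl rfl))
    (Cfsg.Agent.H690.Spor.RankRows.suz h (Or.inr rfl)) ⟨x, hx, by rw [ho]⟩ (by norm_num)
    (by rw [hcard]; norm_num) (by rw [hcard]; norm_num) (by norm_num) (by norm_num) (by norm_num)

theorem rows_tits {K : Type u} [Group K] [IsSimpleGroup K] (h : Lie.IsoTits K) : Rows K := by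
  have hfin := Cfsg.Agent.H690.Spor.Tits.finite h
  have : Fact (Nat.Prime 3) := ⟨by norm_num⟩
  have : Fact (Nat.Prime 13) := ⟨by norm_num⟩
  have hcard : Nat.card K = 17971200 := Cfsg.Agent.BiChar.Small.card_of_isoTits h
  obtain ⟨x, hx, ho⟩ := Cfsg.Agent.H690.Spor.Tits.exists_vz h
  exact rows_of_two 3 13 2 6 (by norm_num)
    (Cfsg.Agent.H690.Spor.Tits.hasDZ h (by norm_num) (by norm_num) (by norm_num))
    (Cfsg.Agent.H690.Spor.Tits.hasDZ h (by norm_num) (by norm_num) (by norm_num)) ⟨x, hx, by rw [ho]⟩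
    (by norm_num) (by rw [hcard]; norm_num) (by rw [hcard]; norm_num) (by norm_num) (by norm_num) (by norm_num)

end Cfsg.Agent.H620.RowSporB
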