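import Cfsg.Agent.H620.RowClass
import Cfsg.Agent.H713.Engine

/-!
# Rows from a list of orders of `VZ` elements (helper620)
-/

set_option autoImplicit false

namespace Cfsg.Agent.H620.SporCrit

open Cfsg Cfsg.Agent.H620 Cfsg.Agent.H713 Cfsg.Agent.H620.RowClass Cfsg.Agent.H665.NoPQ

/-- There is a `VZ` element of order `n`. -/
def VOrd (S : Type*) [Group S] (n : ℕ) : Prop := ∃ x : S, VZ S x ∧ orderOf x = n

theorem VOrd.mulEquiv {S T : Type*} [Group S] [Group T] {n : ℕ} (h : VOrd S n) (e : S ≃* T) : VOrd T n := by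
  obtain ⟨x, hx, hn⟩ := h
  exact ⟨e x, hx.mulEquiv e, by rw [MulEquiv.orderOf_eq, hn]⟩

theorem kill_of_hasDZ {G : Type*} [Group G] [Finite G] {p : ℕ} [hp : Fact p.Prime]
    (h : HasDZ p G) : Kill G p := by
  obtain ⟨χ, hχ⟩ := h
  exact kill_of_dz p χ hχ

theorem vord_of_kill {S : Type*} [Group S] [Finite S] {p : ℕ} [Fact p.Prime] (h : Kill S p)
    (hd : p ∣ Nat.card S) : VOrd S p := by
  obtain ⟨x, hx⟩ := exists_prime_orderOf_dvd_card' p hd
  exact ⟨x, h.vz (by rw [hx]), hx⟩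

theorem vord_of_dz {S : Type*} [Group S] [Finite S] {p : ℕ} [Fact p.Prime] (h : HasDZ p S)
    (hd : p ∣ Nat.card S) : VOrd S p := vord_of_kill (kill_of_hasDZ h) hd

theorem vord_of_dz_order {S : Type*} [Group S] [Finite S] {p : ℕ} [Fact p.Prime] (h : HasDZ p S)
    {x : S} {n : ℕ} (hx : orderOf x = n) (hd : p ∣ n) : VOrd S n :=
  ⟨x, (kill_of_hasDZ h).vz (by rwa [hx]), hx⟩

theorem gcd_dvd (L : List ℕ) {p : ℕ} (h : ∀ n ∈ L, p ∣ n) : p ∣ L.foldr Nat.gcd 0 := by
  induction L with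
  | nil => exact dvd_zero _
  | cons a L ih =>
    rw [List.foldr_cons]
    exact Nat.dvd_gcd (h a (by simp)) (ih fun n hn => h n (by simp [hn]))

/-- **The rows from orders of `VZ` elements.** -/
theorem rows_of_orders {S : Type*} [Group S] (L : List ℕ) (hL : ∀ n ∈ L, VOrd S n)
    (hg : L.foldr Nat.gcd 0 = 1) (r : Fin 3 → ℕ) (hr : ∀ i, (r i).Prime) (hinj : Function.Injective r)
    (h : ∀ i, ∃ n ∈ L, r i ∣ n) : Rows S := by
  constructor
  · intro p hp
    by_contra hcon
    push Not at hcon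
    apply hp.one_lt.ne'
    rw [← Nat.dvd_one, ← hg]
    apply gcd_dvd
    intro n hn
    obtain ⟨x, hx, rfl⟩ := hL n hn
    exact hcon x hx
  · choose n hn hnr using h
    choose x hx hxn using hL
    exact row57_of_three (fun i => x (n i) (hn i)) r hr hinj (fun i => by rw [hxn]; exact hnr i)
      (fun i => hx (n i) (hn i))

/-- Three primes of defect zero. -/
theorem rows_of_dz {S : Type*} [Group S] [Finite S] (p q r : ℕ) [hp : Fact p.Prime] [hq : Fact q.Prime]
    [hr : Fact r.Prime] (h1 : HasDZ p S) (h2 : HasDZ q S) (h3 : HasDZ r S) (hpd : p ∣ Nat.card S)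
    (hqd : q ∣ Nat.card S) (hrd : r ∣ Nat.card S) (hpq : p ≠ q) (hpr : p ≠ r) (hqr : q ≠ r) : Rows S := by
  refine ⟨row56_of_kill p q hp.out hq.out hpq (kill_of_hasDZ h1) (kill_of_hasDZ h2) hpd hqd, ?_⟩
  refine row57_of_kill_three ![p, q, r] ?_ ?_ ?_ ?_
  · intro i
    fin_cases i
    · exact hp.out
    · exact hq.out
    · exact hr.out
  · intro i j hij
    fin_cases i <;> fin_cases j <;> simp_all [Ne.symm]
  · intro i
    fin_cases i <;> assumption
  · intro i
    have k1 := kill_of_hasDZ h1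
    have k2 := kill_of_hasDZ h2
    have k3 := kill_of_hasDZ h3
    fin_cases i <;> assumption

/-- Two primes of defect zero and a `VZ` element of order divisible by a third prime. -/
theorem rows_of_two {S : Type*} [Group S] [Finite S] (p q r n : ℕ) [hp : Fact p.Prime] [hq : Fact q.Prime]
    (hr : r.Prime) (h1 : HasDZ p S) (h2 : HasDZ q S) (h3 : VOrd S n) (hrn : r ∣ n) (hpd : p ∣ Nat.card S)
    (hqd : q ∣ Nat.card S) (hpq : p ≠ q) (hpr : p ≠ r) (hqr : q ≠ r) : Rows S := by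
  refine rows_of_orders [p, q, n] ?_ ?_ ![p, q, r] ?_ ?_ ?_
  · intro m hm
    simp only [List.mem_cons, List.not_mem_nil, or_false] at hm
    rcases hm with rfl | rfl | rfl
    · exact vord_of_dz h1 hpd
    · exact vord_of_dz h2 hqd
    · exact h3
  · have h5 : Nat.Coprime p q := (Nat.coprime_primes hp.out hq.out).2 hpq
    show Nat.gcd p (Nat.gcd q (Nat.gcd n 0)) = 1
    rw [← Nat.gcd_assoc, Nat.Coprime.gcd_eq_one h5, Nat.gcd_one_left]
  · intro i
    fin_cases i
    · exact hp.out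
    · exact hq.out
    · exact hr
  · intro i j hij
    fin_cases i <;> fin_cases j <;> simp_all [Ne.symm]
  · intro i
    fin_cases i
    · exact ⟨p, by simp, dvd_rfl⟩
    · exact ⟨q, by simp, dvd_rfl⟩
    · exact ⟨n, by simp, hrn⟩

end Cfsg.Agent.H620.SporCrit
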