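import Cfsg.Agent.H620.ONSixteen
import Cfsg.Agent.H419.Row
import Cfsg.Agent.H620.RowSporA
import Cfsg.Agent.H713.Spor.ON
import Cfsg.Agent.H690.Spor.ONRow

/-!
# The O'Nan group: a vanishing element of order 20 (helper620)

`|C(v y)| ≤ 20`, at least 21 classes.
-/

set_option autoImplicit false
set_option maxRecDepth 100000

namespace Cfsg.Agent.H620.ONVan

open Cfsg Subgroup
open Cfsg.Spor (ON)
open Cfsg.Spor.ON (Gen)
open Cfsg.Agent.SporadicB.ON45Word (on)
open Cfsg.Agent.KFacts.ON.Words (hs vv v)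
open Cfsg.Agent.KFacts.ON.Struct
open Cfsg.Agent.KFacts.ON.Aut (E0 E0_f aut_cases der)
open Cfsg.Agent.UGT.C.BalONTab Cfsg.Agent.UGT.C.BalONInv
open Cfsg.Agent.ONType.TupK (K0)
open Cfsg.Agent.ONType.Psl (PSL3 SL3)
open Cfsg.Agent.ONType.PslCard (card_PSL3)
open Cfsg.Agent.SporadicA.FieldFour
open Cfsg.Agent.CpAut.SmallP Cfsg.Agent.CpAut.SmallP.PslFour
open Cfsg.Agent.CpAutON.Codes (E_six E_seven v_four)
open Cfsg.Agent.H620.ONStruct Cfsg.Agent.H620.ONSixteen
open Cfsg.Agent.H710.VanCount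
open Cfsg.Agent.H713 (VZ)

/-! ### Elements of order 7 of `L₃(4)` are not real -/

theorem trace_ne7 : m7.trace ≠ (m7 ^ 6).trace := by
  rw [Matrix.trace_fin_three, Matrix.trace_fin_three]; decide +kernel

theorem not_inv_p7 (p : PSL3) : p * p7 ≠ p7 ^ 6 * p := by
  intro h
  obtain ⟨C, rfl⟩ := QuotientGroup.mk_surjective p
  have h1 := lift_conj (q := 7) (A := s7) (B := s7 ^ 6) (C := C) (Or.inl rfl) s7_pow
    (by rw [← pow_mul, mul_comm, pow_mul, s7_pow, one_pow]) h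
  have h2 : (C : Matrix (Fin 3) (Fin 3) F4) * m7 = m7 ^ 6 * C := by
    have h3 := congrArg Subtype.val h1
    have h4 : ((s7 ^ 6 * C : SL3) : Matrix (Fin 3) (Fin 3) F4) = ((s7 ^ 6 : SL3) : Matrix (Fin 3) (Fin 3) F4) * C := rfl
    have h5 : ((s7 ^ 6 : SL3) : Matrix (Fin 3) (Fin 3) F4) = m7 ^ 6 := Matrix.SpecialLinearGroup.coe_pow _ _
    rw [h5] at h4
    exact h3.trans h4
  apply trace_ne7
  have h3 : ((C⁻¹ : SL3) : Matrix (Fin 3) (Fin 3) F4) * (C : Matrix (Fin 3) (Fin 3) F4) = 1 := by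
    have h4 : ((C⁻¹ * C : SL3) : Matrix (Fin 3) (Fin 3) F4) = 1 := by rw [inv_mul_cancel]; rfl
    exact h4
  calc m7.trace = (((C⁻¹ : SL3) : Matrix (Fin 3) (Fin 3) F4) * (C : Matrix (Fin 3) (Fin 3) F4) * m7).trace := by
        rw [h3, one_mul]
    _ = (((C⁻¹ : SL3) : Matrix (Fin 3) (Fin 3) F4) * (m7 ^ 6 * (C : Matrix (Fin 3) (Fin 3) F4))).trace := by
        rw [mul_assoc, h2]
    _ = ((m7 ^ 6 * (C : Matrix (Fin 3) (Fin 3) F4)) * ((C⁻¹ : SL3) : Matrix (Fin 3) (Fin 3) F4)).trace := by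
        rw [Matrix.trace_mul_comm]
    _ = (m7 ^ 6).trace := by
        rw [mul_assoc, mul_eq_one_comm.1 h3, mul_one]

/-! ### Commuting products -/

theorem mem_J_of_conj {g : ON} (h : g * v * g⁻¹ = v) : g ∈ J := mem_J.2 (mul_inv_eq_iff_eq_mul.1 h)

/-- Elements of order 20 have at least two classes. -/
theorem not_conj_20 {y : ON} (hy : y ∈ J) (ho : orderOf y = 5) : ¬ IsConj (v * y) ((v * y) ^ 17) := by
  intro hc
  obtain ⟨g, hg⟩ := isConj_iff.1 hc
  obtain ⟨h1, h2⟩ := pow_vy hy ho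
  have hv : g * v * g⁻¹ = v := by
    have h3 : (g * (v * y) * g⁻¹) ^ 5 = ((v * y) ^ 17) ^ 5 := by rw [hg]
    rw [conj_pow, ← pow_mul, mul_comm 17 5, pow_mul, h1] at h3
    rw [h3, show (17 : ℕ) = 4 * 4 + 1 by norm_num, pow_succ, pow_mul, v_four, one_pow, one_mul]
  have hgJ := mem_J_of_conj hv
  have hy2 : g * y * g⁻¹ = y ^ 2 := by
    have h3 : (g * (v * y) * g⁻¹) ^ 16 = ((v * y) ^ 17) ^ 16 := by rw [hg]
    rw [conj_pow, ← pow_mul, mul_comm 17 16, pow_mul, h2] at h3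
    rw [h3, show (17 : ℕ) = 5 * 3 + 2 by norm_num, pow_add, pow_mul, ← ho, pow_orderOf_eq_one, one_pow,
      one_mul]
  obtain ⟨π, -, hk⟩ := exists_pi
  apply not_sq (orderOf_pi hk (by norm_num) (by norm_num) hy ho) (π ⟨g, hgJ⟩)
  rw [← map_inv, ← map_mul, ← map_mul, ← map_pow]
  exact congrArg π (Subtype.ext hy2)

theorem pow_vy7 {y : ON} (hy : y ∈ J) (ho : orderOf y = 7) : (v * y) ^ 21 = v ∧ (v * y) ^ 8 = y := by
  have hc : Commute v y := (mem_J.1 hy).symm
  have h4 := v_four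
  have h7 : y ^ 7 = 1 := by rw [← ho]; exact pow_orderOf_eq_one y
  constructor
  · rw [hc.mul_pow, show (21 : ℕ) = 7 * 3 by norm_num, pow_mul y, h7, one_pow, mul_one,
      show (7 * 3 : ℕ) = 4 * 5 + 1 by norm_num, pow_succ, pow_mul, h4, one_pow, one_mul]
  · rw [hc.mul_pow, show (8 : ℕ) = 4 * 2 by norm_num, pow_mul v, h4, one_pow, one_mul,
      show (4 * 2 : ℕ) = 7 + 1 by norm_num, pow_succ, h7, one_mul]

theorem orderOf_vmul {y : ON} {p : ℕ} (hp : Nat.Coprime 4 p) (hy : y ∈ J) (ho : orderOf y = p) :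
    orderOf (v * y) = 4 * p := by
  have hc : Commute v y := (mem_J.1 hy).symm
  rw [hc.orderOf_mul_eq_mul_orderOf_of_coprime (by rw [orderOf_v, ho]; exact hp), orderOf_v, ho]

theorem exists_28 : ∃ x z : ON, orderOf x = 28 ∧ orderOf z = 28 ∧ ¬ IsConj x z := by
  obtain ⟨π, hπ, hk⟩ := exists_pi
  obtain ⟨z, hz⟩ := hπ p7
  have h7 : z ^ 7 ∈ center ↥J := by
    rw [← hk, MonoidHom.mem_ker, map_pow, hz]
    exact p7_pow
  have h28 : z ^ 28 = 1 := by
    have h1 : (⟨z ^ 7, h7⟩ : center ↥J) ^ 4 = 1 := by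
      rw [← card_center]
      exact pow_card_eq_one'
    have h2 := congrArg (fun t : center ↥J => (t : ↥J)) h1
    have h3 : (z ^ 7) ^ 4 = 1 := h2
    rwa [← pow_mul] at h3
  set y : ↥J := z ^ 8 with hy
  have hπy : π y = p7 := by
    rw [hy, map_pow, hz, pow_succ, p7_pow, one_mul]
  have hy7 : y ^ 7 = 1 := by
    rw [hy, ← pow_mul, show 8 * 7 = 28 * 2 by norm_num, pow_mul, h28, one_pow]
  have ho : orderOf (y : ON) = 7 := by
    have : Fact (Nat.Prime 7) := ⟨by norm_num⟩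
    apply orderOf_eq_prime
    · exact congrArg Subtype.val hy7
    · intro h1
      apply p7_ne
      rw [← hπy, show y = 1 from Subtype.ext h1, map_one]
  obtain ⟨h1, h2⟩ := pow_vy7 y.2 ho
  have h3 : orderOf (v * (y : ON)) = 28 := orderOf_vmul (by norm_num) y.2 ho
  refine ⟨v * y, (v * y) ^ 13, h3, ?_, ?_⟩
  · rw [Nat.Coprime.orderOf_pow (by rw [h3]; norm_num), h3]
  · intro hc
    obtain ⟨g, hg⟩ := isConj_iff.1 hc
    have hv : g * v * g⁻¹ = v := by
      have h3 : (g * (v * y) * g⁻¹) ^ 21 = ((v * (y : ON)) ^ 13) ^ 21 := by rw [hg]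
      rw [conj_pow, ← pow_mul, mul_comm 13 21, pow_mul, h1] at h3
      rw [h3, show (13 : ℕ) = 4 * 3 + 1 by norm_num, pow_succ, pow_mul, v_four, one_pow, one_mul]
    have hgJ := mem_J_of_conj hv
    have hy2 : g * (y : ON) * g⁻¹ = (y : ON) ^ 6 := by
      have h3 : (g * (v * y) * g⁻¹) ^ 8 = ((v * (y : ON)) ^ 13) ^ 8 := by rw [hg]
      rw [conj_pow, ← pow_mul, mul_comm 13 8, pow_mul, h2] at h3
      rw [h3, show (13 : ℕ) = 7 + 6 by norm_num, pow_add, ← ho, pow_orderOf_eq_one, one_mul]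
    apply not_inv_p7 (π ⟨g, hgJ⟩)
    rw [← hπy, ← map_mul, ← map_pow, ← map_mul]
    exact congrArg π (Subtype.ext (mul_inv_eq_iff_eq_mul.1 hy2))

/-- Two classes of elements of order 4. -/
theorem exists_4 : ∃ x z : ON, orderOf x = 4 ∧ orderOf z = 4 ∧ ¬ IsConj x z := by
  have h4 : E 4 * E 4 = on .f := by rw [E_sq (by norm_num), m4, E_one]
  refine ⟨v, E 4, orderOf_v, ?_, ?_⟩
  · have h : orderOf (E 4) = 2 ^ (1 + 1) := orderOf_eq_prime_pow (by
      rw [pow_one, pow_two, h4]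
      exact f_ne_one) (by
      rw [show 2 ^ (1 + 1) = 2 * 2 by norm_num, pow_mul, pow_two, pow_two, h4, ff])
    rw [h]
    norm_num
  · intro hc
    obtain ⟨g, hg⟩ := isConj_iff.1 hc
    have hf : g * on .f * g⁻¹ = on .f := by
      have h1 : (g * v * g⁻¹) ^ 2 = E 4 ^ 2 := by rw [hg]
      rw [conj_pow, pow_two, pow_two, vv, h4] at h1
      exact h1
    have hgK : g ∈ K0 := mem_K0.2 (mul_inv_eq_iff_eq_mul.1 hf)
    rcases conj_v hgK with h | h
    · rw [hg, ← E_six] at h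
      have := E_inj hs (by norm_num) (by norm_num) h
      norm_num at this
    · have h7 : E 7 = v⁻¹ := by
        rw [E_seven, ← vv]
        have := v_four
        rw [eq_inv_iff_mul_eq_one, ← this]
        simp only [pow_succ, pow_zero, one_mul, mul_assoc]
      rw [hg, ← h7] at h
      have := E_inj hs (by norm_num) (by norm_num) h
      norm_num at this

theorem exists_16 : ∃ x z : ON, orderOf x = 16 ∧ orderOf z = 16 ∧ ¬ IsConj x z :=
  ⟨E 384, E 384 ^ 3, orderOf_x16, by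
    rw [Nat.Coprime.orderOf_pow (by rw [orderOf_x16]; norm_num), orderOf_x16], not_conj⟩

theorem exists_J {p : ℕ} [Fact p.Prime] (hp : p ∣ 80640) : ∃ y : ON, y ∈ J ∧ orderOf y = p := by
  obtain ⟨⟨y, hy⟩, h⟩ := exists_prime_orderOf_dvd_card' (G := ↥J) p (by rw [card_J]; exact hp)
  exact ⟨y, hy, by rw [← h]; exact (Subgroup.orderOf_mk y hy).symm⟩

theorem exists_five : ∃ y : ON, y ∈ J ∧ orderOf y = 5 := by
  have : Fact (Nat.Prime 5) := ⟨by norm_num⟩
  exact exists_J (by norm_num)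

theorem exists_20 : ∃ x z : ON, orderOf x = 20 ∧ orderOf z = 20 ∧ ¬ IsConj x z := by
  obtain ⟨y, hy, ho⟩ := exists_five
  have h := orderOf_vy hy ho
  exact ⟨v * y, (v * y) ^ 17, h, by rw [Nat.Coprime.orderOf_pow (by rw [h]; norm_num), h], not_conj_20 hy ho⟩

theorem exists_prime {p : ℕ} [Fact p.Prime] (hp : p ∣ 460815505920) : ∃ y : ON, orderOf y = p :=
  exists_prime_orderOf_dvd_card' p (by rw [card_ON]; exact hp)

theorem exists_mul4 {p : ℕ} [Fact p.Prime] (hp : p ∣ 80640) (h4 : Nat.Coprime 4 p) :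
    ∃ x : ON, orderOf x = 4 * p := by
  obtain ⟨y, hy, ho⟩ := exists_J hp
  exact ⟨v * y, orderOf_vmul h4 hy ho⟩

theorem exists_dvd {n m k : ℕ} (hk : k ≠ 0) (hm : m = n * k) (h : ∃ x : ON, orderOf x = m) : ∃ x : ON, orderOf x = n := by
  obtain ⟨x, hx⟩ := h
  refine ⟨x ^ k, ?_⟩
  rw [orderOf_pow_of_dvd hk (by rw [hx, hm]; exact Dvd.intro_left _ rfl), hx, hm, Nat.mul_div_cancel _ (Nat.pos_of_ne_zero hk)]

/-- There are at least 21 classes. -/
theorem card_classes : 21 ≤ Nat.card (ConjClasses ON) := by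
  have p3 : Fact (Nat.Prime 3) := ⟨by norm_num⟩
  have p5 : Fact (Nat.Prime 5) := ⟨by norm_num⟩
  have p7 : Fact (Nat.Prime 7) := ⟨by norm_num⟩
  have p11 : Fact (Nat.Prime 11) := ⟨by norm_num⟩
  have p19 : Fact (Nat.Prime 19) := ⟨by norm_num⟩
  have p31 : Fact (Nat.Prime 31) := ⟨by norm_num⟩
  have o16 : ∃ x : ON, orderOf x = 16 := ⟨_, orderOf_x16⟩
  have o12 : ∃ x : ON, orderOf x = 12 := exists_mul4 (p := 3) (by norm_num) (by norm_num)
  have o20 : ∃ x : ON, orderOf x = 20 := exists_mul4 (p := 5) (by norm_num) (by norm_num)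
  have o28 : ∃ x : ON, orderOf x = 28 := exists_mul4 (p := 7) (by norm_num) (by norm_num)
  have hcard : ({1, 2, 3, 4, 5, 6, 7, 8, 10, 11, 12, 14, 16, 19, 20, 28, 31} : Finset ℕ).card +
      ({4, 16, 20, 28} : Finset ℕ).card = 21 := by decide
  rw [← hcard]
  refine le_card_conjClasses_two _ _ ?_ ?_
  · intro n hn
    simp only [Finset.mem_insert, Finset.mem_singleton] at hn
    rcases hn with rfl | rfl | rfl | rfl | rfl | rfl | rfl | rfl | rfl | rfl | rfl | rfl | rfl | rfl | rfl | rfl | rfl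
    · exact ⟨1, orderOf_one⟩
    · exact ⟨_, orderOf_f⟩
    · exact exists_prime (by norm_num)
    · exact ⟨_, orderOf_v⟩
    · exact exists_prime (by norm_num)
    · exact exists_dvd (k := 2) (by norm_num) (by norm_num) o12
    · exact exists_prime (by norm_num)
    · exact exists_dvd (k := 2) (by norm_num) (by norm_num) o16
    · exact exists_dvd (k := 2) (by norm_num) (by norm_num) o20
    · exact exists_prime (by norm_num)
    · exact o12
    · exact exists_dvd (k := 2) (by norm_num) (by norm_num) o28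
    · exact o16
    · exact exists_prime (by norm_num)
    · exact o20
    · exact o28
    · exact exists_prime (by norm_num)
  · intro n hn
    simp only [Finset.mem_insert, Finset.mem_singleton] at hn
    rcases hn with rfl | rfl | rfl | rfl
    · exact exists_4
    · exact exists_16
    · exact exists_20
    · exact exists_28

/-! ### Automorphisms -/

theorem der' : ⁅centralizer ({on .f} : Set ON), centralizer ({on .f} : Set ON)⁆ ≤ J := der

theorem map_J : J.map (E0 : ON →* ON) = J := by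
  have h0 : J.map (E0 : ON →* ON) ≤ centralizer ({on .f} : Set ON) := by
    rintro _ ⟨x, hx, rfl⟩
    rw [mem_centralizer_singleton_iff]
    have h1 := mem_K0.1 (J_le hx)
    have h2 := congrArg E0 h1
    rw [map_mul, map_mul, E0_f] at h2
    exact h2
  have hle : J.map (E0 : ON →* ON) ≤ J := by
    have h1 : J.map (E0 : ON →* ON) = ⁅J.map (E0 : ON →* ON), J.map (E0 : ON →* ON)⁆ := by
      rw [← Subgroup.map_commutator, perf]
    rw [h1]
    exact le_trans (Subgroup.commutator_mono h0 h0) der'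
  refine Subgroup.eq_of_le_of_card_ge hle ?_
  rw [Subgroup.card_map_of_injective E0.injective]

theorem E0_v : E0 v ∈ zpowers v := by
  apply cent_J
  intro z hz
  rw [← map_J] at hz
  obtain ⟨x, hx, rfl⟩ := hz
  have h1 := congrArg E0 (mem_J.1 hx)
  rw [map_mul, map_mul] at h1
  exact h1.symm

theorem E0_mem {y : ON} (hy : y ∈ J) : E0 y ∈ J := by
  rw [← map_J]
  exact ⟨y, hy, rfl⟩

theorem aut_vy {y : ON} (hy : y ∈ J) (ho : orderOf y = 5) (α : MulAut ON) :
    ∃ k : ℕ, IsConj ((v * y) ^ k) (α (v * y)) := by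
  rcases aut_cases α with ⟨k, rfl⟩ | ⟨k, rfl⟩
  · exact ⟨1, by rw [pow_one]; exact isConj_iff.2 ⟨k, rfl⟩⟩
  · obtain ⟨i, hi⟩ := (mem_powers_iff_mem_zpowers (x := v)).2 E0_v
    have hi : v ^ i = E0 v := hi
    have h5 : ¬ 5 ^ 2 ∣ Nat.card ↥J := by rw [card_J]; norm_num
    have ho1 : orderOf (⟨E0 y, E0_mem hy⟩ : ↥J) = 5 := by
      rw [Subgroup.orderOf_mk, MulEquiv.orderOf_eq, ho]
    have ho2 : orderOf (⟨y, hy⟩ : ↥J) = 5 := by rw [Subgroup.orderOf_mk, ho]
    obtain ⟨⟨g, hg⟩, j, hj⟩ := Singer.exists_conj_pow (by norm_num : Nat.Prime 5) h5 ho1 ho2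
    have hj : g * E0 y * g⁻¹ = y ^ j := congrArg Subtype.val hj
    obtain ⟨h1, h2⟩ := pow_vy hy ho
    refine ⟨5 * i + 16 * j, ?_⟩
    have h3 : (v * y) ^ (5 * i + 16 * j) = g * E0 (v * y) * g⁻¹ := by
      rw [pow_add, pow_mul, pow_mul, h1, h2, hi, ← hj, map_mul, ← hi]
      have hc : Commute g (v ^ i) := (show Commute g v from mem_J.1 hg).pow_right i
      calc v ^ i * (g * E0 y * g⁻¹) = v ^ i * g * E0 y * g⁻¹ := by simp only [mul_assoc]
        _ = g * v ^ i * E0 y * g⁻¹ := by rw [hc.eq]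
        _ = g * (v ^ i * E0 y) * g⁻¹ := by simp only [mul_assoc]
    rw [h3]
    exact (isConj_iff.2 ⟨g, rfl⟩ : IsConj (E0 (v * y)) (g * E0 (v * y) * g⁻¹)).symm.trans
      (isConj_iff.2 ⟨k, rfl⟩)

/-- Elements of order 20 vanish. -/
theorem vz_20 {y : ON} (hy : y ∈ J) (ho : orderOf y = 5) : VZ ON (v * y) :=
  vz_of_card _ (lt_of_le_of_lt (card_cent_vy hy ho) (lt_of_lt_of_le (by norm_num) card_classes)) (aut_vy hy ho)

end Cfsg.Agent.H620.ONVan

namespace Cfsg.Agent.H620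

open Cfsg Cfsg.Agent.H620.ONVan Cfsg.Agent.H620.ONStruct Cfsg.Agent.H713
open Cfsg.Agent.KFacts.ON.Words (v)

universe u

theorem exists_vz_on : ∃ x : Spor.ON, VZ Spor.ON x ∧ orderOf x = 20 := by
  obtain ⟨y, hy, ho⟩ := exists_five
  exact ⟨v * y, vz_20 hy ho, orderOf_vy hy ho⟩

theorem evMix_on' : H419.Row.EvMix Spor.ON := by
  obtain ⟨x, hx, ho⟩ := exists_vz_on
  exact ⟨x, hx, by rw [ho]; norm_num, 5, by norm_num, by norm_num, by rw [ho]; norm_num⟩

theorem evMix_on {K : Type u} [Group K] (h : Spor.IsoON K) : H419.Row.EvMix K := by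
  obtain ⟨e⟩ := h
  exact H419.Row.EvMix.mulEquiv e.symm evMix_on'

end Cfsg.Agent.H620

namespace Cfsg.Agent.H620

open Cfsg Cfsg.Agent.H620.ONStruct Cfsg.Agent.H713 Cfsg.Agent.H620.SporCrit Cfsg.Agent.H620.RowClass
  Cfsg.Agent.H620.RowSporA

theorem rows_on {K : Type*} [Group K] (h : Spor.IsoON K) : Rows K := by
  obtain ⟨x, hx, ho⟩ := exists_vz_on
  obtain ⟨e⟩ := h
  exact Rows.mulEquiv (rows_of_prime_mul (p := 19) (q := 2) (r := 5) (n := 20) (by norm_num) (by norm_num)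
    (by norm_num) (by norm_num) (by norm_num) (by norm_num)
    (vord_of_dz Cfsg.Agent.H713.Spor.ON.hasDZ_19 (by rw [card_ON]; norm_num)) ⟨x, hx, ho⟩
    (by norm_num) (by norm_num) (by norm_num)) e.symm

end Cfsg.Agent.H620
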