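import Cfsg.Agent.H387.VO.Main
import Cfsg.Agent.H620.ONVan
import Cfsg.Agent.H210.On7.Loc

/-!
# The O'Nan group, `p = 7` (helper620, S4987)

The irreducible character of degree `175616 = 2^9 * 7^3` has 7-defect zero.
-/

set_option autoImplicit false

namespace Cfsg.Agent.H620.TwoVanON

open Cfsg Cfsg.Agent.H620 Cfsg.Agent.H713 Cfsg.Agent.H620.SporCrit Cfsg.Agent.H620.RowClass
  Cfsg.Agent.H620.RowSporA Cfsg.Agent.H665.NoPQ Cfsg.Agent.H387.VO Cfsg.Agent.H419.Row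

/-- Two orders divisible by `p`, all `p`-singular elements vanish. -/
theorem two_of_dz {S : Type*} [Group S] [Finite S] {p m n : ℕ} [hp : Fact p.Prime] (h : HasDZ p S)
    (hm : ∃ x : S, orderOf x = m) (hn : ∃ x : S, orderOf x = n) (hpm : p ∣ m) (hpn : p ∣ n) (hne : m ≠ n) :
    TwoVan p S := by
  obtain ⟨x, hx⟩ := hm
  obtain ⟨y, hy⟩ := hn
  exact TwoVan.of_order (by rwa [hx]) (by rwa [hy]) ((kill_of_hasDZ h).vz (by rwa [hx]))
    ((kill_of_hasDZ h).vz (by rwa [hy])) (by rw [hx, hy]; exact hne)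

/-- `VZ` elements of two orders divisible by `p`. -/
theorem two_of_vord {S : Type*} [Group S] {p m n : ℕ} (hm : VOrd S m) (hn : VOrd S n) (hpm : p ∣ m) (hpn : p ∣ n)
    (hne : m ≠ n) : TwoVan p S := by
  obtain ⟨x, hvx, hx⟩ := hm
  obtain ⟨y, hvy, hy⟩ := hn
  exact TwoVan.of_order (by rwa [hx]) (by rwa [hy]) hvx hvy (by rw [hx, hy]; exact hne)

theorem hasDZ_seven : HasDZ 7 Spor.ON := by
  obtain ⟨χ, hχ⟩ := Cfsg.Agent.H210.On7.exists_charDegree
  have hcard := Cfsg.Agent.H620.ONStruct.card_ON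
  refine dz_of_dvd (n := 3) χ (by rw [hχ]; norm_num) ?_ (by norm_num)
  rw [hcard]
  exact factorization_eq (m := 1343485440) (by norm_num) (by norm_num) (by norm_num)

theorem two_on_7 {K : Type*} [Group K] (h : Spor.IsoON K) : TwoVan 7 K := by
  obtain ⟨e⟩ := h
  refine TwoVan.mulEquiv ?_ e.symm
  obtain ⟨x, -, hx, -⟩ := Cfsg.Agent.H620.ONVan.exists_28
  have h7 : ∃ y : Spor.ON, orderOf y = 7 := ⟨x ^ 4, by rw [orderOf_pow_of_dvd (by norm_num) (by rw [hx]; norm_num), hx]⟩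
  exact two_of_dz hasDZ_seven h7 ⟨x, hx⟩ (by norm_num) (by norm_num) (by norm_num)

end Cfsg.Agent.H620.TwoVanON
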