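import Cfsg.Agent.H620.RowClass
import Cfsg.Agent.H690.Suz

/-!
# The rows of the Suzuki groups (helper620)
-/

set_option autoImplicit false

namespace Cfsg.Agent.H620.RowSz

open Cfsg Cfsg.Agent.H620 Cfsg.Agent.H713 Cfsg.Agent.H620.RowClass

/-- An irreducible character of degree `[G : B]` kills the primes not dividing `|B|`. -/
theorem kill_of_index {G : Type*} [Group G] [Finite G] {B : Subgroup G} {χ : G → ℂ}
    (hχ : IsIrrCharacter G χ) (h1 : χ 1 = (B.index : ℂ)) {l : ℕ} (hl : l.Prime)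
    (hB : ¬ l ∣ Nat.card B) : Kill G l := by
  have : Fact l.Prime := ⟨hl⟩
  refine kill_of_dvd l hχ _ h1 ?_
  have h2 : l ^ (Nat.card G).factorization l ∣ Nat.card G := Nat.ordProj_dvd _ _
  rw [← B.card_mul_index] at h2 ⊢
  exact Nat.Coprime.dvd_of_dvd_mul_left (Nat.Coprime.pow_left _ ((Nat.Prime.coprime_iff_not_dvd hl).2 hB)) h2

theorem kill_sz {F : Type*} [Field F] [Fintype F] {m : ℕ} (hm : 1 ≤ m)
    (hF : Fintype.card F = 2 ^ (2 * m + 1)) {l : ℕ} (hl : l.Prime)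
    (hd : l ∣ (2 ^ (2 * m + 1)) ^ 2 + 1)
    (hcit : ∀ t : ↥(Cfsg.Lie.Sz F (2 ^ (m + 1))), orderOf t = 2 →
      IsPGroup 2 ↥(Subgroup.centralizer ({t} : Set _))) :
    Kill ↥(Cfsg.Lie.Sz F (2 ^ (m + 1))) l ∧ l ∣ Nat.card ↥(Cfsg.Lie.Sz F (2 ^ (m + 1))) := by
  classical
  obtain ⟨hcard, S, hN, hidx, h2, hreg⟩ := Cfsg.Agent.S1163.result hm hF
  have hq : 8 ≤ 2 ^ (2 * m + 1) := by
    calc 8 = 2 ^ 3 := by norm_num
      _ ≤ 2 ^ (2 * m + 1) := Nat.pow_le_pow_right (by norm_num) (by omega)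
  have hnt : Subgroup.normalizer ((S : Subgroup ↥(Cfsg.Lie.Sz F (2 ^ (m + 1)))) : Set ↥(Cfsg.Lie.Sz F (2 ^ (m + 1)))) ≠ ⊤ := by
    intro h3
    rw [h3, Subgroup.index_top] at hidx
    have : 0 < (2 ^ (2 * m + 1)) ^ 2 := by positivity
    omega
  have hBS : ¬ Subgroup.normalizer ((S : Subgroup ↥(Cfsg.Lie.Sz F (2 ^ (m + 1)))) : Set ↥(Cfsg.Lie.Sz F (2 ^ (m + 1)))) ≤
      (S : Subgroup ↥(Cfsg.Lie.Sz F (2 ^ (m + 1)))) := by
    intro h3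
    have h4 : Nat.card (Subgroup.normalizer ((S : Subgroup ↥(Cfsg.Lie.Sz F (2 ^ (m + 1)))) :
        Set ↥(Cfsg.Lie.Sz F (2 ^ (m + 1))))) =
        Nat.card (S : Subgroup ↥(Cfsg.Lie.Sz F (2 ^ (m + 1)))) := by
      rw [le_antisymm h3 Subgroup.le_normalizer]
    obtain ⟨k, hk⟩ := (IsPGroup.iff_card).1 S.2
    have h5 : 2 ^ (2 * m + 1) - 1 ∣ 2 ^ k := by
      rw [← hk, ← h4, hN]
      exact Dvd.intro_left _ rfl
    obtain ⟨j, -, hj⟩ := (Nat.dvd_prime_pow Nat.prime_two).1 h5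
    rcases Nat.eq_zero_or_pos j with rfl | hj0
    · rw [pow_zero] at hj
      omega
    · have h6 : 2 ∣ 2 ^ (2 * m + 1) - 1 := by
        rw [hj]
        exact dvd_pow_self 2 hj0.ne'
      have h7 : 2 ∣ 2 ^ (2 * m + 1) := dvd_pow_self 2 (by omega)
      omega
  obtain ⟨χ, hχ, hχ1⟩ := H690.Suz.of_reg S rfl h2 hreg hcit hnt hBS
  refine ⟨kill_of_index hχ hχ1 hl ?_, hcard ▸ dvd_mul_of_dvd_right hd _⟩
  rw [hN]
  intro h
  have h2q : 2 ∣ 2 ^ (2 * m + 1) := dvd_pow_self 2 (by omega)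
  generalize 2 ^ (2 * m + 1) = q at *
  rcases hl.dvd_mul.1 h with h4 | h4
  · have h5 := (Nat.dvd_add_right h4).1 hd
    exact hl.one_lt.ne' (Nat.dvd_one.1 h5)
  · have h5 : q ^ 2 + 1 = (q - 1) * (q + 1) + 2 := by
      obtain ⟨c, rfl⟩ : ∃ c, q = c + 1 := ⟨q - 1, by omega⟩
      simp only [Nat.add_sub_cancel]
      ring
    have h6 : l ∣ 2 := by
      rw [h5] at hd
      exact (Nat.dvd_add_right (h4.mul_right _)).1 hd
    have h7 : l = 2 := (Nat.prime_dvd_prime_iff_eq hl Nat.prime_two).1 h6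
    subst h7
    have : 2 ∣ q ^ 2 := dvd_pow h2q (by norm_num)
    omega

/-- Two primes dividing `q² + 1`. -/
theorem exists_two_primes {m : ℕ} (hm : 1 ≤ m) : ∃ l k : ℕ, l.Prime ∧ k.Prime ∧ l ≠ k ∧ l ≠ 2 ∧ k ≠ 2 ∧
    l ∣ (2 ^ (2 * m + 1)) ^ 2 + 1 ∧ k ∣ (2 ^ (2 * m + 1)) ^ 2 + 1 := by
  set r := 2 ^ m with hr
  have hr2 : 2 ≤ r := by
    calc 2 = 2 ^ 1 := rfl
      _ ≤ r := Nat.pow_le_pow_right (by norm_num) hm
  have hq : 2 ^ (2 * m + 1) = 2 * r ^ 2 := by rw [hr]; ring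
  rw [hq]
  have e1 : (2 * r ^ 2) ^ 2 + 1 = (2 * r ^ 2 + 2 * r + 1) * (2 * r ^ 2 - 2 * r + 1) := by
    obtain ⟨c, hc⟩ : ∃ c, r = c + 1 := ⟨r - 1, by omega⟩
    have h1 : 2 * r ^ 2 - 2 * r = 2 * c * r := by
      rw [hc]
      have : 2 * (c + 1) ^ 2 = 2 * c * (c + 1) + 2 * (c + 1) := by ring
      omega
    rw [h1, hc]
    ring
  have hge : 1 < 2 * r ^ 2 - 2 * r + 1 := by
    have : 2 * r * 2 ≤ 2 * r ^ 2 := by nlinarith
    omega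
  obtain ⟨l, hl, hld⟩ := Nat.exists_prime_and_dvd (n := 2 * r ^ 2 + 2 * r + 1) (by omega)
  obtain ⟨k, hk, hkd⟩ := Nat.exists_prime_and_dvd (n := 2 * r ^ 2 - 2 * r + 1) (by omega)
  have hl2 : l ≠ 2 := by
    rintro rfl
    have : 2 ∣ 2 * r ^ 2 + 2 * r := ⟨r ^ 2 + r, by ring⟩
    omega
  have hk2 : k ≠ 2 := by
    rintro rfl
    have : 2 ∣ 2 * r ^ 2 - 2 * r := Nat.dvd_sub ⟨r ^ 2, by ring⟩ ⟨r, by ring⟩
    omega
  refine ⟨l, k, hl, hk, ?_, hl2, hk2, e1 ▸ hld.mul_right _, e1 ▸ hkd.mul_left _⟩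
  rintro rfl
  have h1 : l ∣ 4 * r := by
    have h2 := Nat.dvd_sub hld hkd
    have h3 : 2 * r ^ 2 + 2 * r + 1 - (2 * r ^ 2 - 2 * r + 1) = 4 * r := by
      have : 2 * r ≤ 2 * r ^ 2 := by nlinarith
      omega
    rwa [h3] at h2
  have h2 : l ∣ 2 ^ (2 + m) := by
    rw [pow_add, ← hr]
    exact h1
  exact hl2 ((Nat.prime_dvd_prime_iff_eq hl Nat.prime_two).1 (hl.dvd_of_dvd_pow h2))

/-- Three killed primes. -/
def Kill3 (K : Type*) [Group K] (p : ℕ) : Prop :=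
  ∃ l k : ℕ, l.Prime ∧ k.Prime ∧ l ≠ k ∧ l ≠ p ∧ k ≠ p ∧ l ∣ Nat.card K ∧ k ∣ Nat.card K ∧ Kill K l ∧ Kill K k

theorem Kill3.rows {K : Type*} [Group K] [Finite K] {p : ℕ} (hp : p.Prime) (hpd : p ∣ Nat.card K)
    (hpk : Kill K p) (h : Kill3 K p) : Rows K := by
  obtain ⟨l, k, hl, hk, hlk, hlp, hkp, hld, hkd, h1, h2⟩ := h
  refine ⟨row56_of_kill l k hl hk hlk h1 h2 hld hkd, ?_⟩
  refine row57_of_kill_three ![p, l, k] ?_ ?_ ?_ ?_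
  · intro i
    fin_cases i <;> assumption
  · intro i j hij
    fin_cases i <;> fin_cases j <;> simp_all [Ne.symm]
  · intro i
    fin_cases i <;> assumption
  · intro i
    fin_cases i <;> assumption

theorem Kill3.mulEquiv {K L : Type*} [Group K] [Group L] {p : ℕ} (h : Kill3 K p) (e : K ≃* L) :
    Kill3 L p := by
  obtain ⟨l, k, hl, hk, hlk, hlp, hkp, hld, hkd, h1, h2⟩ := h
  rw [Nat.card_congr e.toEquiv] at hld hkd
  exact ⟨l, k, hl, hk, hlk, hlp, hkp, hld, hkd, h1.mulEquiv e, h2.mulEquiv e⟩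

theorem kill3_suzuki {K : Type*} [Group K] [Finite K] (h : Cfsg.Lie.IsoSuzuki K) : Kill3 K 2 := by
  obtain ⟨F, i1, i2, m, hm, hF, ⟨e⟩⟩ := h
  have hc := fun (t : ↥(Cfsg.Lie.Sz F (2 ^ (m + 1)))) (ht : orderOf t = 2) =>
    Cfsg.Agent.SignalizersComponents.BalEndSz.isPGroup_centralizer_suzuki
      ⟨F, i1, i2, m, hm, hF, ⟨MulEquiv.refl _⟩⟩ ht
  obtain ⟨l, k, hl, hk, hlk, hl2, hk2, hld, hkd⟩ := exists_two_primes hm
  have h1 := kill_sz hm hF hl hld hc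
  have h2 := kill_sz hm hF hk hkd hc
  exact Kill3.mulEquiv ⟨l, k, hl, hk, hlk, hl2, hk2, h1.2, h2.2, h1.1, h2.1⟩ e.symm

theorem rows_suzuki {K : Type*} [Group K] [Finite K] [IsSimpleGroup K] (h : Cfsg.Lie.IsoSuzuki K) : Rows K := by
  have hL : IsLieTypeChar 2 K := by
    unfold IsLieTypeChar
    tauto
  refine Kill3.rows Nat.prime_two ?_ (kill_of_lie Nat.prime_two hL) (kill3_suzuki h)
  obtain ⟨F, i1, i2, m, hm, hF, ⟨e⟩⟩ := h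
  rw [Nat.card_congr e.toEquiv, (Cfsg.Agent.S1163.result hm hF).1, mul_assoc]
  exact dvd_mul_of_dvd_left (dvd_pow (dvd_pow_self 2 (by omega)) (by norm_num)) _

end Cfsg.Agent.H620.RowSz
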