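import Cfsg.Agent.H620.TwoVanSpor
import Cfsg.Agent.H681.Van.TitsFive
import Cfsg.Agent.H279.JTwoFive
import Cfsg.Agent.H305.SporHS
import Cfsg.Agent.H681.Van.McLFive
import Cfsg.Agent.H896.Van.Suz
import Cfsg.Agent.H220.S4987.Co2
import Cfsg.Agent.H388.VO.Co1
import Cfsg.Agent.H729.VanFi22
import Cfsg.Agent.H597.Fi23Five
import Cfsg.Agent.H828.FiVan
import Cfsg.Agent.H546.VO.HN
import Cfsg.Agent.H904.SV.Th
import Cfsg.Agent.H594.BFiveMain
import Cfsg.Agent.H434.Spor.BSeven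
import Cfsg.Agent.H679.VanQ.M5
import Cfsg.Agent.H688.Mon.Seven
import Cfsg.Agent.H854.Loc.M11
import Cfsg.Agent.H122.VO.M13
import Cfsg.Agent.H546.VO.Ly
import Cfsg.Agent.H248.VO.Ru
import Cfsg.Agent.H743.VanJ4
import Cfsg.Agent.H687.HeVan
import Cfsg.Agent.H887.SP.Co3

/-!
# S4987: all the sporadic rows (helper620)

`rows` : the structure `TwoVanSpor.Rows`, from the rows proved by helpers 681, 279, 305, 896, 220,
388, 729, 597, 828, 546, 904, 594, 434, 679, 688, 854, 122, 248, 743, 687, 887.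
-/

set_option autoImplicit false

namespace Cfsg.Agent.H620.TwoVanSporAll

open Cfsg Cfsg.Agent.H387.VO Cfsg.Agent.H620.TwoVanSpor

universe u

/-- All the sporadic rows and the row of the Tits group. -/
theorem rows : Rows.{u} where
  tits := fun h => Cfsg.Agent.H681.Van.TitsFive.two_tits_p h
  j2 := fun h => Cfsg.Agent.H279.JTwoFive.two_j2_5 h
  hs := fun h => Cfsg.Agent.H305.SporHS.two_hs_p h
  mcl := fun h => Cfsg.Agent.H681.Van.McLFive.two_mcl_p h
  suz := fun h => Cfsg.Agent.H896.Van.Suz.two_suz_five h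
  co3 := fun h => Cfsg.Agent.H887.SP.Co3.two_co3_5 h
  co2 := fun h => Cfsg.Agent.H220.S4987.Co2.two_co2_5 h
  co1_5 := fun h => Cfsg.Agent.H388.VO.two_co1_5 h
  co1_7 := fun h => Cfsg.Agent.H388.VO.two_co1_7 h
  he_5 := fun h => Cfsg.Agent.H687.HeVan.two_he_5 h
  he_7 := fun h => Cfsg.Agent.H687.HeVan.two_he_7 h
  fi22 := fun h => Cfsg.Agent.H729.VanFi22.two_fi22_5 h
  fi23 := fun h => Cfsg.Agent.H597.Fi23Five.two_fi23_five h
  fi24_5 := fun h => Cfsg.Agent.H828.FiVan.two_fi24_5 h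
  fi24_7 := fun h => Cfsg.Agent.H828.FiVan.two_fi24_7 h
  hn := fun h => Cfsg.Agent.H546.VO.HN.two_hn_p h
  th_5 := fun h => Cfsg.Agent.H904.SV.Th.two_th_five h
  th_7 := fun h => Cfsg.Agent.H904.SV.Th.two_th_seven h
  b_5 := fun h => Cfsg.Agent.H594.BTr.two_b_5 h
  b_7 := fun h => Cfsg.Agent.H434.Spor.B.two_b_7 h
  m_5 := fun h => Cfsg.Agent.H679.VanQ.M5.two_m_p h
  m_7 := fun h => Cfsg.Agent.H688.Mon.two_m_p h
  m_11 := fun h => Cfsg.Agent.H854.Loc.M11.two_m_11 h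
  m_13 := fun h => Cfsg.Agent.H122.VO.two_m_p h
  ly := fun h => Cfsg.Agent.H546.VO.Ly.two_ly_p h
  ru := fun h => Cfsg.Agent.H248.VO.Ru.two_ru h
  j4 := fun h => Cfsg.Agent.H743.VanJ4.two_j4_11 h

/-- The rows of the sporadic groups. -/
theorem spor {K : Type u} [Group K] (h : IsSporadicGroup K) {p : ℕ} [hp : Fact p.Prime]
    (h5 : 5 ≤ p) (hd : p ∣ Nat.card K) : Row p K := row_spor rows h h5 hd

/-- The row of the Tits group. -/
theorem tits {K : Type u} [Group K] (h : Lie.IsoTits K) {p : ℕ} [hp : Fact p.Prime]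
    (h5 : 5 ≤ p) (hd : p ∣ Nat.card K) : Row p K := row_tits rows h h5 hd

end Cfsg.Agent.H620.TwoVanSporAll
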