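import Cfsg.Agent.OddOrderLocal.HallPi
import Cfsg.Agent.S0205
import Cfsg.Agent.H713.Spor.Tool

/-!
# Elements of order `p q` in groups of odd order (helper620)
-/

set_option autoImplicit false

namespace Cfsg.Agent.H620.HallPair

open Cfsg Subgroup Cfsg.Agent.H713

/-- In a solvable group in which the Sylow `p`-subgroups have order `p` and no power of `q` dividing the
order is congruent to 1 modulo `p`, and `q` is prime to `p - 1`, some element has order `p * q`. -/
theorem exists_orderOf {G : Type*} [Group G] [Finite G] (hs : Group.IsSolvable G) {p q : ℕ}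
    [hp : Fact p.Prime] [hq : Fact q.Prime] (hpG : p ∣ Nat.card G) (hqG : q ∣ Nat.card G)
    (hsq : ¬ p * p ∣ Nat.card G) (hmod : ∀ a : ℕ, q ^ a ∣ Nat.card G → q ^ a ≡ 1 [MOD p] → a = 0)
    (hunit : ∀ c : ZMod p, c ^ q = 1 → c = 1) :
    ∃ x y : G, orderOf x = p ∧ orderOf y = q ∧ x * y = y * x := by
  obtain ⟨K, hK, hKi, -⟩ := Cfsg.Agent.OddOrderLocal.HallPi.exists_hall_ge_top (G := G) ({p, q} : Set ℕ)
    (X := ⊥) (by
      intro r hr hd
      rw [Subgroup.card_bot] at hd
      exact absurd (Nat.dvd_one.1 hd) hr.one_lt.ne')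
  have hKd : Nat.card K ∣ Nat.card G := K.card_subgroup_dvd_card
  have hKp : p ∣ Nat.card K := by
    rw [← K.card_mul_index] at hpG
    exact (hp.out.dvd_mul.1 hpG).resolve_right (hKi p hp.out (by left; rfl))
  have hKq : q ∣ Nat.card K := by
    rw [← K.card_mul_index] at hqG
    exact (hq.out.dvd_mul.1 hqG).resolve_right (hKi q hq.out (by right; rfl))
  let P : Sylow p K := default
  have hP : Nat.card P = p := by
    rw [P.card_eq_multiplicity]
    have h1 : (Nat.card K).factorization p = 1 := factorization_eq_one hKp fun h => hsq (h.trans hKd)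
    rw [h1, pow_one]
  have hidx : ∃ a : ℕ, (P : Subgroup K).index = q ^ a := by
    have h0 : (P : Subgroup K).index ≠ 0 := Subgroup.index_ne_zero_of_finite
    refine ⟨_, Nat.eq_prime_pow_of_unique_prime_dvd h0 fun {r} hr hd => ?_⟩
    have h1 : r ∣ Nat.card K := hd.trans ((P : Subgroup K).index_dvd_card)
    rcases hK r hr h1 with h2 | h2
    · exfalso
      have h3 : r = p := h2
      rw [h3] at hd
      exact P.not_dvd_index hd
    · exact h2
  obtain ⟨a, ha⟩ := hidx
  have hn : Nat.card (Sylow p K) = 1 := by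
    have h1 : Nat.card (Sylow p K) ∣ q ^ a := ha ▸ Sylow.card_dvd_index P
    have h2 : Nat.card (Sylow p K) ≡ 1 [MOD p] := card_sylow_modEq_one p K
    obtain ⟨b, hb, hb2⟩ := (Nat.dvd_prime_pow hq.out).1 h1
    rw [hb2] at h2 ⊢
    have h3 : q ^ b ∣ Nat.card G := (pow_dvd_pow q hb).trans
      ((ha ▸ ((P : Subgroup K).index_dvd_card) : q ^ a ∣ Nat.card K).trans hKd)
    rw [hmod b h3 h2, pow_zero]
  have hsub : Subsingleton (Sylow p K) := (Nat.card_eq_one_iff_unique.1 hn).1
  have hPn : (P : Subgroup K).Normal := Sylow.normal_of_subsingleton P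
  obtain ⟨x, hx⟩ := exists_prime_orderOf_dvd_card' (G := P) p (by rw [hP])
  obtain ⟨y, hy⟩ := exists_prime_orderOf_dvd_card' (G := K) q hKq
  have hxo : orderOf (x : K) = p := by rw [Subgroup.orderOf_coe]; exact hx
  have hgen : ∀ z : K, z ∈ (P : Subgroup K) → ∃ i : ℕ, (x : K) ^ i = z := by
    intro z hz
    have h1 : zpowers x = ⊤ := by
      apply Subgroup.eq_top_of_card_eq
      rw [Nat.card_zpowers, hx, hP]
    have h2 : (⟨z, hz⟩ : P) ∈ zpowers x := by rw [h1]; exact mem_top _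
    obtain ⟨i, hi⟩ := (mem_powers_iff_mem_zpowers (x := x) (y := ⟨z, hz⟩)).2 h2
    exact ⟨i, congrArg Subtype.val hi⟩
  obtain ⟨i, hi⟩ := hgen (y * x * y⁻¹) (hPn.conj_mem _ x.2 y)
  have hpow : ∀ k : ℕ, y ^ k * (x : K) * (y ^ k)⁻¹ = (x : K) ^ (i ^ k) := by
    intro k
    induction k with
    | zero => simp
    | succ k ih =>
      have h1 : y ^ (k + 1) * (x : K) * (y ^ (k + 1))⁻¹ = y * (y ^ k * (x : K) * (y ^ k)⁻¹) * y⁻¹ := by
        rw [pow_succ']
        group
      rw [h1, ih, ← conj_pow, ← hi, ← pow_mul, pow_succ']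
  have h4 := hpow q
  rw [← hy, pow_orderOf_eq_one] at h4
  simp only [one_mul, inv_one, mul_one] at h4
  rw [hy] at h4
  have h5 : (i ^ q : ℕ) ≡ 1 [MOD p] := by
    rw [← hxo]
    refine (pow_eq_pow_iff_modEq (x := (x : K))).1 ?_
    rw [pow_one]
    exact h4.symm
  have h6 : i ≡ 1 [MOD p] := by
    have h8 : ((i ^ q : ℕ) : ZMod p) = ((1 : ℕ) : ZMod p) := (ZMod.natCast_eq_natCast_iff _ _ _).2 h5
    push_cast at h8
    have h9 := hunit _ h8
    refine (ZMod.natCast_eq_natCast_iff _ _ _).1 ?_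
    push_cast
    exact h9
  have h7 : (x : K) ^ i = (x : K) ^ 1 := by
    rw [pow_eq_pow_iff_modEq, hxo]
    exact h6
  rw [h7, pow_one] at hi
  have h9 : y * (x : K) = (x : K) * y := mul_inv_eq_iff_eq_mul.1 hi.symm
  refine ⟨((x : K) : G), (y : G), by rw [Subgroup.orderOf_coe]; exact hxo,
    by rw [Subgroup.orderOf_coe]; exact hy, ?_⟩
  exact (congrArg (fun z : K => (z : G)) h9).symm

end Cfsg.Agent.H620.HallPair
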