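import Cfsg.Agent.H620.TwoVanON
import Cfsg.Agent.OrdDiv.Table

/-!
# S4987: the rows of the sporadic groups and of the Tits group (helper620)

* `Rows` : the pairs `(S, p)` with `p ≥ 5` and `p ^ 2 ∣ #S`;
* `row_spor`, `row_tits` : `H387.VO.Row p S`.
-/

set_option autoImplicit false

namespace Cfsg.Agent.H620.TwoVanSpor

open Cfsg Cfsg.Agent.H387.VO

universe u

theorem factorization_prod (L : List (ℕ × ℕ)) (hL : ∀ x ∈ L, x.1.Prime) (hnd : (L.map Prod.fst).Nodup) :
    ∀ x ∈ L, ((L.map fun y : ℕ × ℕ => y.1 ^ y.2).prod).factorization x.1 = x.2 := by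
  induction L with
  | nil => simp
  | cons a L ih =>
    have ha := hL a (by simp)
    have hL' : ∀ x ∈ L, x.1.Prime := fun x hx => hL x (by simp [hx])
    rw [List.map_cons, List.nodup_cons] at hnd
    have hP : ((L.map fun y : ℕ × ℕ => y.1 ^ y.2).prod) ≠ 0 := by
      refine List.prod_ne_zero fun h0 => ?_
      rw [List.mem_map] at h0
      obtain ⟨y, hy, hy0⟩ := h0
      exact pow_ne_zero _ (hL' y hy).ne_zero hy0
    intro x hx
    rw [List.map_cons, List.prod_cons, Nat.factorization_mul (pow_ne_zero _ ha.ne_zero) hP, Finsupp.add_apply,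
      Nat.factorization_pow, Finsupp.smul_apply, smul_eq_mul]
    rcases List.mem_cons.1 hx with rfl | hx'
    · rw [ha.factorization_self, mul_one]
      have : ¬ x.1 ∣ (L.map fun y : ℕ × ℕ => y.1 ^ y.2).prod := by
        intro hd
        obtain ⟨z, hz, hzd⟩ := (Prime.dvd_prod_iff ha.prime).1 hd
        rw [List.mem_map] at hz
        obtain ⟨y, hy, rfl⟩ := hz
        have := (Nat.prime_dvd_prime_iff_eq ha (hL' y hy)).1 (ha.dvd_of_dvd_pow hzd)
        apply hnd.1
        rw [this]
        exact List.mem_map_of_mem hy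
      rw [Nat.factorization_eq_zero_of_not_dvd this, add_zero]
    · rw [ih hL' hnd.2 x hx']
      have hne : x.1 ≠ a.1 := by
        intro h
        apply hnd.1
        rw [← h]
        exact List.mem_map_of_mem hx'
      rw [Nat.Prime.factorization ha, Finsupp.single_apply, if_neg hne.symm, mul_zero, zero_add]

/-- `Row` from the list of the prime powers. -/
theorem row_of_list {S : Type*} [Group S] {p : ℕ} [hp : Fact p.Prime] (L : List (ℕ × ℕ))
    (hL : ∀ x ∈ L, x.1.Prime) (hnd : (L.map Prod.fst).Nodup)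
    (hN : Nat.card S = (L.map fun y : ℕ × ℕ => y.1 ^ y.2).prod) (hd : p ∣ Nat.card S)
    (h : ∀ x ∈ L, x.2 ≠ 1 → x.1 = p → TwoVan p S) : Row p S := by
  rw [hN] at hd
  obtain ⟨z, hz, hzd⟩ := (Prime.dvd_prod_iff hp.out.prime).1 hd
  rw [List.mem_map] at hz
  obtain ⟨x, hx, rfl⟩ := hz
  have hpx := (Nat.prime_dvd_prime_iff_eq hp.out (hL x hx)).1 (hp.out.dvd_of_dvd_pow hzd)
  by_cases h1 : x.2 = 1
  · left
    rw [hN, hpx, factorization_prod L hL hnd x hx, h1]
  · right; right
    exact h x hx h1 hpx.symm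

/-- The pairs. -/
structure Rows : Prop where
  tits : ∀ {K : Type u} [Group K], Lie.IsoTits K → TwoVan 5 K
  j2 : ∀ {K : Type u} [Group K], Spor.IsoJ2 K → TwoVan 5 K
  hs : ∀ {K : Type u} [Group K], Spor.IsoHS K → TwoVan 5 K
  mcl : ∀ {K : Type u} [Group K], Spor.IsoMcL K → TwoVan 5 K
  suz : ∀ {K : Type u} [Group K], Spor.IsoSuz K → TwoVan 5 K
  co3 : ∀ {K : Type u} [Group K], Spor.IsoCo3 K → TwoVan 5 K
  co2 : ∀ {K : Type u} [Group K], Spor.IsoCo2 K → TwoVan 5 K
  co1_5 : ∀ {K : Type u} [Group K], Spor.IsoCo1 K → TwoVan 5 K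
  co1_7 : ∀ {K : Type u} [Group K], Spor.IsoCo1 K → TwoVan 7 K
  he_5 : ∀ {K : Type u} [Group K], Spor.IsoHe K → TwoVan 5 K
  he_7 : ∀ {K : Type u} [Group K], Spor.IsoHe K → TwoVan 7 K
  fi22 : ∀ {K : Type u} [Group K], Spor.IsoFi22 K → TwoVan 5 K
  fi23 : ∀ {K : Type u} [Group K], Spor.IsoFi23 K → TwoVan 5 K
  fi24_5 : ∀ {K : Type u} [Group K], Spor.IsoFi24' K → TwoVan 5 K
  fi24_7 : ∀ {K : Type u} [Group K], Spor.IsoFi24' K → TwoVan 7 K
  hn : ∀ {K : Type u} [Group K], Spor.IsoHN K → TwoVan 5 K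
  th_5 : ∀ {K : Type u} [Group K], Spor.IsoTh K → TwoVan 5 K
  th_7 : ∀ {K : Type u} [Group K], Spor.IsoTh K → TwoVan 7 K
  b_5 : ∀ {K : Type u} [Group K], Spor.IsoB K → TwoVan 5 K
  b_7 : ∀ {K : Type u} [Group K], Spor.IsoB K → TwoVan 7 K
  m_5 : ∀ {K : Type u} [Group K], Spor.IsoM K → TwoVan 5 K
  m_7 : ∀ {K : Type u} [Group K], Spor.IsoM K → TwoVan 7 K
  m_11 : ∀ {K : Type u} [Group K], Spor.IsoM K → TwoVan 11 K
  m_13 : ∀ {K : Type u} [Group K], Spor.IsoM K → TwoVan 13 K
  ly : ∀ {K : Type u} [Group K], Spor.IsoLy K → TwoVan 5 K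
  ru : ∀ {K : Type u} [Group K], Spor.IsoRu K → TwoVan 5 K
  j4 : ∀ {K : Type u} [Group K], Spor.IsoJ4 K → TwoVan 11 K

theorem row_tits (R : Rows.{u}) {K : Type u} [Group K] (h : Lie.IsoTits K) {p : ℕ} [hp : Fact p.Prime] (h5 : 5 ≤ p)
    (hd : p ∣ Nat.card K) : Row p K := by
  refine row_of_list [(2, 11), (3, 3), (5, 2), (13, 1)] ?_ (by decide) ?_ hd ?_
  · simp; norm_num
  · rw [NotCT.Orders.tits h]; decide +kernel
  · intro x hx hx1 hxp
    simp only [List.mem_cons, List.not_mem_nil, or_false] at hx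
    rcases hx with rfl | rfl | rfl | rfl
    · exact absurd h5 (by rw [← hxp]; decide)
    · exact absurd h5 (by rw [← hxp]; decide)
    · subst hxp; exact R.tits h
    · exact absurd rfl hx1

theorem row_m11 {K : Type u} [Group K] (h : Spor.IsoM11 K) {p : ℕ} [hp : Fact p.Prime] (h5 : 5 ≤ p)
    (hd : p ∣ Nat.card K) : Row p K := by
  refine row_of_list [(2, 4), (3, 2), (5, 1), (11, 1)] ?_ (by decide) ?_ hd ?_
  · simp; norm_num
  · rw [NotCT.Orders.m11 h]; decide +kernel
  · intro x hx hx1 hxp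
    simp only [List.mem_cons, List.not_mem_nil, or_false] at hx
    rcases hx with rfl | rfl | rfl | rfl
    · exact absurd h5 (by rw [← hxp]; decide)
    · exact absurd h5 (by rw [← hxp]; decide)
    · exact absurd rfl hx1
    · exact absurd rfl hx1

theorem row_m12 {K : Type u} [Group K] (h : Spor.IsoM12 K) {p : ℕ} [hp : Fact p.Prime] (h5 : 5 ≤ p)
    (hd : p ∣ Nat.card K) : Row p K := by
  refine row_of_list [(2, 6), (3, 3), (5, 1), (11, 1)] ?_ (by decide) ?_ hd ?_
  · simp; norm_num
  · rw [NotCT.Orders.m12 h]; decide +kernel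
  · intro x hx hx1 hxp
    simp only [List.mem_cons, List.not_mem_nil, or_false] at hx
    rcases hx with rfl | rfl | rfl | rfl
    · exact absurd h5 (by rw [← hxp]; decide)
    · exact absurd h5 (by rw [← hxp]; decide)
    · exact absurd rfl hx1
    · exact absurd rfl hx1

theorem row_m22 {K : Type u} [Group K] (h : Spor.IsoM22 K) {p : ℕ} [hp : Fact p.Prime] (h5 : 5 ≤ p)
    (hd : p ∣ Nat.card K) : Row p K := by
  refine row_of_list [(2, 7), (3, 2), (5, 1), (7, 1), (11, 1)] ?_ (by decide) ?_ hd ?_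
  · simp; norm_num
  · rw [NotCT.Orders.m22 h]; decide +kernel
  · intro x hx hx1 hxp
    simp only [List.mem_cons, List.not_mem_nil, or_false] at hx
    rcases hx with rfl | rfl | rfl | rfl | rfl
    · exact absurd h5 (by rw [← hxp]; decide)
    · exact absurd h5 (by rw [← hxp]; decide)
    · exact absurd rfl hx1
    · exact absurd rfl hx1
    · exact absurd rfl hx1

theorem row_m23 {K : Type u} [Group K] (h : Spor.IsoM23 K) {p : ℕ} [hp : Fact p.Prime] (h5 : 5 ≤ p)
    (hd : p ∣ Nat.card K) : Row p K := by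
  refine row_of_list [(2, 7), (3, 2), (5, 1), (7, 1), (11, 1), (23, 1)] ?_ (by decide) ?_ hd ?_
  · simp; norm_num
  · rw [NotCT.Orders.m23 h]; decide +kernel
  · intro x hx hx1 hxp
    simp only [List.mem_cons, List.not_mem_nil, or_false] at hx
    rcases hx with rfl | rfl | rfl | rfl | rfl | rfl
    · exact absurd h5 (by rw [← hxp]; decide)
    · exact absurd h5 (by rw [← hxp]; decide)
    · exact absurd rfl hx1
    · exact absurd rfl hx1
    · exact absurd rfl hx1
    · exact absurd rfl hx1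

theorem row_m24 {K : Type u} [Group K] (h : Spor.IsoM24 K) {p : ℕ} [hp : Fact p.Prime] (h5 : 5 ≤ p)
    (hd : p ∣ Nat.card K) : Row p K := by
  refine row_of_list [(2, 10), (3, 3), (5, 1), (7, 1), (11, 1), (23, 1)] ?_ (by decide) ?_ hd ?_
  · simp; norm_num
  · rw [NotCT.Orders.m24 h]; decide +kernel
  · intro x hx hx1 hxp
    simp only [List.mem_cons, List.not_mem_nil, or_false] at hx
    rcases hx with rfl | rfl | rfl | rfl | rfl | rfl
    · exact absurd h5 (by rw [← hxp]; decide)
    · exact absurd h5 (by rw [← hxp]; decide)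
    · exact absurd rfl hx1
    · exact absurd rfl hx1
    · exact absurd rfl hx1
    · exact absurd rfl hx1

theorem row_j1 {K : Type u} [Group K] (h : Spor.IsoJ1 K) {p : ℕ} [hp : Fact p.Prime] (h5 : 5 ≤ p)
    (hd : p ∣ Nat.card K) : Row p K := by
  refine row_of_list [(2, 3), (3, 1), (5, 1), (7, 1), (11, 1), (19, 1)] ?_ (by decide) ?_ hd ?_
  · simp; norm_num
  · rw [NotCT.Orders.j1 h]; decide +kernel
  · intro x hx hx1 hxp
    simp only [List.mem_cons, List.not_mem_nil, or_false] at hx
    rcases hx with rfl | rfl | rfl | rfl | rfl | rfl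
    · exact absurd h5 (by rw [← hxp]; decide)
    · exact absurd rfl hx1
    · exact absurd rfl hx1
    · exact absurd rfl hx1
    · exact absurd rfl hx1
    · exact absurd rfl hx1

theorem row_j2 (R : Rows.{u}) {K : Type u} [Group K] (h : Spor.IsoJ2 K) {p : ℕ} [hp : Fact p.Prime] (h5 : 5 ≤ p)
    (hd : p ∣ Nat.card K) : Row p K := by
  refine row_of_list [(2, 7), (3, 3), (5, 2), (7, 1)] ?_ (by decide) ?_ hd ?_
  · simp; norm_num
  · rw [NotCT.Orders.j2 h]; decide +kernel
  · intro x hx hx1 hxp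
    simp only [List.mem_cons, List.not_mem_nil, or_false] at hx
    rcases hx with rfl | rfl | rfl | rfl
    · exact absurd h5 (by rw [← hxp]; decide)
    · exact absurd h5 (by rw [← hxp]; decide)
    · subst hxp; exact R.j2 h
    · exact absurd rfl hx1

theorem row_j3 {K : Type u} [Group K] (h : Spor.IsoJ3 K) {p : ℕ} [hp : Fact p.Prime] (h5 : 5 ≤ p)
    (hd : p ∣ Nat.card K) : Row p K := by
  refine row_of_list [(2, 7), (3, 5), (5, 1), (17, 1), (19, 1)] ?_ (by decide) ?_ hd ?_
  · simp; norm_num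
  · rw [NotCT.Orders.j3 h]; decide +kernel
  · intro x hx hx1 hxp
    simp only [List.mem_cons, List.not_mem_nil, or_false] at hx
    rcases hx with rfl | rfl | rfl | rfl | rfl
    · exact absurd h5 (by rw [← hxp]; decide)
    · exact absurd h5 (by rw [← hxp]; decide)
    · exact absurd rfl hx1
    · exact absurd rfl hx1
    · exact absurd rfl hx1

theorem row_j4 (R : Rows.{u}) {K : Type u} [Group K] (h : Spor.IsoJ4 K) {p : ℕ} [hp : Fact p.Prime] (h5 : 5 ≤ p)
    (hd : p ∣ Nat.card K) : Row p K := by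
  refine row_of_list
    [(2, 21), (3, 3), (5, 1), (7, 1), (11, 3), (23, 1), (29, 1), (31, 1), (37, 1), (43, 1)]
    ?_ (by decide) ?_ hd ?_
  · simp; norm_num
  · rw [NotCT.Orders.j4 h]; decide +kernel
  · intro x hx hx1 hxp
    simp only [List.mem_cons, List.not_mem_nil, or_false] at hx
    rcases hx with rfl | rfl | rfl | rfl | rfl | rfl | rfl | rfl | rfl | rfl
    · exact absurd h5 (by rw [← hxp]; decide)
    · exact absurd h5 (by rw [← hxp]; decide)
    · exact absurd rfl hx1
    · exact absurd rfl hx1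
    · subst hxp; exact R.j4 h
    · exact absurd rfl hx1
    · exact absurd rfl hx1
    · exact absurd rfl hx1
    · exact absurd rfl hx1
    · exact absurd rfl hx1

theorem row_co1 (R : Rows.{u}) {K : Type u} [Group K] (h : Spor.IsoCo1 K) {p : ℕ} [hp : Fact p.Prime] (h5 : 5 ≤ p)
    (hd : p ∣ Nat.card K) : Row p K := by
  refine row_of_list
    [(2, 21), (3, 9), (5, 4), (7, 2), (11, 1), (13, 1), (23, 1)]
    ?_ (by decide) ?_ hd ?_
  · simp; norm_num
  · rw [NotCT.Orders.co1 h]; decide +kernel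
  · intro x hx hx1 hxp
    simp only [List.mem_cons, List.not_mem_nil, or_false] at hx
    rcases hx with rfl | rfl | rfl | rfl | rfl | rfl | rfl
    · exact absurd h5 (by rw [← hxp]; decide)
    · exact absurd h5 (by rw [← hxp]; decide)
    · subst hxp; exact R.co1_5 h
    · subst hxp; exact R.co1_7 h
    · exact absurd rfl hx1
    · exact absurd rfl hx1
    · exact absurd rfl hx1

theorem row_co2 (R : Rows.{u}) {K : Type u} [Group K] (h : Spor.IsoCo2 K) {p : ℕ} [hp : Fact p.Prime] (h5 : 5 ≤ p)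
    (hd : p ∣ Nat.card K) : Row p K := by
  refine row_of_list [(2, 18), (3, 6), (5, 3), (7, 1), (11, 1), (23, 1)] ?_ (by decide) ?_ hd ?_
  · simp; norm_num
  · rw [NotCT.Orders.co2 h]; decide +kernel
  · intro x hx hx1 hxp
    simp only [List.mem_cons, List.not_mem_nil, or_false] at hx
    rcases hx with rfl | rfl | rfl | rfl | rfl | rfl
    · exact absurd h5 (by rw [← hxp]; decide)
    · exact absurd h5 (by rw [← hxp]; decide)
    · subst hxp; exact R.co2 h
    · exact absurd rfl hx1
    · exact absurd rfl hx1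
    · exact absurd rfl hx1

theorem row_co3 (R : Rows.{u}) {K : Type u} [Group K] (h : Spor.IsoCo3 K) {p : ℕ} [hp : Fact p.Prime] (h5 : 5 ≤ p)
    (hd : p ∣ Nat.card K) : Row p K := by
  refine row_of_list [(2, 10), (3, 7), (5, 3), (7, 1), (11, 1), (23, 1)] ?_ (by decide) ?_ hd ?_
  · simp; norm_num
  · rw [NotCT.Orders.co3 h]; decide +kernel
  · intro x hx hx1 hxp
    simp only [List.mem_cons, List.not_mem_nil, or_false] at hx
    rcases hx with rfl | rfl | rfl | rfl | rfl | rfl
    · exact absurd h5 (by rw [← hxp]; decide)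
    · exact absurd h5 (by rw [← hxp]; decide)
    · subst hxp; exact R.co3 h
    · exact absurd rfl hx1
    · exact absurd rfl hx1
    · exact absurd rfl hx1

theorem row_mcl (R : Rows.{u}) {K : Type u} [Group K] (h : Spor.IsoMcL K) {p : ℕ} [hp : Fact p.Prime] (h5 : 5 ≤ p)
    (hd : p ∣ Nat.card K) : Row p K := by
  refine row_of_list [(2, 7), (3, 6), (5, 3), (7, 1), (11, 1)] ?_ (by decide) ?_ hd ?_
  · simp; norm_num
  · rw [NotCT.Orders.mcl h]; decide +kernel
  · intro x hx hx1 hxp
    simp only [List.mem_cons, List.not_mem_nil, or_false] at hx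
    rcases hx with rfl | rfl | rfl | rfl | rfl
    · exact absurd h5 (by rw [← hxp]; decide)
    · exact absurd h5 (by rw [← hxp]; decide)
    · subst hxp; exact R.mcl h
    · exact absurd rfl hx1
    · exact absurd rfl hx1

theorem row_hs (R : Rows.{u}) {K : Type u} [Group K] (h : Spor.IsoHS K) {p : ℕ} [hp : Fact p.Prime] (h5 : 5 ≤ p)
    (hd : p ∣ Nat.card K) : Row p K := by
  refine row_of_list [(2, 9), (3, 2), (5, 3), (7, 1), (11, 1)] ?_ (by decide) ?_ hd ?_
  · simp; norm_num
  · rw [NotCT.Orders.hs h]; decide +kernel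
  · intro x hx hx1 hxp
    simp only [List.mem_cons, List.not_mem_nil, or_false] at hx
    rcases hx with rfl | rfl | rfl | rfl | rfl
    · exact absurd h5 (by rw [← hxp]; decide)
    · exact absurd h5 (by rw [← hxp]; decide)
    · subst hxp; exact R.hs h
    · exact absurd rfl hx1
    · exact absurd rfl hx1

theorem row_suz (R : Rows.{u}) {K : Type u} [Group K] (h : Spor.IsoSuz K) {p : ℕ} [hp : Fact p.Prime] (h5 : 5 ≤ p)
    (hd : p ∣ Nat.card K) : Row p K := by
  refine row_of_list [(2, 13), (3, 7), (5, 2), (7, 1), (11, 1), (13, 1)] ?_ (by decide) ?_ hd ?_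
  · simp; norm_num
  · rw [NotCT.Orders.suz h]; decide +kernel
  · intro x hx hx1 hxp
    simp only [List.mem_cons, List.not_mem_nil, or_false] at hx
    rcases hx with rfl | rfl | rfl | rfl | rfl | rfl
    · exact absurd h5 (by rw [← hxp]; decide)
    · exact absurd h5 (by rw [← hxp]; decide)
    · subst hxp; exact R.suz h
    · exact absurd rfl hx1
    · exact absurd rfl hx1
    · exact absurd rfl hx1

theorem row_he (R : Rows.{u}) {K : Type u} [Group K] (h : Spor.IsoHe K) {p : ℕ} [hp : Fact p.Prime] (h5 : 5 ≤ p)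
    (hd : p ∣ Nat.card K) : Row p K := by
  refine row_of_list [(2, 10), (3, 3), (5, 2), (7, 3), (17, 1)] ?_ (by decide) ?_ hd ?_
  · simp; norm_num
  · rw [NotCT.Orders.he h]; decide +kernel
  · intro x hx hx1 hxp
    simp only [List.mem_cons, List.not_mem_nil, or_false] at hx
    rcases hx with rfl | rfl | rfl | rfl | rfl
    · exact absurd h5 (by rw [← hxp]; decide)
    · exact absurd h5 (by rw [← hxp]; decide)
    · subst hxp; exact R.he_5 h
    · subst hxp; exact R.he_7 h
    · exact absurd rfl hx1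

theorem row_ru (R : Rows.{u}) {K : Type u} [Group K] (h : Spor.IsoRu K) {p : ℕ} [hp : Fact p.Prime] (h5 : 5 ≤ p)
    (hd : p ∣ Nat.card K) : Row p K := by
  refine row_of_list [(2, 14), (3, 3), (5, 3), (7, 1), (13, 1), (29, 1)] ?_ (by decide) ?_ hd ?_
  · simp; norm_num
  · rw [NotCT.Orders.ru h]; decide +kernel
  · intro x hx hx1 hxp
    simp only [List.mem_cons, List.not_mem_nil, or_false] at hx
    rcases hx with rfl | rfl | rfl | rfl | rfl | rfl
    · exact absurd h5 (by rw [← hxp]; decide)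
    · exact absurd h5 (by rw [← hxp]; decide)
    · subst hxp; exact R.ru h
    · exact absurd rfl hx1
    · exact absurd rfl hx1
    · exact absurd rfl hx1

theorem row_on {K : Type u} [Group K] (h : Spor.IsoON K) {p : ℕ} [hp : Fact p.Prime] (h5 : 5 ≤ p)
    (hd : p ∣ Nat.card K) : Row p K := by
  refine row_of_list [(2, 9), (3, 4), (5, 1), (7, 3), (11, 1), (19, 1), (31, 1)] ?_ (by decide) ?_ hd ?_
  · simp; norm_num
  · rw [NotCT.Orders.on h]; decide +kernel
  · intro x hx hx1 hxp
    simp only [List.mem_cons, List.not_mem_nil, or_false] at hx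
    rcases hx with rfl | rfl | rfl | rfl | rfl | rfl | rfl
    · exact absurd h5 (by rw [← hxp]; decide)
    · exact absurd h5 (by rw [← hxp]; decide)
    · exact absurd rfl hx1
    · subst hxp; exact TwoVanON.two_on_7 h
    · exact absurd rfl hx1
    · exact absurd rfl hx1
    · exact absurd rfl hx1

theorem row_ly (R : Rows.{u}) {K : Type u} [Group K] (h : Spor.IsoLy K) {p : ℕ} [hp : Fact p.Prime] (h5 : 5 ≤ p)
    (hd : p ∣ Nat.card K) : Row p K := by
  refine row_of_list
    [(2, 8), (3, 7), (5, 6), (7, 1), (11, 1), (31, 1), (37, 1), (67, 1)]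
    ?_ (by decide) ?_ hd ?_
  · simp; norm_num
  · rw [NotCT.Orders.ly h]; decide +kernel
  · intro x hx hx1 hxp
    simp only [List.mem_cons, List.not_mem_nil, or_false] at hx
    rcases hx with rfl | rfl | rfl | rfl | rfl | rfl | rfl | rfl
    · exact absurd h5 (by rw [← hxp]; decide)
    · exact absurd h5 (by rw [← hxp]; decide)
    · subst hxp; exact R.ly h
    · exact absurd rfl hx1
    · exact absurd rfl hx1
    · exact absurd rfl hx1
    · exact absurd rfl hx1
    · exact absurd rfl hx1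

theorem row_fi22 (R : Rows.{u}) {K : Type u} [Group K] (h : Spor.IsoFi22 K) {p : ℕ} [hp : Fact p.Prime] (h5 : 5 ≤ p)
    (hd : p ∣ Nat.card K) : Row p K := by
  refine row_of_list [(2, 17), (3, 9), (5, 2), (7, 1), (11, 1), (13, 1)] ?_ (by decide) ?_ hd ?_
  · simp; norm_num
  · rw [NotCT.Orders.fi22 h]; decide +kernel
  · intro x hx hx1 hxp
    simp only [List.mem_cons, List.not_mem_nil, or_false] at hx
    rcases hx with rfl | rfl | rfl | rfl | rfl | rfl
    · exact absurd h5 (by rw [← hxp]; decide)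
    · exact absurd h5 (by rw [← hxp]; decide)
    · subst hxp; exact R.fi22 h
    · exact absurd rfl hx1
    · exact absurd rfl hx1
    · exact absurd rfl hx1

theorem row_fi23 (R : Rows.{u}) {K : Type u} [Group K] (h : Spor.IsoFi23 K) {p : ℕ} [hp : Fact p.Prime] (h5 : 5 ≤ p)
    (hd : p ∣ Nat.card K) : Row p K := by
  refine row_of_list
    [(2, 18), (3, 13), (5, 2), (7, 1), (11, 1), (13, 1), (17, 1), (23, 1)]
    ?_ (by decide) ?_ hd ?_
  · simp; norm_num
  · rw [NotCT.Orders.fi23 h]; decide +kernel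
  · intro x hx hx1 hxp
    simp only [List.mem_cons, List.not_mem_nil, or_false] at hx
    rcases hx with rfl | rfl | rfl | rfl | rfl | rfl | rfl | rfl
    · exact absurd h5 (by rw [← hxp]; decide)
    · exact absurd h5 (by rw [← hxp]; decide)
    · subst hxp; exact R.fi23 h
    · exact absurd rfl hx1
    · exact absurd rfl hx1
    · exact absurd rfl hx1
    · exact absurd rfl hx1
    · exact absurd rfl hx1

theorem row_fi24 (R : Rows.{u}) {K : Type u} [Group K] (h : Spor.IsoFi24' K) {p : ℕ} [hp : Fact p.Prime] (h5 : 5 ≤ p)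
    (hd : p ∣ Nat.card K) : Row p K := by
  refine row_of_list
    [(2, 21), (3, 16), (5, 2), (7, 3), (11, 1), (13, 1), (17, 1), (23, 1), (29, 1)]
    ?_ (by decide) ?_ hd ?_
  · simp; norm_num
  · rw [NotCT.Orders.fi24 h]; decide +kernel
  · intro x hx hx1 hxp
    simp only [List.mem_cons, List.not_mem_nil, or_false] at hx
    rcases hx with rfl | rfl | rfl | rfl | rfl | rfl | rfl | rfl | rfl
    · exact absurd h5 (by rw [← hxp]; decide)
    · exact absurd h5 (by rw [← hxp]; decide)
    · subst hxp; exact R.fi24_5 h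
    · subst hxp; exact R.fi24_7 h
    · exact absurd rfl hx1
    · exact absurd rfl hx1
    · exact absurd rfl hx1
    · exact absurd rfl hx1
    · exact absurd rfl hx1

theorem row_hn (R : Rows.{u}) {K : Type u} [Group K] (h : Spor.IsoHN K) {p : ℕ} [hp : Fact p.Prime] (h5 : 5 ≤ p)
    (hd : p ∣ Nat.card K) : Row p K := by
  refine row_of_list [(2, 14), (3, 6), (5, 6), (7, 1), (11, 1), (19, 1)] ?_ (by decide) ?_ hd ?_
  · simp; norm_num
  · rw [NotCT.Orders.hn h]; decide +kernel
  · intro x hx hx1 hxp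
    simp only [List.mem_cons, List.not_mem_nil, or_false] at hx
    rcases hx with rfl | rfl | rfl | rfl | rfl | rfl
    · exact absurd h5 (by rw [← hxp]; decide)
    · exact absurd h5 (by rw [← hxp]; decide)
    · subst hxp; exact R.hn h
    · exact absurd rfl hx1
    · exact absurd rfl hx1
    · exact absurd rfl hx1

theorem row_th (R : Rows.{u}) {K : Type u} [Group K] (h : Spor.IsoTh K) {p : ℕ} [hp : Fact p.Prime] (h5 : 5 ≤ p)
    (hd : p ∣ Nat.card K) : Row p K := by
  refine row_of_list
    [(2, 15), (3, 10), (5, 3), (7, 2), (13, 1), (19, 1), (31, 1)]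
    ?_ (by decide) ?_ hd ?_
  · simp; norm_num
  · rw [NotCT.Orders.th h]; decide +kernel
  · intro x hx hx1 hxp
    simp only [List.mem_cons, List.not_mem_nil, or_false] at hx
    rcases hx with rfl | rfl | rfl | rfl | rfl | rfl | rfl
    · exact absurd h5 (by rw [← hxp]; decide)
    · exact absurd h5 (by rw [← hxp]; decide)
    · subst hxp; exact R.th_5 h
    · subst hxp; exact R.th_7 h
    · exact absurd rfl hx1
    · exact absurd rfl hx1
    · exact absurd rfl hx1

theorem row_b (R : Rows.{u}) {K : Type u} [Group K] (h : Spor.IsoB K) {p : ℕ} [hp : Fact p.Prime] (h5 : 5 ≤ p)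
    (hd : p ∣ Nat.card K) : Row p K := by
  refine row_of_list
    [(2, 41), (3, 13), (5, 6), (7, 2), (11, 1), (13, 1), (17, 1), (19, 1), (23, 1), (31, 1), (47, 1)]
    ?_ (by decide) ?_ hd ?_
  · simp; norm_num
  · rw [NotCT.Orders.b h]; decide +kernel
  · intro x hx hx1 hxp
    simp only [List.mem_cons, List.not_mem_nil, or_false] at hx
    rcases hx with rfl | rfl | rfl | rfl | rfl | rfl | rfl | rfl | rfl | rfl | rfl
    · exact absurd h5 (by rw [← hxp]; decide)
    · exact absurd h5 (by rw [← hxp]; decide)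
    · subst hxp; exact R.b_5 h
    · subst hxp; exact R.b_7 h
    · exact absurd rfl hx1
    · exact absurd rfl hx1
    · exact absurd rfl hx1
    · exact absurd rfl hx1
    · exact absurd rfl hx1
    · exact absurd rfl hx1
    · exact absurd rfl hx1

theorem row_m (R : Rows.{u}) {K : Type u} [Group K] (h : Spor.IsoM K) {p : ℕ} [hp : Fact p.Prime] (h5 : 5 ≤ p)
    (hd : p ∣ Nat.card K) : Row p K := by
  refine row_of_list
    [(2, 46), (3, 20), (5, 9), (7, 6), (11, 2), (13, 3), (17, 1), (19, 1), (23, 1), (29, 1), (31, 1), (41, 1), (47, 1), (59, 1), (71, 1)]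
    ?_ (by decide) ?_ hd ?_
  · simp; norm_num
  · rw [NotCT.Orders.m h]; decide +kernel
  · intro x hx hx1 hxp
    simp only [List.mem_cons, List.not_mem_nil, or_false] at hx
    rcases hx with rfl | rfl | rfl | rfl | rfl | rfl | rfl | rfl | rfl | rfl | rfl | rfl | rfl | rfl | rfl
    · exact absurd h5 (by rw [← hxp]; decide)
    · exact absurd h5 (by rw [← hxp]; decide)
    · subst hxp; exact R.m_5 h
    · subst hxp; exact R.m_7 h
    · subst hxp; exact R.m_11 h
    · subst hxp; exact R.m_13 h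
    · exact absurd rfl hx1
    · exact absurd rfl hx1
    · exact absurd rfl hx1
    · exact absurd rfl hx1
    · exact absurd rfl hx1
    · exact absurd rfl hx1
    · exact absurd rfl hx1
    · exact absurd rfl hx1
    · exact absurd rfl hx1

/-- **The rows of the sporadic groups.** -/
theorem row_spor (R : Rows.{u}) {K : Type u} [Group K] (h : IsSporadicGroup K) {p : ℕ} [hp : Fact p.Prime]
    (h5 : 5 ≤ p) (hd : p ∣ Nat.card K) : Row p K := by
  rcases h with h | h | h | h | h | h | h | h | h | h | h | h | h | h | h | h | h | h | h | h | h |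
    h | h | h | h | h
  · exact row_m11 h h5 hd
  · exact row_m12 h h5 hd
  · exact row_m22 h h5 hd
  · exact row_m23 h h5 hd
  · exact row_m24 h h5 hd
  · exact row_j1 h h5 hd
  · exact row_j2 R h h5 hd
  · exact row_j3 h h5 hd
  · exact row_j4 R h h5 hd
  · exact row_co1 R h h5 hd
  · exact row_co2 R h h5 hd
  · exact row_co3 R h h5 hd
  · exact row_mcl R h h5 hd
  · exact row_hs R h h5 hd
  · exact row_suz R h h5 hd
  · exact row_he R h h5 hd
  · exact row_ru R h h5 hd
  · exact row_on h h5 hd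
  · exact row_ly R h h5 hd
  · exact row_fi22 R h h5 hd
  · exact row_fi23 R h h5 hd
  · exact row_fi24 R h h5 hd
  · exact row_hn R h h5 hd
  · exact row_th R h h5 hd
  · exact row_b R h h5 hd
  · exact row_m R h h5 hd

end Cfsg.Agent.H620.TwoVanSpor
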