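import Cfsg.Agent.H620.PNorm
import Cfsg.Agent.H387.VO.Known
import Cfsg.Agent.H620.TwoVanSpor

/-!
# S4555 and S4559: the rows still to be proved, and the assembly (helper620)

* `LieRows p P`, `SporRows a P` : the rows (a property `P p K` of primes and groups; `P = VPow` for
  S4555, `P = VOrdP` for S4559; `a` = smallest prime considered, `2` or `3`);
* `of_known` : `P p K` for all the known simple groups;
* `s4555_of`, `s4559_of`.
-/

set_option autoImplicit false

namespace Cfsg.Agent.H620.PNRows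

open Cfsg Cfsg.Agent.H387.VO Cfsg.Agent.H620.PNorm

universe u

/-- The rows of the groups of Lie type (cross characteristic). -/
structure LieRows (p : ℕ) (P : ∀ (K : Type u) [Group K], Prop) : Prop where
  psl : ∀ (K : Type u) [Group K] [Finite K] [IsSimpleGroup K] (r : ℕ), r.Prime → p ≠ r →
    IsPSLChar r K → p ∣ Nat.card K → P K
  psp : ∀ (K : Type u) [Group K] [Finite K] [IsSimpleGroup K] (r : ℕ), r.Prime → p ≠ r →
    IsPSpChar r K → p ∣ Nat.card K → P K
  psu : ∀ (K : Type u) [Group K] [Finite K] [IsSimpleGroup K] (r : ℕ), r.Prime → p ≠ r →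
    IsPSUChar r K → p ∣ Nat.card K → P K
  oodd : ∀ (K : Type u) [Group K] [Finite K] [IsSimpleGroup K] (r : ℕ), r.Prime → p ≠ r →
    IsPOmegaOddChar r K → p ∣ Nat.card K → P K
  oplus : ∀ (K : Type u) [Group K] [Finite K] [IsSimpleGroup K] (r : ℕ), r.Prime → p ≠ r →
    IsPOmegaPlusChar r K → p ∣ Nat.card K → P K
  ominus : ∀ (K : Type u) [Group K] [Finite K] [IsSimpleGroup K] (r : ℕ), r.Prime → p ≠ r →
    IsPOmegaMinusChar r K → p ∣ Nat.card K → P K
  exc : ∀ (K : Type u) [Group K] [Finite K] [IsSimpleGroup K] (r : ℕ), r.Prime → p ≠ r →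
    IsExceptionalChevChar r K → p ∣ Nat.card K → P K
  tw : ∀ (K : Type u) [Group K] [Finite K] [IsSimpleGroup K] (r : ℕ), r.Prime → p ≠ r →
    IsTwistedE6D4Char r K → p ∣ Nat.card K → P K
  sz : ∀ (K : Type u) [Group K] [Finite K] [IsSimpleGroup K], p ≠ 2 →
    Lie.IsoSuzuki K → p ∣ Nat.card K → P K
  twf : ∀ (K : Type u) [Group K] [Finite K] [IsSimpleGroup K], p ≠ 2 →
    Lie.Iso2F4 K → p ∣ Nat.card K → P K
  ree : ∀ (K : Type u) [Group K] [Finite K] [IsSimpleGroup K], p ≠ 3 →
    Lie.IsoRee K → p ∣ Nat.card K → P K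

/-- The rows of the sporadic groups and of the Tits group: the pairs with `p ^ 2 ∣ #K`. -/
structure SporRows (a : ℕ) (P : ℕ → ∀ (K : Type u) [Group K], Prop) : Prop where
  tits_2 : a ≤ 2 → ∀ {K : Type u} [Group K], Lie.IsoTits K → P 2 K
  tits_3 : ∀ {K : Type u} [Group K], Lie.IsoTits K → P 3 K
  tits_5 : ∀ {K : Type u} [Group K], Lie.IsoTits K → P 5 K
  m11_2 : a ≤ 2 → ∀ {K : Type u} [Group K], Spor.IsoM11 K → P 2 K
  m11_3 : ∀ {K : Type u} [Group K], Spor.IsoM11 K → P 3 K
  m12_2 : a ≤ 2 → ∀ {K : Type u} [Group K], Spor.IsoM12 K → P 2 K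
  m12_3 : ∀ {K : Type u} [Group K], Spor.IsoM12 K → P 3 K
  m22_2 : a ≤ 2 → ∀ {K : Type u} [Group K], Spor.IsoM22 K → P 2 K
  m22_3 : ∀ {K : Type u} [Group K], Spor.IsoM22 K → P 3 K
  m23_2 : a ≤ 2 → ∀ {K : Type u} [Group K], Spor.IsoM23 K → P 2 K
  m23_3 : ∀ {K : Type u} [Group K], Spor.IsoM23 K → P 3 K
  m24_2 : a ≤ 2 → ∀ {K : Type u} [Group K], Spor.IsoM24 K → P 2 K
  m24_3 : ∀ {K : Type u} [Group K], Spor.IsoM24 K → P 3 K
  j1_2 : a ≤ 2 → ∀ {K : Type u} [Group K], Spor.IsoJ1 K → P 2 K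
  j2_2 : a ≤ 2 → ∀ {K : Type u} [Group K], Spor.IsoJ2 K → P 2 K
  j2_3 : ∀ {K : Type u} [Group K], Spor.IsoJ2 K → P 3 K
  j2_5 : ∀ {K : Type u} [Group K], Spor.IsoJ2 K → P 5 K
  j3_2 : a ≤ 2 → ∀ {K : Type u} [Group K], Spor.IsoJ3 K → P 2 K
  j3_3 : ∀ {K : Type u} [Group K], Spor.IsoJ3 K → P 3 K
  j4_2 : a ≤ 2 → ∀ {K : Type u} [Group K], Spor.IsoJ4 K → P 2 K
  j4_3 : ∀ {K : Type u} [Group K], Spor.IsoJ4 K → P 3 K
  j4_11 : ∀ {K : Type u} [Group K], Spor.IsoJ4 K → P 11 K
  co1_2 : a ≤ 2 → ∀ {K : Type u} [Group K], Spor.IsoCo1 K → P 2 K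
  co1_3 : ∀ {K : Type u} [Group K], Spor.IsoCo1 K → P 3 K
  co1_5 : ∀ {K : Type u} [Group K], Spor.IsoCo1 K → P 5 K
  co1_7 : ∀ {K : Type u} [Group K], Spor.IsoCo1 K → P 7 K
  co2_2 : a ≤ 2 → ∀ {K : Type u} [Group K], Spor.IsoCo2 K → P 2 K
  co2_3 : ∀ {K : Type u} [Group K], Spor.IsoCo2 K → P 3 K
  co2_5 : ∀ {K : Type u} [Group K], Spor.IsoCo2 K → P 5 K
  co3_2 : a ≤ 2 → ∀ {K : Type u} [Group K], Spor.IsoCo3 K → P 2 K
  co3_3 : ∀ {K : Type u} [Group K], Spor.IsoCo3 K → P 3 K
  co3_5 : ∀ {K : Type u} [Group K], Spor.IsoCo3 K → P 5 K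
  mcl_2 : a ≤ 2 → ∀ {K : Type u} [Group K], Spor.IsoMcL K → P 2 K
  mcl_3 : ∀ {K : Type u} [Group K], Spor.IsoMcL K → P 3 K
  mcl_5 : ∀ {K : Type u} [Group K], Spor.IsoMcL K → P 5 K
  hs_2 : a ≤ 2 → ∀ {K : Type u} [Group K], Spor.IsoHS K → P 2 K
  hs_3 : ∀ {K : Type u} [Group K], Spor.IsoHS K → P 3 K
  hs_5 : ∀ {K : Type u} [Group K], Spor.IsoHS K → P 5 K
  suz_2 : a ≤ 2 → ∀ {K : Type u} [Group K], Spor.IsoSuz K → P 2 K
  suz_3 : ∀ {K : Type u} [Group K], Spor.IsoSuz K → P 3 K
  suz_5 : ∀ {K : Type u} [Group K], Spor.IsoSuz K → P 5 K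
  he_2 : a ≤ 2 → ∀ {K : Type u} [Group K], Spor.IsoHe K → P 2 K
  he_3 : ∀ {K : Type u} [Group K], Spor.IsoHe K → P 3 K
  he_5 : ∀ {K : Type u} [Group K], Spor.IsoHe K → P 5 K
  he_7 : ∀ {K : Type u} [Group K], Spor.IsoHe K → P 7 K
  ru_2 : a ≤ 2 → ∀ {K : Type u} [Group K], Spor.IsoRu K → P 2 K
  ru_3 : ∀ {K : Type u} [Group K], Spor.IsoRu K → P 3 K
  ru_5 : ∀ {K : Type u} [Group K], Spor.IsoRu K → P 5 K
  on_2 : a ≤ 2 → ∀ {K : Type u} [Group K], Spor.IsoON K → P 2 K
  on_3 : ∀ {K : Type u} [Group K], Spor.IsoON K → P 3 K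
  on_7 : ∀ {K : Type u} [Group K], Spor.IsoON K → P 7 K
  ly_2 : a ≤ 2 → ∀ {K : Type u} [Group K], Spor.IsoLy K → P 2 K
  ly_3 : ∀ {K : Type u} [Group K], Spor.IsoLy K → P 3 K
  ly_5 : ∀ {K : Type u} [Group K], Spor.IsoLy K → P 5 K
  fi22_2 : a ≤ 2 → ∀ {K : Type u} [Group K], Spor.IsoFi22 K → P 2 K
  fi22_3 : ∀ {K : Type u} [Group K], Spor.IsoFi22 K → P 3 K
  fi22_5 : ∀ {K : Type u} [Group K], Spor.IsoFi22 K → P 5 K
  fi23_2 : a ≤ 2 → ∀ {K : Type u} [Group K], Spor.IsoFi23 K → P 2 K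
  fi23_3 : ∀ {K : Type u} [Group K], Spor.IsoFi23 K → P 3 K
  fi23_5 : ∀ {K : Type u} [Group K], Spor.IsoFi23 K → P 5 K
  fi24_2 : a ≤ 2 → ∀ {K : Type u} [Group K], Spor.IsoFi24' K → P 2 K
  fi24_3 : ∀ {K : Type u} [Group K], Spor.IsoFi24' K → P 3 K
  fi24_5 : ∀ {K : Type u} [Group K], Spor.IsoFi24' K → P 5 K
  fi24_7 : ∀ {K : Type u} [Group K], Spor.IsoFi24' K → P 7 K
  hn_2 : a ≤ 2 → ∀ {K : Type u} [Group K], Spor.IsoHN K → P 2 K
  hn_3 : ∀ {K : Type u} [Group K], Spor.IsoHN K → P 3 K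
  hn_5 : ∀ {K : Type u} [Group K], Spor.IsoHN K → P 5 K
  th_2 : a ≤ 2 → ∀ {K : Type u} [Group K], Spor.IsoTh K → P 2 K
  th_3 : ∀ {K : Type u} [Group K], Spor.IsoTh K → P 3 K
  th_5 : ∀ {K : Type u} [Group K], Spor.IsoTh K → P 5 K
  th_7 : ∀ {K : Type u} [Group K], Spor.IsoTh K → P 7 K
  b_2 : a ≤ 2 → ∀ {K : Type u} [Group K], Spor.IsoB K → P 2 K
  b_3 : ∀ {K : Type u} [Group K], Spor.IsoB K → P 3 K
  b_5 : ∀ {K : Type u} [Group K], Spor.IsoB K → P 5 K
  b_7 : ∀ {K : Type u} [Group K], Spor.IsoB K → P 7 K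
  m_2 : a ≤ 2 → ∀ {K : Type u} [Group K], Spor.IsoM K → P 2 K
  m_3 : ∀ {K : Type u} [Group K], Spor.IsoM K → P 3 K
  m_5 : ∀ {K : Type u} [Group K], Spor.IsoM K → P 5 K
  m_7 : ∀ {K : Type u} [Group K], Spor.IsoM K → P 7 K
  m_11 : ∀ {K : Type u} [Group K], Spor.IsoM K → P 11 K
  m_13 : ∀ {K : Type u} [Group K], Spor.IsoM K → P 13 K

/-- A property of primes and groups, from the list of the prime powers. -/
theorem of_list {S : Type u} [Group S] [Finite S] [IsSimpleGroup S] {P : ℕ → ∀ (K : Type u) [Group K], Prop}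
    {p : ℕ} [hp : Fact p.Prime]
    (h1 : (Nat.card S).factorization p = 1 → P p S) (L : List (ℕ × ℕ))
    (hL : ∀ x ∈ L, x.1.Prime) (hnd : (L.map Prod.fst).Nodup)
    (hN : Nat.card S = (L.map fun y : ℕ × ℕ => y.1 ^ y.2).prod) (hd : p ∣ Nat.card S)
    (h : ∀ x ∈ L, x.2 ≠ 1 → x.1 = p → P p S) : P p S := by
  have hd' := hd
  rw [hN] at hd
  obtain ⟨z, hz, hzd⟩ := (Prime.dvd_prod_iff hp.out.prime).1 hd
  rw [List.mem_map] at hz
  obtain ⟨x, hx, rfl⟩ := hz
  have hpx := (Nat.prime_dvd_prime_iff_eq hp.out (hL x hx)).1 (hp.out.dvd_of_dvd_pow hzd)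
  by_cases h2 : x.2 = 1
  · apply h1
    rw [hN, hpx, TwoVanSpor.factorization_prod L hL hnd x hx, h2]
  · exact h x hx h2 hpx.symm

variable {P : ℕ → ∀ (K : Type u) [Group K], Prop} {a : ℕ}

theorem of_tits (R : SporRows a P) {K : Type u} [Group K] [Finite K] [IsSimpleGroup K] (h : Lie.IsoTits K)
    {p : ℕ} [hp : Fact p.Prime] (ha : a ≤ p) (h1 : (Nat.card K).factorization p = 1 → P p K)
    (hd : p ∣ Nat.card K) : P p K := by
  refine of_list h1
    [(2, 11), (3, 3), (5, 2), (13, 1)]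
    ?_ (by decide) ?_ hd ?_
  · simp; norm_num
  · rw [NotCT.Orders.tits h]; decide +kernel
  · intro x hx hx1 hxp
    simp only [List.mem_cons, List.not_mem_nil, or_false] at hx
    rcases hx with rfl | rfl | rfl | rfl
    · subst hxp; exact R.tits_2 ha h
    · subst hxp; exact R.tits_3 h
    · subst hxp; exact R.tits_5 h
    · exact absurd rfl hx1

theorem of_m11 (R : SporRows a P) {K : Type u} [Group K] [Finite K] [IsSimpleGroup K] (h : Spor.IsoM11 K)
    {p : ℕ} [hp : Fact p.Prime] (ha : a ≤ p) (h1 : (Nat.card K).factorization p = 1 → P p K)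
    (hd : p ∣ Nat.card K) : P p K := by
  refine of_list h1
    [(2, 4), (3, 2), (5, 1), (11, 1)]
    ?_ (by decide) ?_ hd ?_
  · simp; norm_num
  · rw [NotCT.Orders.m11 h]; decide +kernel
  · intro x hx hx1 hxp
    simp only [List.mem_cons, List.not_mem_nil, or_false] at hx
    rcases hx with rfl | rfl | rfl | rfl
    · subst hxp; exact R.m11_2 ha h
    · subst hxp; exact R.m11_3 h
    · exact absurd rfl hx1
    · exact absurd rfl hx1

theorem of_m12 (R : SporRows a P) {K : Type u} [Group K] [Finite K] [IsSimpleGroup K] (h : Spor.IsoM12 K)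
    {p : ℕ} [hp : Fact p.Prime] (ha : a ≤ p) (h1 : (Nat.card K).factorization p = 1 → P p K)
    (hd : p ∣ Nat.card K) : P p K := by
  refine of_list h1
    [(2, 6), (3, 3), (5, 1), (11, 1)]
    ?_ (by decide) ?_ hd ?_
  · simp; norm_num
  · rw [NotCT.Orders.m12 h]; decide +kernel
  · intro x hx hx1 hxp
    simp only [List.mem_cons, List.not_mem_nil, or_false] at hx
    rcases hx with rfl | rfl | rfl | rfl
    · subst hxp; exact R.m12_2 ha h
    · subst hxp; exact R.m12_3 h
    · exact absurd rfl hx1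
    · exact absurd rfl hx1

theorem of_m22 (R : SporRows a P) {K : Type u} [Group K] [Finite K] [IsSimpleGroup K] (h : Spor.IsoM22 K)
    {p : ℕ} [hp : Fact p.Prime] (ha : a ≤ p) (h1 : (Nat.card K).factorization p = 1 → P p K)
    (hd : p ∣ Nat.card K) : P p K := by
  refine of_list h1
    [(2, 7), (3, 2), (5, 1), (7, 1), (11, 1)]
    ?_ (by decide) ?_ hd ?_
  · simp; norm_num
  · rw [NotCT.Orders.m22 h]; decide +kernel
  · intro x hx hx1 hxp
    simp only [List.mem_cons, List.not_mem_nil, or_false] at hx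
    rcases hx with rfl | rfl | rfl | rfl | rfl
    · subst hxp; exact R.m22_2 ha h
    · subst hxp; exact R.m22_3 h
    · exact absurd rfl hx1
    · exact absurd rfl hx1
    · exact absurd rfl hx1

theorem of_m23 (R : SporRows a P) {K : Type u} [Group K] [Finite K] [IsSimpleGroup K] (h : Spor.IsoM23 K)
    {p : ℕ} [hp : Fact p.Prime] (ha : a ≤ p) (h1 : (Nat.card K).factorization p = 1 → P p K)
    (hd : p ∣ Nat.card K) : P p K := by
  refine of_list h1
    [(2, 7), (3, 2), (5, 1), (7, 1), (11, 1), (23, 1)]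
    ?_ (by decide) ?_ hd ?_
  · simp; norm_num
  · rw [NotCT.Orders.m23 h]; decide +kernel
  · intro x hx hx1 hxp
    simp only [List.mem_cons, List.not_mem_nil, or_false] at hx
    rcases hx with rfl | rfl | rfl | rfl | rfl | rfl
    · subst hxp; exact R.m23_2 ha h
    · subst hxp; exact R.m23_3 h
    · exact absurd rfl hx1
    · exact absurd rfl hx1
    · exact absurd rfl hx1
    · exact absurd rfl hx1

theorem of_m24 (R : SporRows a P) {K : Type u} [Group K] [Finite K] [IsSimpleGroup K] (h : Spor.IsoM24 K)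
    {p : ℕ} [hp : Fact p.Prime] (ha : a ≤ p) (h1 : (Nat.card K).factorization p = 1 → P p K)
    (hd : p ∣ Nat.card K) : P p K := by
  refine of_list h1
    [(2, 10), (3, 3), (5, 1), (7, 1), (11, 1), (23, 1)]
    ?_ (by decide) ?_ hd ?_
  · simp; norm_num
  · rw [NotCT.Orders.m24 h]; decide +kernel
  · intro x hx hx1 hxp
    simp only [List.mem_cons, List.not_mem_nil, or_false] at hx
    rcases hx with rfl | rfl | rfl | rfl | rfl | rfl
    · subst hxp; exact R.m24_2 ha h
    · subst hxp; exact R.m24_3 h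
    · exact absurd rfl hx1
    · exact absurd rfl hx1
    · exact absurd rfl hx1
    · exact absurd rfl hx1

theorem of_j1 (R : SporRows a P) {K : Type u} [Group K] [Finite K] [IsSimpleGroup K] (h : Spor.IsoJ1 K)
    {p : ℕ} [hp : Fact p.Prime] (ha : a ≤ p) (h1 : (Nat.card K).factorization p = 1 → P p K)
    (hd : p ∣ Nat.card K) : P p K := by
  refine of_list h1
    [(2, 3), (3, 1), (5, 1), (7, 1), (11, 1), (19, 1)]
    ?_ (by decide) ?_ hd ?_
  · simp; norm_num
  · rw [NotCT.Orders.j1 h]; decide +kernel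
  · intro x hx hx1 hxp
    simp only [List.mem_cons, List.not_mem_nil, or_false] at hx
    rcases hx with rfl | rfl | rfl | rfl | rfl | rfl
    · subst hxp; exact R.j1_2 ha h
    · exact absurd rfl hx1
    · exact absurd rfl hx1
    · exact absurd rfl hx1
    · exact absurd rfl hx1
    · exact absurd rfl hx1

theorem of_j2 (R : SporRows a P) {K : Type u} [Group K] [Finite K] [IsSimpleGroup K] (h : Spor.IsoJ2 K)
    {p : ℕ} [hp : Fact p.Prime] (ha : a ≤ p) (h1 : (Nat.card K).factorization p = 1 → P p K)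
    (hd : p ∣ Nat.card K) : P p K := by
  refine of_list h1
    [(2, 7), (3, 3), (5, 2), (7, 1)]
    ?_ (by decide) ?_ hd ?_
  · simp; norm_num
  · rw [NotCT.Orders.j2 h]; decide +kernel
  · intro x hx hx1 hxp
    simp only [List.mem_cons, List.not_mem_nil, or_false] at hx
    rcases hx with rfl | rfl | rfl | rfl
    · subst hxp; exact R.j2_2 ha h
    · subst hxp; exact R.j2_3 h
    · subst hxp; exact R.j2_5 h
    · exact absurd rfl hx1

theorem of_j3 (R : SporRows a P) {K : Type u} [Group K] [Finite K] [IsSimpleGroup K] (h : Spor.IsoJ3 K)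
    {p : ℕ} [hp : Fact p.Prime] (ha : a ≤ p) (h1 : (Nat.card K).factorization p = 1 → P p K)
    (hd : p ∣ Nat.card K) : P p K := by
  refine of_list h1
    [(2, 7), (3, 5), (5, 1), (17, 1), (19, 1)]
    ?_ (by decide) ?_ hd ?_
  · simp; norm_num
  · rw [NotCT.Orders.j3 h]; decide +kernel
  · intro x hx hx1 hxp
    simp only [List.mem_cons, List.not_mem_nil, or_false] at hx
    rcases hx with rfl | rfl | rfl | rfl | rfl
    · subst hxp; exact R.j3_2 ha h
    · subst hxp; exact R.j3_3 h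
    · exact absurd rfl hx1
    · exact absurd rfl hx1
    · exact absurd rfl hx1

theorem of_j4 (R : SporRows a P) {K : Type u} [Group K] [Finite K] [IsSimpleGroup K] (h : Spor.IsoJ4 K)
    {p : ℕ} [hp : Fact p.Prime] (ha : a ≤ p) (h1 : (Nat.card K).factorization p = 1 → P p K)
    (hd : p ∣ Nat.card K) : P p K := by
  refine of_list h1
    [(2, 21), (3, 3), (5, 1), (7, 1), (11, 3), (23, 1), (29, 1), (31, 1), (37, 1), (43, 1)]
    ?_ (by decide) ?_ hd ?_
  · simp; norm_num
  · rw [NotCT.Orders.j4 h]; decide +kernel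
  · intro x hx hx1 hxp
    simp only [List.mem_cons, List.not_mem_nil, or_false] at hx
    rcases hx with rfl | rfl | rfl | rfl | rfl | rfl | rfl | rfl | rfl | rfl
    · subst hxp; exact R.j4_2 ha h
    · subst hxp; exact R.j4_3 h
    · exact absurd rfl hx1
    · exact absurd rfl hx1
    · subst hxp; exact R.j4_11 h
    · exact absurd rfl hx1
    · exact absurd rfl hx1
    · exact absurd rfl hx1
    · exact absurd rfl hx1
    · exact absurd rfl hx1

theorem of_co1 (R : SporRows a P) {K : Type u} [Group K] [Finite K] [IsSimpleGroup K] (h : Spor.IsoCo1 K)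
    {p : ℕ} [hp : Fact p.Prime] (ha : a ≤ p) (h1 : (Nat.card K).factorization p = 1 → P p K)
    (hd : p ∣ Nat.card K) : P p K := by
  refine of_list h1
    [(2, 21), (3, 9), (5, 4), (7, 2), (11, 1), (13, 1), (23, 1)]
    ?_ (by decide) ?_ hd ?_
  · simp; norm_num
  · rw [NotCT.Orders.co1 h]; decide +kernel
  · intro x hx hx1 hxp
    simp only [List.mem_cons, List.not_mem_nil, or_false] at hx
    rcases hx with rfl | rfl | rfl | rfl | rfl | rfl | rfl
    · subst hxp; exact R.co1_2 ha h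
    · subst hxp; exact R.co1_3 h
    · subst hxp; exact R.co1_5 h
    · subst hxp; exact R.co1_7 h
    · exact absurd rfl hx1
    · exact absurd rfl hx1
    · exact absurd rfl hx1

theorem of_co2 (R : SporRows a P) {K : Type u} [Group K] [Finite K] [IsSimpleGroup K] (h : Spor.IsoCo2 K)
    {p : ℕ} [hp : Fact p.Prime] (ha : a ≤ p) (h1 : (Nat.card K).factorization p = 1 → P p K)
    (hd : p ∣ Nat.card K) : P p K := by
  refine of_list h1
    [(2, 18), (3, 6), (5, 3), (7, 1), (11, 1), (23, 1)]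
    ?_ (by decide) ?_ hd ?_
  · simp; norm_num
  · rw [NotCT.Orders.co2 h]; decide +kernel
  · intro x hx hx1 hxp
    simp only [List.mem_cons, List.not_mem_nil, or_false] at hx
    rcases hx with rfl | rfl | rfl | rfl | rfl | rfl
    · subst hxp; exact R.co2_2 ha h
    · subst hxp; exact R.co2_3 h
    · subst hxp; exact R.co2_5 h
    · exact absurd rfl hx1
    · exact absurd rfl hx1
    · exact absurd rfl hx1

theorem of_co3 (R : SporRows a P) {K : Type u} [Group K] [Finite K] [IsSimpleGroup K] (h : Spor.IsoCo3 K)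
    {p : ℕ} [hp : Fact p.Prime] (ha : a ≤ p) (h1 : (Nat.card K).factorization p = 1 → P p K)
    (hd : p ∣ Nat.card K) : P p K := by
  refine of_list h1
    [(2, 10), (3, 7), (5, 3), (7, 1), (11, 1), (23, 1)]
    ?_ (by decide) ?_ hd ?_
  · simp; norm_num
  · rw [NotCT.Orders.co3 h]; decide +kernel
  · intro x hx hx1 hxp
    simp only [List.mem_cons, List.not_mem_nil, or_false] at hx
    rcases hx with rfl | rfl | rfl | rfl | rfl | rfl
    · subst hxp; exact R.co3_2 ha h
    · subst hxp; exact R.co3_3 h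
    · subst hxp; exact R.co3_5 h
    · exact absurd rfl hx1
    · exact absurd rfl hx1
    · exact absurd rfl hx1

theorem of_mcl (R : SporRows a P) {K : Type u} [Group K] [Finite K] [IsSimpleGroup K] (h : Spor.IsoMcL K)
    {p : ℕ} [hp : Fact p.Prime] (ha : a ≤ p) (h1 : (Nat.card K).factorization p = 1 → P p K)
    (hd : p ∣ Nat.card K) : P p K := by
  refine of_list h1
    [(2, 7), (3, 6), (5, 3), (7, 1), (11, 1)]
    ?_ (by decide) ?_ hd ?_
  · simp; norm_num
  · rw [NotCT.Orders.mcl h]; decide +kernel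
  · intro x hx hx1 hxp
    simp only [List.mem_cons, List.not_mem_nil, or_false] at hx
    rcases hx with rfl | rfl | rfl | rfl | rfl
    · subst hxp; exact R.mcl_2 ha h
    · subst hxp; exact R.mcl_3 h
    · subst hxp; exact R.mcl_5 h
    · exact absurd rfl hx1
    · exact absurd rfl hx1

theorem of_hs (R : SporRows a P) {K : Type u} [Group K] [Finite K] [IsSimpleGroup K] (h : Spor.IsoHS K)
    {p : ℕ} [hp : Fact p.Prime] (ha : a ≤ p) (h1 : (Nat.card K).factorization p = 1 → P p K)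
    (hd : p ∣ Nat.card K) : P p K := by
  refine of_list h1
    [(2, 9), (3, 2), (5, 3), (7, 1), (11, 1)]
    ?_ (by decide) ?_ hd ?_
  · simp; norm_num
  · rw [NotCT.Orders.hs h]; decide +kernel
  · intro x hx hx1 hxp
    simp only [List.mem_cons, List.not_mem_nil, or_false] at hx
    rcases hx with rfl | rfl | rfl | rfl | rfl
    · subst hxp; exact R.hs_2 ha h
    · subst hxp; exact R.hs_3 h
    · subst hxp; exact R.hs_5 h
    · exact absurd rfl hx1
    · exact absurd rfl hx1

theorem of_suz (R : SporRows a P) {K : Type u} [Group K] [Finite K] [IsSimpleGroup K] (h : Spor.IsoSuz K)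
    {p : ℕ} [hp : Fact p.Prime] (ha : a ≤ p) (h1 : (Nat.card K).factorization p = 1 → P p K)
    (hd : p ∣ Nat.card K) : P p K := by
  refine of_list h1
    [(2, 13), (3, 7), (5, 2), (7, 1), (11, 1), (13, 1)]
    ?_ (by decide) ?_ hd ?_
  · simp; norm_num
  · rw [NotCT.Orders.suz h]; decide +kernel
  · intro x hx hx1 hxp
    simp only [List.mem_cons, List.not_mem_nil, or_false] at hx
    rcases hx with rfl | rfl | rfl | rfl | rfl | rfl
    · subst hxp; exact R.suz_2 ha h
    · subst hxp; exact R.suz_3 h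
    · subst hxp; exact R.suz_5 h
    · exact absurd rfl hx1
    · exact absurd rfl hx1
    · exact absurd rfl hx1

theorem of_he (R : SporRows a P) {K : Type u} [Group K] [Finite K] [IsSimpleGroup K] (h : Spor.IsoHe K)
    {p : ℕ} [hp : Fact p.Prime] (ha : a ≤ p) (h1 : (Nat.card K).factorization p = 1 → P p K)
    (hd : p ∣ Nat.card K) : P p K := by
  refine of_list h1
    [(2, 10), (3, 3), (5, 2), (7, 3), (17, 1)]
    ?_ (by decide) ?_ hd ?_
  · simp; norm_num
  · rw [NotCT.Orders.he h]; decide +kernel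
  · intro x hx hx1 hxp
    simp only [List.mem_cons, List.not_mem_nil, or_false] at hx
    rcases hx with rfl | rfl | rfl | rfl | rfl
    · subst hxp; exact R.he_2 ha h
    · subst hxp; exact R.he_3 h
    · subst hxp; exact R.he_5 h
    · subst hxp; exact R.he_7 h
    · exact absurd rfl hx1

theorem of_ru (R : SporRows a P) {K : Type u} [Group K] [Finite K] [IsSimpleGroup K] (h : Spor.IsoRu K)
    {p : ℕ} [hp : Fact p.Prime] (ha : a ≤ p) (h1 : (Nat.card K).factorization p = 1 → P p K)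
    (hd : p ∣ Nat.card K) : P p K := by
  refine of_list h1
    [(2, 14), (3, 3), (5, 3), (7, 1), (13, 1), (29, 1)]
    ?_ (by decide) ?_ hd ?_
  · simp; norm_num
  · rw [NotCT.Orders.ru h]; decide +kernel
  · intro x hx hx1 hxp
    simp only [List.mem_cons, List.not_mem_nil, or_false] at hx
    rcases hx with rfl | rfl | rfl | rfl | rfl | rfl
    · subst hxp; exact R.ru_2 ha h
    · subst hxp; exact R.ru_3 h
    · subst hxp; exact R.ru_5 h
    · exact absurd rfl hx1
    · exact absurd rfl hx1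
    · exact absurd rfl hx1

theorem of_on (R : SporRows a P) {K : Type u} [Group K] [Finite K] [IsSimpleGroup K] (h : Spor.IsoON K)
    {p : ℕ} [hp : Fact p.Prime] (ha : a ≤ p) (h1 : (Nat.card K).factorization p = 1 → P p K)
    (hd : p ∣ Nat.card K) : P p K := by
  refine of_list h1
    [(2, 9), (3, 4), (5, 1), (7, 3), (11, 1), (19, 1), (31, 1)]
    ?_ (by decide) ?_ hd ?_
  · simp; norm_num
  · rw [NotCT.Orders.on h]; decide +kernel
  · intro x hx hx1 hxp
    simp only [List.mem_cons, List.not_mem_nil, or_false] at hx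
    rcases hx with rfl | rfl | rfl | rfl | rfl | rfl | rfl
    · subst hxp; exact R.on_2 ha h
    · subst hxp; exact R.on_3 h
    · exact absurd rfl hx1
    · subst hxp; exact R.on_7 h
    · exact absurd rfl hx1
    · exact absurd rfl hx1
    · exact absurd rfl hx1

theorem of_ly (R : SporRows a P) {K : Type u} [Group K] [Finite K] [IsSimpleGroup K] (h : Spor.IsoLy K)
    {p : ℕ} [hp : Fact p.Prime] (ha : a ≤ p) (h1 : (Nat.card K).factorization p = 1 → P p K)
    (hd : p ∣ Nat.card K) : P p K := by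
  refine of_list h1
    [(2, 8), (3, 7), (5, 6), (7, 1), (11, 1), (31, 1), (37, 1), (67, 1)]
    ?_ (by decide) ?_ hd ?_
  · simp; norm_num
  · rw [NotCT.Orders.ly h]; decide +kernel
  · intro x hx hx1 hxp
    simp only [List.mem_cons, List.not_mem_nil, or_false] at hx
    rcases hx with rfl | rfl | rfl | rfl | rfl | rfl | rfl | rfl
    · subst hxp; exact R.ly_2 ha h
    · subst hxp; exact R.ly_3 h
    · subst hxp; exact R.ly_5 h
    · exact absurd rfl hx1
    · exact absurd rfl hx1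
    · exact absurd rfl hx1
    · exact absurd rfl hx1
    · exact absurd rfl hx1

theorem of_fi22 (R : SporRows a P) {K : Type u} [Group K] [Finite K] [IsSimpleGroup K] (h : Spor.IsoFi22 K)
    {p : ℕ} [hp : Fact p.Prime] (ha : a ≤ p) (h1 : (Nat.card K).factorization p = 1 → P p K)
    (hd : p ∣ Nat.card K) : P p K := by
  refine of_list h1
    [(2, 17), (3, 9), (5, 2), (7, 1), (11, 1), (13, 1)]
    ?_ (by decide) ?_ hd ?_
  · simp; norm_num
  · rw [NotCT.Orders.fi22 h]; decide +kernel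
  · intro x hx hx1 hxp
    simp only [List.mem_cons, List.not_mem_nil, or_false] at hx
    rcases hx with rfl | rfl | rfl | rfl | rfl | rfl
    · subst hxp; exact R.fi22_2 ha h
    · subst hxp; exact R.fi22_3 h
    · subst hxp; exact R.fi22_5 h
    · exact absurd rfl hx1
    · exact absurd rfl hx1
    · exact absurd rfl hx1

theorem of_fi23 (R : SporRows a P) {K : Type u} [Group K] [Finite K] [IsSimpleGroup K] (h : Spor.IsoFi23 K)
    {p : ℕ} [hp : Fact p.Prime] (ha : a ≤ p) (h1 : (Nat.card K).factorization p = 1 → P p K)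
    (hd : p ∣ Nat.card K) : P p K := by
  refine of_list h1
    [(2, 18), (3, 13), (5, 2), (7, 1), (11, 1), (13, 1), (17, 1), (23, 1)]
    ?_ (by decide) ?_ hd ?_
  · simp; norm_num
  · rw [NotCT.Orders.fi23 h]; decide +kernel
  · intro x hx hx1 hxp
    simp only [List.mem_cons, List.not_mem_nil, or_false] at hx
    rcases hx with rfl | rfl | rfl | rfl | rfl | rfl | rfl | rfl
    · subst hxp; exact R.fi23_2 ha h
    · subst hxp; exact R.fi23_3 h
    · subst hxp; exact R.fi23_5 h
    · exact absurd rfl hx1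
    · exact absurd rfl hx1
    · exact absurd rfl hx1
    · exact absurd rfl hx1
    · exact absurd rfl hx1

theorem of_fi24 (R : SporRows a P) {K : Type u} [Group K] [Finite K] [IsSimpleGroup K] (h : Spor.IsoFi24' K)
    {p : ℕ} [hp : Fact p.Prime] (ha : a ≤ p) (h1 : (Nat.card K).factorization p = 1 → P p K)
    (hd : p ∣ Nat.card K) : P p K := by
  refine of_list h1
    [(2, 21), (3, 16), (5, 2), (7, 3), (11, 1), (13, 1), (17, 1), (23, 1), (29, 1)]
    ?_ (by decide) ?_ hd ?_
  · simp; norm_num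
  · rw [NotCT.Orders.fi24 h]; decide +kernel
  · intro x hx hx1 hxp
    simp only [List.mem_cons, List.not_mem_nil, or_false] at hx
    rcases hx with rfl | rfl | rfl | rfl | rfl | rfl | rfl | rfl | rfl
    · subst hxp; exact R.fi24_2 ha h
    · subst hxp; exact R.fi24_3 h
    · subst hxp; exact R.fi24_5 h
    · subst hxp; exact R.fi24_7 h
    · exact absurd rfl hx1
    · exact absurd rfl hx1
    · exact absurd rfl hx1
    · exact absurd rfl hx1
    · exact absurd rfl hx1

theorem of_hn (R : SporRows a P) {K : Type u} [Group K] [Finite K] [IsSimpleGroup K] (h : Spor.IsoHN K)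
    {p : ℕ} [hp : Fact p.Prime] (ha : a ≤ p) (h1 : (Nat.card K).factorization p = 1 → P p K)
    (hd : p ∣ Nat.card K) : P p K := by
  refine of_list h1
    [(2, 14), (3, 6), (5, 6), (7, 1), (11, 1), (19, 1)]
    ?_ (by decide) ?_ hd ?_
  · simp; norm_num
  · rw [NotCT.Orders.hn h]; decide +kernel
  · intro x hx hx1 hxp
    simp only [List.mem_cons, List.not_mem_nil, or_false] at hx
    rcases hx with rfl | rfl | rfl | rfl | rfl | rfl
    · subst hxp; exact R.hn_2 ha h
    · subst hxp; exact R.hn_3 h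
    · subst hxp; exact R.hn_5 h
    · exact absurd rfl hx1
    · exact absurd rfl hx1
    · exact absurd rfl hx1

theorem of_th (R : SporRows a P) {K : Type u} [Group K] [Finite K] [IsSimpleGroup K] (h : Spor.IsoTh K)
    {p : ℕ} [hp : Fact p.Prime] (ha : a ≤ p) (h1 : (Nat.card K).factorization p = 1 → P p K)
    (hd : p ∣ Nat.card K) : P p K := by
  refine of_list h1
    [(2, 15), (3, 10), (5, 3), (7, 2), (13, 1), (19, 1), (31, 1)]
    ?_ (by decide) ?_ hd ?_
  · simp; norm_num
  · rw [NotCT.Orders.th h]; decide +kernel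
  · intro x hx hx1 hxp
    simp only [List.mem_cons, List.not_mem_nil, or_false] at hx
    rcases hx with rfl | rfl | rfl | rfl | rfl | rfl | rfl
    · subst hxp; exact R.th_2 ha h
    · subst hxp; exact R.th_3 h
    · subst hxp; exact R.th_5 h
    · subst hxp; exact R.th_7 h
    · exact absurd rfl hx1
    · exact absurd rfl hx1
    · exact absurd rfl hx1

theorem of_b (R : SporRows a P) {K : Type u} [Group K] [Finite K] [IsSimpleGroup K] (h : Spor.IsoB K)
    {p : ℕ} [hp : Fact p.Prime] (ha : a ≤ p) (h1 : (Nat.card K).factorization p = 1 → P p K)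
    (hd : p ∣ Nat.card K) : P p K := by
  refine of_list h1
    [(2, 41), (3, 13), (5, 6), (7, 2), (11, 1), (13, 1), (17, 1), (19, 1), (23, 1), (31, 1), (47, 1)]
    ?_ (by decide) ?_ hd ?_
  · simp; norm_num
  · rw [NotCT.Orders.b h]; decide +kernel
  · intro x hx hx1 hxp
    simp only [List.mem_cons, List.not_mem_nil, or_false] at hx
    rcases hx with rfl | rfl | rfl | rfl | rfl | rfl | rfl | rfl | rfl | rfl | rfl
    · subst hxp; exact R.b_2 ha h
    · subst hxp; exact R.b_3 h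
    · subst hxp; exact R.b_5 h
    · subst hxp; exact R.b_7 h
    · exact absurd rfl hx1
    · exact absurd rfl hx1
    · exact absurd rfl hx1
    · exact absurd rfl hx1
    · exact absurd rfl hx1
    · exact absurd rfl hx1
    · exact absurd rfl hx1

theorem of_m (R : SporRows a P) {K : Type u} [Group K] [Finite K] [IsSimpleGroup K] (h : Spor.IsoM K)
    {p : ℕ} [hp : Fact p.Prime] (ha : a ≤ p) (h1 : (Nat.card K).factorization p = 1 → P p K)
    (hd : p ∣ Nat.card K) : P p K := by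
  refine of_list h1
    [(2, 46), (3, 20), (5, 9), (7, 6), (11, 2), (13, 3), (17, 1), (19, 1), (23, 1), (29, 1), (31, 1), (41, 1), (47, 1), (59, 1), (71, 1)]
    ?_ (by decide) ?_ hd ?_
  · simp; norm_num
  · rw [NotCT.Orders.m h]; decide +kernel
  · intro x hx hx1 hxp
    simp only [List.mem_cons, List.not_mem_nil, or_false] at hx
    rcases hx with rfl | rfl | rfl | rfl | rfl | rfl | rfl | rfl | rfl | rfl | rfl | rfl | rfl | rfl | rfl
    · subst hxp; exact R.m_2 ha h
    · subst hxp; exact R.m_3 h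
    · subst hxp; exact R.m_5 h
    · subst hxp; exact R.m_7 h
    · subst hxp; exact R.m_11 h
    · subst hxp; exact R.m_13 h
    · exact absurd rfl hx1
    · exact absurd rfl hx1
    · exact absurd rfl hx1
    · exact absurd rfl hx1
    · exact absurd rfl hx1
    · exact absurd rfl hx1
    · exact absurd rfl hx1
    · exact absurd rfl hx1
    · exact absurd rfl hx1

/-- The sporadic groups. -/
theorem of_spor (R : SporRows a P) {K : Type u} [Group K] [Finite K] [IsSimpleGroup K] (h : IsSporadicGroup K)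
    {p : ℕ} [hp : Fact p.Prime] (ha : a ≤ p) (h1 : (Nat.card K).factorization p = 1 → P p K)
    (hd : p ∣ Nat.card K) : P p K := by
  rcases h with h | h | h | h | h | h | h | h | h | h | h | h | h | h | h | h | h | h | h | h | h |
    h | h | h | h | h
  · exact of_m11 R h ha h1 hd
  · exact of_m12 R h ha h1 hd
  · exact of_m22 R h ha h1 hd
  · exact of_m23 R h ha h1 hd
  · exact of_m24 R h ha h1 hd
  · exact of_j1 R h ha h1 hd
  · exact of_j2 R h ha h1 hd
  · exact of_j3 R h ha h1 hd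
  · exact of_j4 R h ha h1 hd
  · exact of_co1 R h ha h1 hd
  · exact of_co2 R h ha h1 hd
  · exact of_co3 R h ha h1 hd
  · exact of_mcl R h ha h1 hd
  · exact of_hs R h ha h1 hd
  · exact of_suz R h ha h1 hd
  · exact of_he R h ha h1 hd
  · exact of_ru R h ha h1 hd
  · exact of_on R h ha h1 hd
  · exact of_ly R h ha h1 hd
  · exact of_fi22 R h ha h1 hd
  · exact of_fi23 R h ha h1 hd
  · exact of_fi24 R h ha h1 hd
  · exact of_hn R h ha h1 hd
  · exact of_th R h ha h1 hd
  · exact of_b R h ha h1 hd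
  · exact of_m R h ha h1 hd

/-- An element of order `p` is a zero, if all `p`-singular elements are zeros. -/
theorem vOrdP_of_kill {K : Type*} [Group K] [Finite K] {p : ℕ} [hp : Fact p.Prime] (h : Kill K p)
    (hd : p ∣ Nat.card K) : VOrdP p K := by
  obtain ⟨x, hx⟩ := exists_prime_orderOf_dvd_card' (G := K) p hd
  exact ⟨x, hx, h.vz (by rw [hx])⟩

theorem kill_of_im {S : Type u} [Group S] [Finite S] {p : ℕ} [hp : Fact p.Prime] (h : H33.IM p S)
    (h1 : (Nat.card S).factorization p = 1) : Kill S p := by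
  obtain ⟨χ, hχ⟩ := h
  have hdz : H665.NoPQ.HasDZ p S := by
    refine H720.PV.hasDZ_of_degree χ.2 (Cfsg.Agent.Blocks.Basic.irr_one_eq_charDegree χ.2) ?_
    rw [h1, pow_one]
    exact hχ
  obtain ⟨θ, hθ⟩ := hdz
  exact ⟨θ, fun g hg => H713.irr_zero_of_singular hθ hg⟩

/-- All the known simple groups. -/
theorem of_known {p : ℕ} [hp : Fact p.Prime] (ha : a ≤ p)
    (hvp : ∀ (K : Type u) [Group K] [Finite K], VOrdP p K → P p K)
    (hIM : H33.Core.{u} p)
    (halt : ∀ (n : ℕ) (K : Type u) [Group K] [Finite K] [IsSimpleGroup K], 5 ≤ n →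
      Nonempty (K ≃* alternatingGroup (Fin n)) → p ∣ Nat.card K → P p K)
    (L : LieRows.{u} p (P p)) (R : SporRows.{u} a P)
    {K : Type u} [Group K] [Finite K] [IsSimpleGroup K] (hna : ¬ IsMulCommutative K) (h : IsKnownSimple' K)
    (hd : p ∣ Nat.card K) : P p K := by
  have h1 : (Nat.card K).factorization p = 1 → P p K := fun hf =>
    hvp K (vOrdP_of_kill (kill_of_im (hIM K inferInstance h hna hd) hf) hd)
  rcases Cfsg.Agent.OddHalf.Known.classify' hna h with h | ⟨r, hr, h⟩ | h | h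
  · obtain ⟨n, hn, ⟨e⟩⟩ := h
    exact halt n K hn ⟨e⟩ hd
  · by_cases hpr : p = r
    · subst hpr
      exact hvp K (vOrdP_of_kill (Own.kill_of_lie hp.out h) hd)
    · rcases h with h | h | h | h | h | h | h | h | h | h | h
      · exact L.psl K r hr hpr h hd
      · exact L.psp K r hr hpr h hd
      · exact L.psu K r hr hpr h hd
      · exact L.oodd K r hr hpr h hd
      · exact L.oplus K r hr hpr h hd
      · exact L.ominus K r hr hpr h hd
      · exact L.exc K r hr hpr h hd
      · exact L.tw K r hr hpr h hd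
      · exact L.sz K (by rw [← h.1]; exact hpr) h.2 hd
      · exact L.twf K (by rw [← h.1]; exact hpr) h.2 hd
      · exact L.ree K (by rw [← h.1]; exact hpr) h.2 hd
  · exact of_tits R h ha h1 hd
  · exact of_spor R h ha h1 hd

/-- The property for S4555. -/
def PPow (p : ℕ) (K : Type u) [Group K] : Prop := VPow p K

/-- The property for S4559. -/
def POrd (p : ℕ) (K : Type u) [Group K] : Prop := VOrdP p K

/-- **S4555 from the rows and the classification.** -/
theorem s4555_of {p : ℕ} [hp : Fact p.Prime] (hCC : CCAll.{u}) (hIM : H33.Core.{u} p)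
    (hkn : ∀ (S : Type u) [Group S] [Finite S] [IsSimpleGroup S], IsKnownSimple' S)
    (halt : ∀ (n : ℕ) (K : Type u) [Group K] [Finite K] [IsSimpleGroup K], 5 ≤ n →
      Nonempty (K ≃* alternatingGroup (Fin n)) → p ∣ Nat.card K → VPow p K)
    (L : LieRows.{u} p (PPow p)) (R : SporRows.{u} 2 PPow)
    {G : Type u} [Group G] [Finite G]
    (h : ∀ g : G, (∃ j : ℕ, orderOf g = p ^ j) → ∀ χ : IrrCharacter G, (χ : G → ℂ) g ≠ 0)
    (Q : Sylow p G) : (Q : Subgroup G).Normal := by
  refine s4555_of_rows hCC (fun S _ _ _ hna hd => ?_) h Q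
  refine of_known (P := PPow) (a := 2) hp.out.two_le (fun K _ _ h => VOrdP.vPow h) hIM halt L R ?_ (hkn S) hd
  obtain ⟨x, y, hxy⟩ := hna
  exact fun h => hxy (h.is_comm.comm x y)

/-- **S4559 from the rows and the classification.** -/
theorem s4559_of {p : ℕ} [hp : Fact p.Prime] (hp2 : p ≠ 2) (hCC : CCAll.{u}) (hIM : H33.Core.{u} p)
    (hkn : ∀ (S : Type u) [Group S] [Finite S] [IsSimpleGroup S], IsKnownSimple' S)
    (halt : ∀ (n : ℕ) (K : Type u) [Group K] [Finite K] [IsSimpleGroup K], 5 ≤ n →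
      Nonempty (K ≃* alternatingGroup (Fin n)) → p ∣ Nat.card K → VOrdP p K)
    (L : LieRows.{u} p (POrd p)) (R : SporRows.{u} 3 POrd)
    {G : Type u} [Group G] [Finite G] (hdvd : p ∣ Nat.card G)
    (h : ∀ g : G, orderOf g = p → ∀ χ : IrrCharacter G, (χ : G → ℂ) g ≠ 0) :
    Cfsg.pCore p G ≠ ⊥ := by
  refine s4559_of_rows hCC (fun S _ _ _ hna hd => ?_) hdvd h
  refine of_known (P := POrd) (a := 3) ?_ (fun K _ _ h => h) hIM halt L R ?_ (hkn S) hd
  · have := hp.out.two_le
    omega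
  · obtain ⟨x, y, hxy⟩ := hna
    exact fun h => hxy (h.is_comm.comm x y)

end Cfsg.Agent.H620.PNRows
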