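import Cfsg.Agent.KFacts.ChevTwoInst
import Cfsg.Agent.Nodes.RGDFold

/-!
# The long root groups of the exceptional Chevalley groups: kernel checks (helper620)
-/

set_option autoImplicit false
set_option linter.unusedSectionVars false

namespace Cfsg.Agent.H620.ChevChk

open Cfsg Cfsg.Lie
open Cfsg.Agent.ChevalleyStructure Cfsg.Agent.ChevalleyStructure.RootVec

/-! ### the checks -/

/-- weighted height -/
def FI (D : ChevalleyDatum) (c : ℕ → ℤ) (r : ℕ) : ℤ := ((List.range D.rank).map fun i => c i * rt D r i).sum

def KK (m H F : ℤ) : ℕ := if 0 ≤ F / m then (H - F / m).toNat else (H - 1 - F / m).toNat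

/-- the long roots -/
def lg (D : ChevalleyDatum) (sh : List ℕ) (m : ℤ) (r : ℕ) : Bool := sh.all fun i => decide (rt D r i % m = 0)

def chkI (m H F k ci : ℤ) : Bool :=
  decide (KK m H (F - ci * k) + (if k < 0 then 1 else 0) = KK m H F + (if 0 < k then 1 else 0))

def chk (D : ChevalleyDatum) (c : ℕ → ℤ) (m H : ℤ) (sh : List ℕ) (s0 : ℕ) : Bool :=
  (List.range D.nroots).all fun r => !lg D sh m r ||
    (((List.range D.rank).all fun i => chkI m H (FI D c r) (D.cartan i r) (c i)) &&
    (decide (r = s0) || (List.range D.rank).any fun i =>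
      decide (KK m H (FI D c r - c i * D.cartan i r) < KK m H (FI D c r))) &&
    sh.all fun i => decide (D.cartan i r % m = 0))

def carI (D : ChevalleyDatum) (s r : ℕ) : ℤ :=
  ((List.range D.rank).map fun k => (D.coroot.getD s #[]).getD k 0 * D.cartan k r).sum

/-- the check for `LR` -/
def chkL (D : ChevalleyDatum) (s0 : ℕ) : Bool :=
  (List.range D.nroots).all fun r => decide (carI D s0 r < 0) || decide (r = s0) ||
    (decide (s0 ≠ D.neg r) && (D.commTerms r s0).isEmpty)

/-- dominance -/
def chkD (D : ChevalleyDatum) (s0 : ℕ) : Bool := (List.range D.rank).all fun i => decide (0 ≤ D.cartan i s0)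

def cF (i : ℕ) : ℤ := if i < 2 then 1 else 2
def cG (i : ℕ) : ℤ := if i < 1 then 1 else 3
def cE (_ : ℕ) : ℤ := 1

theorem chk_G2 : chk chevG2 cG 3 3 [0] 11 = true := by decide +kernel
theorem chk_F4 : chk chevF4 cF 2 8 [0, 1] 47 = true := by decide +kernel
theorem chk_E6 : chk chevE6 cE 1 11 [] 71 = true := by decide +kernel
theorem chk_E7 : chk chevE7 cE 1 17 [] 125 = true := by decide +kernel

/-- one root of `chk` -/
def chkB (D : ChevalleyDatum) (c : ℕ → ℤ) (m H : ℤ) (sh : List ℕ) (s0 r : ℕ) : Bool :=
  !lg D sh m r ||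
    (((List.range D.rank).all fun i => chkI m H (FI D c r) (D.cartan i r) (c i)) &&
    (decide (r = s0) || (List.range D.rank).any fun i =>
      decide (KK m H (FI D c r - c i * D.cartan i r) < KK m H (FI D c r))) &&
    sh.all fun i => decide (D.cartan i r % m = 0))

/-- one root of `chkL` -/
def chkLB (D : ChevalleyDatum) (s0 r : ℕ) : Bool :=
  decide (carI D s0 r < 0) || decide (r = s0) ||
    (decide (s0 ≠ D.neg r) && (D.commTerms r s0).isEmpty)

theorem all_four {f : ℕ → Bool} {n : ℕ} (a : ℕ) (hn : n ≤ 4 * a) (h0 : ((List.range a).all fun r => f r) = true)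
    (h1 : ((List.range a).all fun r => f (a + r)) = true)
    (h2 : ((List.range a).all fun r => f (2 * a + r)) = true)
    (h3 : ((List.range a).all fun r => f (3 * a + r)) = true) : (List.range n).all f = true := by
  rw [List.all_eq_true] at h0 h1 h2 h3 ⊢
  intro r hr
  rw [List.mem_range] at hr
  rcases lt_or_ge r a with h | h
  · exact h0 r (List.mem_range.2 h)
  rcases lt_or_ge r (2 * a) with h' | h'
  · have := h1 (r - a) (List.mem_range.2 (by omega))
    rwa [show a + (r - a) = r by omega] at this
  rcases lt_or_ge r (3 * a) with h'' | h''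
  · have := h2 (r - 2 * a) (List.mem_range.2 (by omega))
    rwa [show 2 * a + (r - 2 * a) = r by omega] at this
  · have := h3 (r - 3 * a) (List.mem_range.2 (by omega))
    rwa [show 3 * a + (r - 3 * a) = r by omega] at this

theorem nroots_E8_le : chevE8.nroots ≤ 4 * 60 := by decide +kernel

theorem chk_E8_0 : ((List.range 60).all fun r => chkB chevE8 cE 1 29 [] 239 r) = true := by decide +kernel
theorem chk_E8_1 : ((List.range 60).all fun r => chkB chevE8 cE 1 29 [] 239 (60 + r)) = true := by decide +kernel
theorem chk_E8_2 : ((List.range 60).all fun r => chkB chevE8 cE 1 29 [] 239 (2 * 60 + r)) = true := by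
  decide +kernel
theorem chk_E8_3 : ((List.range 60).all fun r => chkB chevE8 cE 1 29 [] 239 (3 * 60 + r)) = true := by
  decide +kernel

theorem chk_E8 : chk chevE8 cE 1 29 [] 239 = true :=
  all_four (f := chkB chevE8 cE 1 29 [] 239) 60 nroots_E8_le chk_E8_0 chk_E8_1 chk_E8_2 chk_E8_3

theorem chkL_G2 : chkL chevG2 11 = true := by decide +kernel
theorem chkL_F4 : chkL chevF4 47 = true := by decide +kernel
theorem chkL_E6 : chkL chevE6 71 = true := by decide +kernel
theorem chkL_E7 : chkL chevE7 125 = true := by decide +kernel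

theorem chkL_E8_0 : ((List.range 60).all fun r => chkLB chevE8 239 r) = true := by decide +kernel
theorem chkL_E8_1 : ((List.range 60).all fun r => chkLB chevE8 239 (60 + r)) = true := by decide +kernel
theorem chkL_E8_2 : ((List.range 60).all fun r => chkLB chevE8 239 (2 * 60 + r)) = true := by decide +kernel
theorem chkL_E8_3 : ((List.range 60).all fun r => chkLB chevE8 239 (3 * 60 + r)) = true := by decide +kernel

theorem chkL_E8 : chkL chevE8 239 = true :=
  all_four (f := chkLB chevE8 239) 60 nroots_E8_le chkL_E8_0 chkL_E8_1 chkL_E8_2 chkL_E8_3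

theorem chkD_G2 : chkD chevG2 11 = true := by decide +kernel
theorem chkD_F4 : chkD chevF4 47 = true := by decide +kernel
theorem chkD_E6 : chkD chevE6 71 = true := by decide +kernel
theorem chkD_E7 : chkD chevE7 125 = true := by decide +kernel
theorem chkD_E8 : chkD chevE8 239 = true := by decide +kernel

end Cfsg.Agent.H620.ChevChk
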