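import Cfsg.Agent.H620.RootKill
import Cfsg.Agent.H554.RG

/-!
# `LieGood` from a long root group (helper620)
-/

set_option autoImplicit false
set_option linter.unusedSectionVars false

namespace Cfsg.Agent.H620.RootLie

open CoxeterSystem Cfsg.Agent.ChevalleyStructure.CoxeterGeom Cfsg.Agent.Tits.Roots Cfsg.Agent.Tits.Core
  Cfsg.Agent.Tits.Exchange Cfsg.Agent.Nodes.Reps Cfsg.Agent.Nodes.BNOf Cfsg.Agent.Nodes.StabComb
  Cfsg.Agent.Nodes.Bruhat Cfsg.Agent.Nodes.OppDec Cfsg.Agent.Nodes.PosPair Cfsg.Agent.Nodes.Coroot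
  Cfsg.Agent.KFacts.RgdPar Cfsg.Agent.KFacts.RgdSL Cfsg.Agent.KFacts.RgdTI Cfsg.Agent.Nodes.LeviDec
  Cfsg.Agent.H400.TwoExc Cfsg.Agent.H620
open Cfsg Cfsg.Agent.H713

variable {I W Y : Type*} [Fintype I] [DecidableEq I] [Group W] [Group Y] {M : CoxeterMatrix I}
  {cs : CoxeterSystem M W} {A : I → I → ℤ} {h : IsCartan M A} {p : ℕ} {T : Subgroup Y} {n : I → Y}
  {X : (I → ℤ) → Subgroup Y} {R : RGD cs h p T n X} [Finite W] [Finite Y]

theorem X_neg_le (R : RGD cs h p T n X) (i : I) : X (-sr i) ≤ PJ cs h T X {i} := by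
  have h1 : n i ∈ PJ cs h T X {i} := (H554.RG.n_mem_PJ_iff R).mpr rfl
  have h2 : X (-sr i) = cj (n i) (X (sr i)) := by
    rw [R.conj i _ (isRoot_sr cs h i), rep_simple_sr]
  rw [h2]
  intro g hg
  rw [mem_cj] at hg
  have h3 : (n i)⁻¹ * g * n i ∈ PJ cs h T X {i} := B_le_PJ (RGD.X_le_B (isRoot_sr cs h i) (sr_nonneg i) hg)
  have h4 := mul_mem (mul_mem h1 h3) (inv_mem h1)
  have e : n i * ((n i)⁻¹ * g * n i) * (n i)⁻¹ = g := by group
  rwa [e] at h4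

/-- the order of the rank one group of a root -/
theorem not_dvd_rank_one (R : RGD cs h p T n X) {a : I → ℤ} {t : ℕ} (ht : t.Prime)
    (hB : ¬ t ∣ Nat.card (RGD.B cs h T X)) {i₀ : I} {w : W} (hw : rep cs h w (sr i₀) = a)
    (hX : ¬ t ∣ Nat.card (X (sr i₀)) + 1) : ¬ t ∣ Nat.card ↥(X a ⊔ X (-a)) := by
  intro hd
  obtain ⟨k, hk⟩ := exists_rp cs R.nsys w
  have e1 : cj k (X (sr i₀)) = X a := by rw [R.conj_rp hk (isRoot_sr cs h i₀), hw]
  have e2 : cj k (X (-sr i₀)) = X (-a) := by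
    rw [R.conj_rp hk (isRoot_sr cs h i₀).neg, map_neg, hw]
  have h1 : X a ⊔ X (-a) ≤ cj k (PJ cs h T X {i₀}) := by
    rw [← e1, ← e2]
    refine sup_le (cj_mono k ?_) (cj_mono k (X_neg_le R i₀))
    exact (RGD.X_le_B (isRoot_sr cs h i₀) (sr_nonneg i₀)).trans B_le_PJ
  have h2 : t ∣ Nat.card (PJ cs h T X {i₀}) := by
    have h3 := hd.trans (Subgroup.card_dvd_of_le h1)
    rwa [Nodes.CardSup.card_cj] at h3
  have h3 : Nat.card (RGD.B cs h T X) * (Nat.card (X (sr i₀)) + 1) = Nat.card (PJ cs h T X {i₀}) := by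
    rw [← H554.RG.relIndex_B_PJ_singleton R i₀]
    exact card_mul_relIndex B_le_PJ
  rw [← h3] at h2
  rcases ht.dvd_mul.1 h2 with h4 | h4
  · exact hB h4
  · exact hX h4

/-- **`LieGood` from a long root group.** -/
theorem lieGood_of_lr [hp : Fact p.Prime] (hG : GG cs h T X = ⊤) {a : I → ℤ} (L : LR R a)
    (hd : ∀ i, 0 ≤ cpr cs h (sr i) a) {t : ℕ} (ht : t.Prime) (htp : t ≠ p)
    (hP : ¬ t ∣ Nat.card (PS T X (Ge cs h a))) (htY : t ∣ Nat.card Y) {i₀ : I} {w : W}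
    (hw : rep cs h w (sr i₀) = a) (hX : ¬ t ∣ Nat.card (X (sr i₀)) + 1) {j : I}
    (hj : cpr cs h (sr j) a = 0) : LieGood Y p := by
  have hB : ¬ t ∣ Nat.card (RGD.B cs h T X) := fun h1 => hP (h1.trans (Subgroup.card_dvd_of_le (B_le_Ge L.root hd)))
  have hkill := RootKill.kill_of_lr hG L hd ht htp hP (not_dvd_rank_one R ht hB hw hX)
  obtain ⟨⟨u, hu⟩, hu1⟩ := (Subgroup.ne_bot_iff_exists_ne_one).1 (X_ne_bot R L.root)
  have hu1' : u ≠ 1 := fun h0 => hu1 (Subtype.ext h0)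
  obtain ⟨k, hk⟩ := R.pgrp' L.root ⟨u, hu⟩
  have hk' : u ^ p ^ k = 1 := congrArg Subtype.val hk
  have h1 := R.notp j
  rw [IsPGroup] at h1
  push Not at h1
  obtain ⟨⟨y, hy⟩, hy1⟩ := h1
  have hcent : X (sr j) ⊔ X (-sr j) ≤ Subgroup.centralizer (X a : Set Y) := by
    refine sup_le ?_ ?_
    · intro v hv
      rw [Subgroup.mem_centralizer_iff]
      intro z hz
      exact (L.comm (sr j) (isRoot_sr cs h j) hj.ge v hv z hz).symm
    · intro v hv
      rw [Subgroup.mem_centralizer_iff]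
      intro z hz
      refine (L.comm (-sr j) (isRoot_sr cs h j).neg ?_ v hv z hz).symm
      rw [cpr_neg cs h _ L.root, hj, neg_zero]
  refine ⟨t, u, y, k, ht, htp.symm, htY, hkill, hu1', hk',
    fun z hz hzt => RootKill.cent_of_lr hG L ht hP hu hu1' hz hzt, ?_, ?_⟩
  · exact ((Subgroup.mem_centralizer_iff.1 (hcent hy)) u hu).symm
  · rintro ⟨m, hm⟩
    apply hy1 m
    apply Subtype.ext
    show y ^ p ^ m = 1
    rw [← hm, pow_orderOf_eq_one]

end Cfsg.Agent.H620.RootLie
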