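import Cfsg.Agent.H620.ExcIndex
import Cfsg.Agent.H620.RootLie
import Cfsg.Agent.H620.ChevChk
import Cfsg.Agent.GenExc.Main
import Cfsg.Agent.KFacts.Mult.RGDW

/-!
# The long root groups of the exceptional Chevalley groups (helper620)

* `tbl` : the table of `ExcIndex` from a kernel check; `lr` : `LR` for the highest root.
-/

set_option autoImplicit false
set_option linter.unusedSectionVars false

namespace Cfsg.Agent.H620.ChevTbl

open CoxeterSystem Cfsg.Agent.ChevalleyStructure.CoxeterGeom Cfsg.Agent.Tits.Roots Cfsg.Agent.Tits.Core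
  Cfsg.Agent.Nodes.Reps Cfsg.Agent.Nodes.BNOf Cfsg.Agent.Nodes.Coroot Cfsg.Agent.Nodes.RGDChev
  Cfsg.Agent.KFacts.RgdTI Cfsg.Agent.Nodes.Bruhat
open Cfsg Cfsg.Lie Cfsg.Agent.H620.ExcIndex Cfsg.Agent.H620.ChevChk
open Cfsg.Agent.ChevalleyStructure Cfsg.Agent.ChevalleyStructure.RootVec
  Cfsg.Agent.ChevalleyStructure.Elts Cfsg.Agent.ChevalleyStructure.NPerm
  Cfsg.Agent.ChevalleyStructure.CoxeterGeomTypes
open Cfsg.Agent.KFacts.RgdChevCoord (TT XX nc)

variable {D : ChevalleyDatum} {l : ℕ} {M : CoxeterMatrix (Fin l)} (hp : IsType D l M)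
  {W : Type*} [Group W] (cs : CoxeterSystem M W)

/-- weighted height -/
def Fv (c : ℕ → ℤ) (x : Fin l → ℤ) : ℤ := ∑ i : Fin l, c i * x i

def Kv (c : ℕ → ℤ) (m H : ℤ) (x : Fin l → ℤ) : ℕ := KK m H (Fv c x)

/-- the long roots -/
def OO (D : ChevalleyDatum) (l : ℕ) (sh : List ℕ) (m : ℤ) : Finset (Fin l → ℤ) :=
  ((Finset.range D.nroots).filter fun r => lg D sh m r = true).image (vec D l)

theorem Fv_sub (c : ℕ → ℤ) (x : Fin l → ℤ) (k : ℤ) (i : Fin l) : Fv c (x - k • sr i) = Fv c x - c i * k := by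
  unfold Fv
  have : ∀ j : Fin l, c j * (x - k • sr i) j = c j * x j - (if j = i then c i * k else 0) := by
    intro j
    rw [Pi.sub_apply, Pi.smul_apply, smul_eq_mul]
    by_cases hj : j = i
    · subst hj; rw [sr_self, if_pos rfl]; ring
    · rw [sr_ne hj, if_neg hj]; ring
  rw [Finset.sum_congr rfl fun j _ => this j, Finset.sum_sub_distrib, Finset.sum_ite_eq' Finset.univ i]
  simp

include hp in
theorem Fv_vec (c : ℕ → ℤ) (r : ℕ) : Fv c (vec D l r) = FI D c r := by
  unfold Fv FI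
  rw [hp.rank_eq, KFacts.ChevTwoInst.sum_map_range]
  exact Fin.sum_univ_eq_sum_range (fun j => c j * rt D r j) l

include hp in
theorem cartan_sign [Finite W] (i : Fin l) {r : ℕ} (hr : r < D.nroots) :
    (cpr cs hp.isCartan (sr i) (vec D l r) < 0 ↔ D.cartan i r < 0) ∧
    (0 < cpr cs hp.isCartan (sr i) (vec D l r) ↔ 0 < D.cartan i r) := by
  have := Fintype.ofFinite W
  have hx := isRoot_vec hp cs hr
  have e : cpr cs hp.isCartan (vec D l r) (sr i) = D.cartan i r := by rw [cpr_sr, pairing_vec hp i hr]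
  have h1 : ∀ {x y : Fin l → ℤ}, IsRoot cs hp.isCartan x → IsRoot cs hp.isCartan y →
      (0 < cpr cs hp.isCartan x y ↔ 0 < cpr cs hp.isCartan y x) := by
    intro x y hx hy
    rw [cpr_pos_iff cs hp.isCartan x hy, cpr_pos_iff cs hp.isCartan y hx, form_comm]
  constructor
  · have h2 := h1 (isRoot_sr cs hp.isCartan i).neg hx
    rw [cpr_neg cs hp.isCartan _ hx, cpr_neg_right cs hp.isCartan _ (isRoot_sr cs hp.isCartan i), e,
      Left.neg_pos_iff, Left.neg_pos_iff] at h2
    exact h2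
  · rw [h1 (isRoot_sr cs hp.isCartan i) hx, e]

/-- **The table.** -/
theorem tbl [Finite W] {c : ℕ → ℤ} {m H : ℤ} {sh : List ℕ} {s0 : ℕ} (hs0 : s0 < D.nroots)
    (hlg : lg D sh m s0 = true) (h0 : KK m H (FI D c s0) = 0) (h : chk D c m H sh s0 = true) :
    Tbl cs hp.isCartan (vec D l s0) (OO D l sh m) (fun _ => 1) (Kv c m H) := by
  have hc : ∀ r < D.nroots, lg D sh m r = true →
      (∀ i < D.rank, KK m H (FI D c r - c i * D.cartan i r) + (if D.cartan i r < 0 then 1 else 0) =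
        KK m H (FI D c r) + (if 0 < D.cartan i r then 1 else 0)) ∧
      (r = s0 ∨ ∃ i < D.rank, KK m H (FI D c r - c i * D.cartan i r) < KK m H (FI D c r)) ∧
      ∀ i ∈ sh, D.cartan i r % m = 0 := by
    intro r hr hl
    have h1 := (List.all_eq_true.1 h) r (List.mem_range.2 hr)
    rw [hl, Bool.not_true, Bool.false_or, Bool.and_eq_true, Bool.and_eq_true] at h1
    obtain ⟨⟨h2, h3⟩, h4⟩ := h1
    refine ⟨fun i hi => ?_, ?_, fun i hi => ?_⟩
    · have := (List.all_eq_true.1 h2) i (List.mem_range.2 hi)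
      exact of_decide_eq_true this
    · rcases Bool.or_eq_true _ _ ▸ h3 with h5 | h5
      · exact Or.inl (of_decide_eq_true h5)
      · obtain ⟨i, hi, h6⟩ := List.any_eq_true.1 h5
        exact Or.inr ⟨i, List.mem_range.1 hi, of_decide_eq_true h6⟩
    · exact of_decide_eq_true ((List.all_eq_true.1 h4) i hi)
  have hrep : ∀ {r : ℕ} (i : Fin l), r < D.nroots → rep cs hp.isCartan (cs.simple i) (vec D l r) =
      vec D l r - D.cartan i r • sr i := by
    intro r i hr
    rw [rep_simple_eq, pairing_vec hp i hr]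
  have hK : ∀ {r : ℕ} (i : Fin l), r < D.nroots → Kv c m H (rep cs hp.isCartan (cs.simple i) (vec D l r)) =
      KK m H (FI D c r - c i * D.cartan i r) := by
    intro r i hr
    unfold Kv
    rw [hrep i hr, Fv_sub, Fv_vec hp]
  have hmem : ∀ {s}, s ∈ OO D l sh m → ∃ r, r < D.nroots ∧ lg D sh m r = true ∧ vec D l r = s := by
    intro s hs
    obtain ⟨r, hr, rfl⟩ := Finset.mem_image.1 hs
    rw [Finset.mem_filter, Finset.mem_range] at hr
    exact ⟨r, hr.1, hr.2, rfl⟩
  have hmem' : ∀ {r}, r < D.nroots → lg D sh m r = true → vec D l r ∈ OO D l sh m := fun {r} h1 h2 =>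
    Finset.mem_image.2 ⟨r, Finset.mem_filter.2 ⟨Finset.mem_range.2 h1, h2⟩, rfl⟩
  refine ⟨hmem' hs0 hlg, ?_, ?_, ?_, ?_⟩
  · intro s hs i
    obtain ⟨r, hr, hl, rfl⟩ := hmem hs
    rw [rep_vec hp cs i hr]
    refine hmem' (reflectRoot_lt hp.inList (lt_rank hp i) hr) ?_
    unfold lg at hl ⊢
    rw [List.all_eq_true] at hl ⊢
    intro j hj
    have h1 := of_decide_eq_true (hl j hj)
    have h2 := (hc r hr (by unfold lg; rw [List.all_eq_true]; exact hl)).2.2 j hj
    apply decide_eq_true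
    rw [(reflectRoot_rt hp.checked (lt_rank hp i) hr).2]
    by_cases hji : j = i
    · subst hji
      rw [if_pos rfl, mul_one]
      exact Int.emod_eq_zero_of_dvd (dvd_sub (Int.dvd_of_emod_eq_zero h1) (Int.dvd_of_emod_eq_zero h2))
    · rw [if_neg hji]
      simpa using h1
  · show KK m H (Fv c (vec D l s0)) = 0
    rw [Fv_vec hp, h0]
  · intro s hs
    obtain ⟨r, hr, hl, rfl⟩ := hmem hs
    rcases (hc r hr hl).2.1 with h1 | ⟨i, hi, h1⟩
    · left; rw [h1]
    · right
      have hi' : i < l := by rw [← hp.rank_eq]; exact hi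
      refine ⟨⟨i, hi'⟩, ?_⟩
      rw [hK ⟨i, hi'⟩ hr]
      show _ < KK m H (Fv c (vec D l r))
      rw [Fv_vec hp]
      exact h1
  · intro s hs i
    obtain ⟨r, hr, hl, rfl⟩ := hmem hs
    have h1 := (hc r hr hl).1 i (lt_rank hp i)
    have h2 := cartan_sign hp cs i hr
    rw [hK i hr]
    show _ = KK m H (Fv c (vec D l r)) + _
    rw [Fv_vec hp]
    simp only [h2.1, h2.2]
    exact h1

/-- **`LR` for the highest root.** -/
theorem lr [Finite W] {K : Type} [Field K] [Finite K] (p : ℕ) [Fact p.Prime] [CharP K p] {s0 : ℕ}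
    (hs0 : s0 < D.nroots) (h : chkL D s0 = true) : LR (rgd (K := K) hp cs p) (vec D l s0) := by
  refine ⟨isRoot_vec hp cs hs0, fun x hx hc a ha b hb => ?_⟩
  obtain ⟨r, hr, rfl⟩ := (isRoot_iff hp cs x).1 hx
  obtain ⟨t, ht⟩ := (GenExc.Chev.mem_XX hp K hr).1 ha
  obtain ⟨t', ht'⟩ := (GenExc.Chev.mem_XX hp K hs0).1 hb
  apply Subtype.ext
  rw [Subgroup.coe_mul, Subgroup.coe_mul, ht, ht']
  rw [KFacts.ChevTwoInst.cpr_vec hp cs hs0 r hr] at hc
  have h1 := (List.all_eq_true.1 h) r (List.mem_range.2 hr)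
  have e : carI D s0 r = RootCombGood.car D s0 r := KFacts.ChevTwoInst.sum_map_range _ _
  rw [Bool.or_eq_true, Bool.or_eq_true] at h1
  rcases h1 with (h1 | h1) | h1
  · have := of_decide_eq_true h1
    rw [e] at this
    omega
  · have := of_decide_eq_true h1
    subst this
    rw [xG_add, xG_add, add_comm]
  · by_cases h2 : s0 = r
    · subst h2
      rw [xG_add, xG_add, add_comm]
    · rw [Bool.and_eq_true] at h1
      exact (Nodes.RGDFold.commute_of_nil hp hr hs0 h2 (of_decide_eq_true h1.1)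
        (List.isEmpty_iff.1 h1.2) t t').eq

theorem dom [Finite W] {s0 : ℕ} (hs0 : s0 < D.nroots) (h : chkD D s0 = true) (i : Fin l) :
    0 ≤ cpr cs hp.isCartan (sr i) (vec D l s0) := by
  have h1 := of_decide_eq_true ((List.all_eq_true.1 h) i (List.mem_range.2 (lt_rank hp i)))
  have h2 := (cartan_sign hp cs i hs0).1
  by_contra h3
  have := h2.1 (not_le.1 h3)
  omega

end Cfsg.Agent.H620.ChevTbl
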