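import Cfsg.Agent.H620.RootKill
import Cfsg.Agent.H554.RG

/-!
# The number of long root groups from a table (helper620)

`index_of_tbl` : `|Y : P| = ∑_{s ∈ O} q ^ K s`, for a table `O` (the roots conjugate to the dominant root `a`), `K`.
-/

set_option autoImplicit false
set_option linter.unusedSectionVars false

namespace Cfsg.Agent.H620.ExcIndex

open CoxeterSystem Cfsg.Agent.ChevalleyStructure.CoxeterGeom Cfsg.Agent.Tits.Roots Cfsg.Agent.Tits.Core
  Cfsg.Agent.Tits.Exchange Cfsg.Agent.Nodes.Reps Cfsg.Agent.Nodes.BNOf Cfsg.Agent.Nodes.StabComb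
  Cfsg.Agent.Nodes.Bruhat Cfsg.Agent.Nodes.OppDec Cfsg.Agent.Nodes.PosPair Cfsg.Agent.Nodes.Coroot
  Cfsg.Agent.KFacts.RgdPar Cfsg.Agent.KFacts.RgdSL Cfsg.Agent.KFacts.RgdTI Cfsg.Agent.Nodes.LeviDec
  Cfsg.Agent.H400.TwoExc Cfsg.Agent.H620
open Cfsg Cfsg.Agent.H713

variable {I W Y : Type*} [Fintype I] [DecidableEq I] [Group W] [Group Y] {M : CoxeterMatrix I}
  {cs : CoxeterSystem M W} {A : I → I → ℤ} {h : IsCartan M A} {p : ℕ} {T : Subgroup Y} {n : I → Y}
  {X : (I → ℤ) → Subgroup Y} [Finite W]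

theorem card_X_simple (R : RGD cs h p T n X) {x : I → ℤ} (hx : IsRoot cs h x) (i : I) :
    Nat.card (X (rep cs h (cs.simple i) x)) = Nat.card (X x) := by
  exact Nodes.CardSup.card_X_rep R _ hx

open Classical in
/-- the weight of `s` -/
noncomputable def FF (cs : CoxeterSystem M W) (h : IsCartan M A) (X : (I → ℤ) → Subgroup Y)
    (PF : Finset (I → ℤ)) (s : I → ℤ) : ℕ :=
  ∏ t ∈ PF.filter (fun t => cpr cs h t s < 0), Nat.card (X t)

theorem FF_step (R : RGD cs h p T n X) {PF : Finset (I → ℤ)} (hPF : ∀ t, t ∈ PF ↔ t ∈ RGD.Pos cs h) {s : I → ℤ}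
    (hs : IsRoot cs h s) (i : I) :
    FF cs h X PF (rep cs h (cs.simple i) s) * (if cpr cs h (sr i) s < 0 then Nat.card (X (sr i)) else 1) =
    FF cs h X PF s * (if 0 < cpr cs h (sr i) s then Nat.card (X (sr i)) else 1) := by
  classical
  have hi : (sr i : I → ℤ) ∈ PF := (hPF _).2 ⟨isRoot_sr cs h i, sr_nonneg i⟩
  have hroot : ∀ t ∈ PF, IsRoot cs h t := fun t ht => ((hPF t).1 ht).1
  have key : ∏ t ∈ PF.erase (sr i), (if cpr cs h t (rep cs h (cs.simple i) s) < 0 then Nat.card (X t) else 1) =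
      ∏ t ∈ PF.erase (sr i), (if cpr cs h t s < 0 then Nat.card (X t) else 1) := by
    have hmem : ∀ t ∈ PF.erase (sr i), rep cs h (cs.simple i) t ∈ PF.erase (sr i) := by
      intro t ht
      rw [Finset.mem_erase] at ht ⊢
      obtain ⟨h1, h2⟩ := ht
      obtain ⟨h3, h4⟩ := (hPF t).1 h2
      refine ⟨fun h5 => ?_, (hPF _).2 ⟨h3.act _, h3.simple_nonneg h4 i h1⟩⟩
      have h6 : rep cs h (cs.simple i) (rep cs h (cs.simple i) t) = t := by
        have := rep_inv_apply cs h (cs.simple i) t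
        rwa [cs.inv_simple] at this
      rw [h5, rep_simple_sr] at h6
      have h7 : (0 : I → ℤ) ≤ -sr i := by rw [h6]; exact h4
      exact (isRoot_sr cs h i).not_pos_neg (sr_nonneg i) (neg_nonneg.1 h7)
    have hinv : ∀ t : I → ℤ, rep cs h (cs.simple i) (rep cs h (cs.simple i) t) = t := fun t => by
      have := rep_inv_apply cs h (cs.simple i) t
      rwa [cs.inv_simple] at this
    refine Finset.prod_bij' (fun t _ => rep cs h (cs.simple i) t) (fun t _ => rep cs h (cs.simple i) t) hmem hmem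
      (fun t _ => hinv t) (fun t _ => hinv t) ?_
    intro t ht
    have h3 := hroot t (Finset.mem_of_mem_erase ht)
    rw [card_X_simple R h3]
    have h4 : cpr cs h t (rep cs h (cs.simple i) s) = cpr cs h (rep cs h (cs.simple i) t) s := by
      have := cpr_rep cs h (cs.simple i) (rep cs h (cs.simple i) t) hs
      rwa [hinv] at this
    rw [h4]
  have e1 : ∀ s', FF cs h X PF s' = (if cpr cs h (sr i) s' < 0 then Nat.card (X (sr i)) else 1) *
      ∏ t ∈ PF.erase (sr i), (if cpr cs h t s' < 0 then Nat.card (X t) else 1) := by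
    intro s'
    unfold FF
    rw [Finset.prod_filter]
    exact (Finset.mul_prod_erase PF (fun t => if cpr cs h t s' < 0 then Nat.card (X t) else 1) hi).symm
  have e2 : cpr cs h (sr i) (rep cs h (cs.simple i) s) = - cpr cs h (sr i) s := by
    have h4 : rep cs h (cs.simple i) (rep cs h (cs.simple i) (sr i : I → ℤ)) = sr i := by
      have := rep_inv_apply cs h (cs.simple i) (sr i : I → ℤ)
      rwa [cs.inv_simple] at this
    have := cpr_rep cs h (cs.simple i) (rep cs h (cs.simple i) (sr i)) hs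
    rw [h4, rep_simple_sr] at this
    rw [this]
    exact cpr_neg cs h _ hs
  rw [e1, e1, key, e2]
  simp only [Left.neg_neg_iff]
  ring

/-- The table. -/
structure Tbl (cs : CoxeterSystem M W) (h : IsCartan M A) (a : I → ℤ) (O : Finset (I → ℤ)) (wt : I → ℕ)
    (K : (I → ℤ) → ℕ) : Prop where
  mem : a ∈ O
  clo : ∀ s ∈ O, ∀ i, rep cs h (cs.simple i) s ∈ O
  zero : K a = 0
  desc : ∀ s ∈ O, s = a ∨ ∃ i, K (rep cs h (cs.simple i) s) < K s
  step : ∀ s ∈ O, ∀ i, K (rep cs h (cs.simple i) s) + (if cpr cs h (sr i) s < 0 then wt i else 0) =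
    K s + (if 0 < cpr cs h (sr i) s then wt i else 0)

variable {a : I → ℤ} {O : Finset (I → ℤ)} {wt : I → ℕ} {K : (I → ℤ) → ℕ}

theorem Tbl.orbit (D : Tbl cs h a O wt K) : ∀ s, s ∈ O ↔ ∃ w : W, rep cs h w a = s := by
  intro s
  constructor
  · -- descent
    have key : ∀ m, ∀ s ∈ O, K s ≤ m → ∃ w : W, rep cs h w a = s := by
      intro m
      induction m using Nat.strong_induction_on with
      | _ m ih =>
        intro s hs hm
        rcases D.desc s hs with rfl | ⟨i, hi⟩
        · exact ⟨1, by rw [map_one, Module.End.one_apply]⟩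
        · obtain ⟨w, hw⟩ := ih (K (rep cs h (cs.simple i) s)) (by omega) _ (D.clo s hs i) le_rfl
          refine ⟨cs.simple i * w, ?_⟩
          rw [rep_mul_apply, hw]
          have := rep_inv_apply cs h (cs.simple i) s
          rwa [cs.inv_simple] at this
    intro hs
    exact key _ s hs le_rfl
  · rintro ⟨w, rfl⟩
    obtain ⟨ω, rfl⟩ := cs.wordProd_surjective w
    induction ω with
    | nil =>
      rw [wordProd_nil, map_one, Module.End.one_apply]
      exact D.mem
    | cons i ω ih =>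
      rw [wordProd_cons, rep_mul_apply]
      exact D.clo _ ih i

theorem cpr_nonneg_of_dom (ha : IsRoot cs h a) (hd : ∀ i, 0 ≤ cpr cs h (sr i) a) {t : I → ℤ} (ht : 0 ≤ t) :
    0 ≤ cpr cs h t a := by
  have e : t = ∑ i, t i • (sr i : I → ℤ) := by
    funext k
    rw [Finset.sum_apply, Finset.sum_eq_single k]
    · rw [Pi.smul_apply, sr_self, smul_eq_mul, mul_one]
    · intro b _ hb
      rw [Pi.smul_apply, sr_ne hb.symm, smul_zero]
    · intro hk
      exact absurd (Finset.mem_univ k) hk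
  have e2 : cpr cs h t a = ∑ i, t i * cpr cs h (sr i) a := by
    conv_lhs => rw [e]
    rw [← ell_apply cs h ha, map_sum]
    refine Finset.sum_congr rfl fun i _ => ?_
    rw [map_zsmul, smul_eq_mul, ell_apply]
  rw [e2]
  exact Finset.sum_nonneg fun i _ => mul_nonneg (ht i) (hd i)

theorem Tbl.FF_eq (D : Tbl cs h a O wt K) (R : RGD cs h p T n X) (ha : IsRoot cs h a)
    (hd : ∀ i, 0 ≤ cpr cs h (sr i) a) {PF : Finset (I → ℤ)} (hPF : ∀ t, t ∈ PF ↔ t ∈ RGD.Pos cs h) {q : ℕ}
    (hq : 0 < q) (hwt : ∀ i, Nat.card (X (sr i)) = q ^ wt i) : ∀ s ∈ O, FF cs h X PF s = q ^ K s := by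
  classical
  have key : ∀ m, ∀ s ∈ O, K s ≤ m → FF cs h X PF s = q ^ K s := by
    intro m
    induction m using Nat.strong_induction_on with
    | _ m ih =>
      intro s hs hm
      rcases D.desc s hs with rfl | ⟨i, hi⟩
      · rw [D.zero, pow_zero]
        unfold FF
        rw [Finset.prod_filter]
        refine Finset.prod_eq_one fun t ht => ?_
        rw [if_neg]
        exact not_lt.2 (cpr_nonneg_of_dom ha hd ((hPF t).1 ht).2)
      · have h1 := ih (K (rep cs h (cs.simple i) s)) (by omega) _ (D.clo s hs i) le_rfl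
        have hr : IsRoot cs h s := by
          obtain ⟨w, rfl⟩ := (D.orbit s).1 hs
          exact ha.act w
        have h2 := FF_step R hPF hr i
        have h3 := D.step s hs i
        rw [h1, hwt] at h2
        have h4 : ∀ c : Prop, [Decidable c] → (if c then q ^ wt i else 1) = q ^ (if c then wt i else 0) := by
          intro c _
          split_ifs <;> simp
        rw [h4, h4, ← pow_add, h3, pow_add] at h2
        exact (Nat.eq_of_mul_eq_mul_right (pow_pos hq _) h2).symm
  intro s hs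
  exact key _ s hs le_rfl

/-- **The index.** -/
theorem index_of_tbl [Finite Y] {R : RGD cs h p T n X} (hG : GG cs h T X = ⊤) (L : LR R a)
    (hd : ∀ i, 0 ≤ cpr cs h (sr i) a) (D : Tbl cs h a O wt K) {q : ℕ} (hq : 0 < q)
    (hwt : ∀ i, Nat.card (X (sr i)) = q ^ wt i) :
    (PS T X (Ge cs h a)).index = ∑ s ∈ O, q ^ K s := by
  classical
  have hf : (RGD.Pos cs h).Finite := H400.TwoExc.finite_pos
  rw [index_Ge hG L hd O D.orbit hf.toFinset (fun t => by simp)]
  exact Finset.sum_congr rfl fun s hs =>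
    D.FF_eq R L.root hd (PF := hf.toFinset) (fun t => by simp) hq hwt s hs

end Cfsg.Agent.H620.ExcIndex
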