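import Cfsg.Agent.H620.Lin

/-!
# Killing a prime in a classical group: matrix form (helper620)
-/

set_option autoImplicit false

namespace Cfsg.Agent.H620.Lin

open Cfsg Module Cfsg.Agent.H620 Matrix

variable {K : Type*} [Field K] [Fintype K] {ι : Type*} [Fintype ι] [DecidableEq ι]

/-- The representation attached to a homomorphism into matrices. -/
def rep {H : Type*} [Group H] (M : H →* Matrix ι ι K) : H →* End K (ι → K) :=
  ((Matrix.toLinAlgEquiv' : Matrix ι ι K ≃ₐ[K] End K (ι → K)) : Matrix ι ι K →* End K (ι → K)).comp M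

omit [Fintype K] in
theorem rep_apply {H : Type*} [Group H] (M : H →* Matrix ι ι K) (h : H) (v : ι → K) :
    rep M h v = M h *ᵥ v := by
  simp [rep]

omit [Fintype K] in
theorem rep_eq_one {H : Type*} [Group H] (M : H →* Matrix ι ι K) {h : H} (hh : rep M h = 1) :
    M h = 1 := by
  have : (Matrix.toLinAlgEquiv' (M h) : End K (ι → K)) = Matrix.toLinAlgEquiv' (1 : Matrix ι ι K) := by
    rw [map_one]
    exact hh
  exact Matrix.toLinAlgEquiv'.injective this

/-- Transvections. -/
theorem kill_of_transvection {S H : Type*} [Group S] [Finite S] [Group H] [Finite H] (π : H →* S)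
    (hπ : Function.Surjective π) (M : H →* Matrix ι ι K)
    (hker : ∀ h, π h = 1 → ∃ c : K, ∀ v, M h *ᵥ v = c • v)
    (hfaith : ∀ h, M h = 1 → π h = 1) {t e : ℕ}
    [ht : Fact t.Prime] (hs : Small K t e) (x : H) (a : ι → K) (φ : (ι → K) →ₗ[K] K)
    (hx : ∀ v, M x *ᵥ v = v + φ v • a) (ha : a ≠ 0) (hφ : φ a = 0) (v₀ : ι → K) (hv₀ : φ v₀ = 1)
    (h1 : 2 < e) (h2 : Fintype.card ι < e + 2) (h3 : 2 < Fintype.card ι) :
    Kill S t ∧ ∀ z : S, z * π x = π x * z → z ^ t = 1 → z = 1 := by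
  have hx' : ∀ v, (rep M x - 1) v = φ v • a := by
    intro v
    rw [LinearMap.sub_apply, rep_apply, hx]
    simp
  refine kill_of_short π hπ (rep M) (fun h hh => ?_) (fun h hh => hfaith h (rep_eq_one M hh)) hs x
    (d := 1) ?_ ?_ (by omega) (by rw [finrank_fintype_fun_eq_card]; omega)
    (by rw [finrank_fintype_fun_eq_card]; omega)
  · obtain ⟨c, hc⟩ := hker h hh
    exact ⟨c, fun v => by rw [rep_apply, hc]⟩
  · apply LinearMap.ext
    intro v
    rw [Module.End.mul_apply, hx', hx', map_smul, hφ, smul_zero, zero_smul]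
    rfl
  · have : LinearMap.range (rep M x - 1) = Submodule.span K {a} := by
      ext w
      rw [Submodule.mem_span_singleton]
      constructor
      · rintro ⟨v, rfl⟩
        exact ⟨φ v, (hx' v).symm⟩
      · rintro ⟨c, rfl⟩
        refine ⟨c • v₀, ?_⟩
        rw [hx', map_smul, hv₀, smul_eq_mul, mul_one]
    rw [this]
    exact finrank_span_singleton ha

/-- Siegel elements of rank two. -/
theorem kill_of_siegel {S H : Type*} [Group S] [Finite S] [Group H] [Finite H] (π : H →* S)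
    (hπ : Function.Surjective π) (M : H →* Matrix ι ι K)
    (hker : ∀ h, π h = 1 → ∃ c : K, ∀ v, M h *ᵥ v = c • v)
    (hfaith : ∀ h, M h = 1 → π h = 1) {t e : ℕ}
    [ht : Fact t.Prime] (hs : Small K t e) (x : H) (a b : ι → K) (φ ψ : (ι → K) →ₗ[K] K)
    (hx : ∀ v, M x *ᵥ v = v + φ v • a + ψ v • b) (hab : LinearIndependent K ![a, b])
    (hφa : φ a = 0) (hφb : φ b = 0) (hψa : ψ a = 0) (hψb : ψ b = 0) (v₁ v₂ : ι → K)
    (h11 : φ v₁ = 1) (h12 : ψ v₁ = 0) (h21 : φ v₂ = 0) (h22 : ψ v₂ = 1)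
    (h1 : 4 < e) (h2 : Fintype.card ι < e + 4) (h3 : 4 < Fintype.card ι) :
    Kill S t ∧ ∀ z : S, z * π x = π x * z → z ^ t = 1 → z = 1 := by
  have hx' : ∀ v, (rep M x - 1) v = φ v • a + ψ v • b := by
    intro v
    rw [LinearMap.sub_apply, rep_apply, hx]
    simp [add_assoc]
  refine kill_of_short π hπ (rep M) (fun h hh => ?_) (fun h hh => hfaith h (rep_eq_one M hh)) hs x
    (d := 2) ?_ ?_ (by omega) (by rw [finrank_fintype_fun_eq_card]; omega)
    (by rw [finrank_fintype_fun_eq_card]; omega)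
  · obtain ⟨c, hc⟩ := hker h hh
    exact ⟨c, fun v => by rw [rep_apply, hc]⟩
  · apply LinearMap.ext
    intro v
    rw [Module.End.mul_apply, hx', hx', map_add, map_smul, map_smul, map_add, map_smul, map_smul,
      hφa, hφb, hψa, hψb]
    simp
  · have : LinearMap.range (rep M x - 1) = Submodule.span K (Set.range ![a, b]) := by
      ext w
      rw [Matrix.range_cons, Matrix.range_cons, Matrix.range_empty, Set.union_empty,
        Set.singleton_union, Submodule.mem_span_pair]
      constructor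
      · rintro ⟨v, rfl⟩
        exact ⟨φ v, ψ v, (hx' v).symm⟩
      · rintro ⟨c, d, rfl⟩
        refine ⟨c • v₁ + d • v₂, ?_⟩
        rw [hx', map_add, map_add, map_smul, map_smul, map_smul, map_smul, h11, h12, h21, h22]
        simp
    rw [this, finrank_span_eq_card hab]
    simp

omit [Field K] in
/-- `Small` from a primitive prime divisor. -/
theorem small_of_primitive {t n e : ℕ}
    (h : ∀ m, t ∣ Fintype.card K ^ m - 1 ↔ n ∣ m) (hn : ¬ t ∣ Fintype.card K) (he : e ≤ n) :
    Small K t e := by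
  refine ⟨hn, fun i hi1 hi2 hd => ?_⟩
  have := Nat.le_of_dvd hi1 ((h i).1 hd)
  omega

omit [Field K] in
/-- `Small` from a primitive prime divisor of `q^(2n) - 1`, `|K| = q²`. -/
theorem small_of_primitive_sq {q t n e : ℕ} (hK : Fintype.card K = q ^ 2) (ht : t.Prime)
    (h : ∀ m, t ∣ q ^ m - 1 ↔ 2 * n ∣ m) (hn : ¬ t ∣ q) (he : e ≤ n) : Small K t e := by
  refine ⟨fun hd => hn (ht.dvd_of_dvd_pow (hK ▸ hd)), fun i hi1 hi2 hd => ?_⟩
  rw [hK, ← pow_mul, h] at hd
  have := Nat.le_of_dvd hi1 (Nat.dvd_of_mul_dvd_mul_left (by norm_num) hd)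
  omega

end Cfsg.Agent.H620.Lin
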