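import Cfsg.Agent.H620.RowSporA
import Cfsg.Agent.H710.Spor.HNMix

/-!
# The rows of HN (helper620)
-/

set_option autoImplicit false

namespace Cfsg.Agent.H620.RowHN

open Cfsg Cfsg.Agent.H620 Cfsg.Agent.H713 Cfsg.Agent.H620.RowClass Cfsg.Agent.H620.SporCrit
open Cfsg.Agent.H665.NoPQ Cfsg.Agent.H620.RowSporA Subgroup
open Cfsg.Agent.H710.Spor.HN Cfsg.Agent.H710.Spor.HNMix

theorem rows_hn {K : Type*} [Group K] (h : Spor.IsoHN K) : Rows K := by
  have := finite_hn
  have : Fact (Nat.Prime 19) := ⟨by norm_num⟩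
  obtain ⟨e⟩ := h
  refine Rows.mulEquiv ?_ e.symm
  refine rows_of_evMix (p := 19) (by norm_num) (by rw [card_hn]; norm_num) hasDZ_19 evMix' fun x h2 hx => ?_
  have hx0 : orderOf x ≠ 0 := (orderOf_pos x).ne'
  have h3 : orderOf (x ^ (orderOf x / 2)) = 2 := orderOf_pow_orderOf_div hx0 h2
  have h4 : orderOf (x ^ (orderOf x / 19)) = 19 := orderOf_pow_orderOf_div hx0 hx
  have h5 : x ^ (orderOf x / 19) ∈ Subgroup.centralizer ({x ^ (orderOf x / 2)} : Set Cfsg.Spor.HN) := by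
    rw [Subgroup.mem_centralizer_singleton_iff, ← pow_add, ← pow_add, add_comm]
  have h6 : 19 ∣ Nat.card (Subgroup.centralizer ({x ^ (orderOf x / 2)} : Set Cfsg.Spor.HN)) := by
    rw [← h4, ← Subgroup.orderOf_mk _ h5]
    exact orderOf_dvd_natCard _
  rcases Cfsg.Agent.SigZeroHN.card_centralizer_cases h3 with h | h
  · rw [h.2] at h6
    norm_num at h6
  · rw [h.2] at h6
    norm_num at h6

end Cfsg.Agent.H620.RowHN
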