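import Cfsg.Agent.H620.RowSporA
import Cfsg.Agent.H710.Spor.Good
import Cfsg.Agent.KFacts.He.RecOut
import Cfsg.Agent.KFacts.He.TwoA
import Cfsg.Agent.ONType.PslCard

/-!
# The rows of the Held group (helper620)

17 does not divide the orders of the centralizers of the two classes of involutions.
-/

set_option autoImplicit false

namespace Cfsg.Agent.H620.RowHe

open Cfsg Cfsg.Agent.H620 Cfsg.Agent.H713 Cfsg.Agent.H620.RowClass Cfsg.Agent.H620.SporCrit
open Cfsg.Agent.H665.NoPQ Cfsg.Agent.H620.RowSporA Subgroup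
open Cfsg.Spor Cfsg.Spor.He Cfsg.Agent.SporadicB.HePerm Cfsg.Agent.KFacts.He Cfsg.Agent.KFacts.He.Lv
open Cfsg.Agent.KFacts.He.TwoACent Cfsg.Agent.KFacts.He.TwoAPlane Cfsg.Agent.ONType.Psl
open Cfsg.Agent.KFacts.He.Words Cfsg.Agent.KFacts.He.Bound Cfsg.Agent.ONType.PslCard

instance fact_17 : Fact (Nat.Prime 17) := ⟨by norm_num⟩

theorem cent_a : ¬ 17 ∣ Nat.card (centralizer ({gn .a} : Set Cfsg.Spor.He)) := by
  intro h
  have hfin : Finite Cfsg.Spor.He := Nat.finite_of_card_ne_zero (by rw [Classes.card_he]; norm_num)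
  obtain ⟨⟨x, hx⟩, hx17⟩ := exists_prime_orderOf_dvd_card' 17 h
  rw [Subgroup.orderOf_mk] at hx17
  have hxa : x * gn .a = gn .a * x := mem_centralizer_singleton_iff.1 hx
  have hx2 : x ^ 2 ∈ L := by
    rcases two hxa hxa with h1 | h1 | h1
    · exact L.pow_mem h1 2
    · exact L.pow_mem h1 2
    · rwa [pow_two]
  have hxL : x ∈ L := by
    have h1 : x = (x ^ 2) ^ 9 := by
      rw [← pow_mul]
      have h2 : x ^ 17 = 1 := by rw [← hx17]; exact pow_orderOf_eq_one x
      calc x = x ^ 17 * x := by rw [h2, one_mul]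
        _ = x ^ (2 * 9) := by rw [← pow_succ]
    rw [h1]
    exact L.pow_mem hx2 9
  have h1 : orderOf (⟨x, hxL⟩ : ↥L) = 17 := by rw [Subgroup.orderOf_mk, hx17]
  have h2 : orderOf (Th ⟨x, hxL⟩) ∣ 17 := by
    rw [← h1]
    exact orderOf_map_dvd Th _
  rcases (Nat.dvd_prime (by norm_num : Nat.Prime 17)).1 h2 with h3 | h3
  · rw [orderOf_eq_one_iff] at h3
    have h4 : (⟨x, hxL⟩ : ↥L) ∈ Th.ker := h3
    rw [ker_Th, mem_subgroupOf] at h4
    have h5 : orderOf (⟨x, h4⟩ : V) ∣ Nat.card V := orderOf_dvd_natCard _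
    rw [Subgroup.orderOf_mk, hx17, card_V] at h5
    norm_num at h5
  · have h5 : orderOf (Th ⟨x, hxL⟩) ∣ Nat.card PSL3 := orderOf_dvd_natCard _
    rw [h3, card_PSL3] at h5
    norm_num at h5

theorem hasDZ_17 : HasDZ 17 Cfsg.Spor.He := by
  have hfin : Finite Cfsg.Spor.He := Nat.finite_of_card_ne_zero (by rw [Classes.card_he]; norm_num)
  have hz : orderOf z = 2 := by
    obtain ⟨g, hg⟩ := Classes.z_d
    refine orderOf_eq_prime ?_ Hyp.z_ne_one
    have h1 : (g * z * g⁻¹) * (g * z * g⁻¹) = 1 := by rw [hg]; exact gn_mul_self .d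
    rw [pow_two]
    calc z * z = g⁻¹ * ((g * z * g⁻¹) * (g * z * g⁻¹)) * g := by group
      _ = 1 := by rw [h1]; group
  have ha : orderOf (gn .a) = 2 := orderOf_eq_prime (by rw [pow_two]; exact gn_mul_self _) a_ne_one
  refine hasDZ_of_two_classes ?_ hz ha ?_
  · intro u hu
    obtain ⟨h1, h2⟩ := orderOf_two hu
    rcases Classes.two_classes_a h1 h2 with ⟨g, hg⟩ | ⟨g, hg⟩
    · have h3 : IsConj z u := isConj_iff.2 ⟨g, hg⟩
      rw [Cfsg.Agent.Blocks.SylowIn.card_centralizer_of_isConj h3, Classes.card_centralizer]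
      norm_num
    · have h3 : IsConj (gn .a) u := isConj_iff.2 ⟨g, hg⟩
      rw [Cfsg.Agent.Blocks.SylowIn.card_centralizer_of_isConj h3]
      exact cent_a
  · intro h
    obtain ⟨g, hg⟩ := isConj_iff.1 h.symm
    exact RecOut.a_not_z g hg

theorem rows_he {K : Type*} [Group K] (h : Spor.IsoHe K) : Rows K := by
  have hfin : Finite Cfsg.Spor.He := Nat.finite_of_card_ne_zero (by rw [Classes.card_he]; norm_num)
  obtain ⟨x, hx, ho⟩ := Cfsg.Agent.H710.Spor.Good.exists_vz_he (K := Cfsg.Spor.He) ⟨MulEquiv.refl _⟩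
  obtain ⟨e⟩ := h
  exact Rows.mulEquiv (rows_of_prime_mul (p := 17) (q := 2) (r := 3) (n := 12) (by norm_num) (by norm_num)
    (by norm_num) (by norm_num) (by norm_num) (by norm_num)
    (vord_of_dz hasDZ_17 (by rw [Classes.card_he]; norm_num)) ⟨x, hx, ho⟩
    (by norm_num) (by norm_num) (by norm_num)) e.symm

end Cfsg.Agent.H620.RowHe
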