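import Cfsg.Agent.H620.RowSporB
import Cfsg.Agent.H723.Spor.ThMix
import Cfsg.Agent.H419.Spor.Co1
import Cfsg.Agent.S0399

/-!
# The rows of Th and Co1 (helper620)
-/

set_option autoImplicit false

namespace Cfsg.Agent.H620.RowSporC

open Cfsg Cfsg.Agent.H620 Cfsg.Agent.H713 Cfsg.Agent.H620.RowClass Cfsg.Agent.H620.SporCrit
open Cfsg.Agent.H665.NoPQ Cfsg.Agent.H620.RowSporA Cfsg.Agent.H620.RowSporB Subgroup

theorem rows_th {K : Type*} [Group K] (h : Spor.IsoTh K) : Rows K := by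
  have hcard : Nat.card Spor.Th = 90745943887872000 := H723.Spor.Th.card_th
  have hfin : Finite Spor.Th := Nat.finite_of_card_ne_zero (by rw [hcard]; norm_num)
  have : Fact (Nat.Prime 31) := ⟨by norm_num⟩
  obtain ⟨e⟩ := h
  refine Rows.mulEquiv ?_ e.symm
  refine rows_of_evMix (p := 31) (by norm_num) (by rw [hcard]; norm_num) H723.Spor.Th.hasDZ_31
    H723.Spor.ThMix.evMix' (not_dvd_of_invol fun u hu => ?_)
  rw [Cfsg.Agent.CpAutTh.Mid.card_cent Cfsg.Agent.KFacts.Th.Main.ctx H723.Spor.Th.hone hu]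
  norm_num

theorem hasDZ_co1 : HasDZ 23 Spor.Co1 := by
  have hcard : Nat.card Spor.Co1 = 4157776806543360000 := Cfsg.Agent.S0399.result.2
  have hfin : Finite Spor.Co1 := Nat.finite_of_card_ne_zero (by rw [hcard]; norm_num)
  obtain ⟨θ, hθ⟩ := H419.Spor.Co1.exists_irr
    (H419.Spor.Co1.psi_perm H419.Spor.Co1.y6_fix H419.Spor.Co1.y6_fix2)
  have h1 : (θ : Spor.Co1 → ℂ) 1 = (276 : ℕ) := by
    have h2 := hθ 1
    rw [map_one] at h2
    rw [h2, H419.Spor.Co1.psi_one]
    norm_num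
  exact dz_of_val (n := 1) (by norm_num) θ h1 (by norm_num)
    (by rw [hcard]; exact factorization_eq_one (by norm_num) (by norm_num))

theorem rows_co1 {K : Type*} [Group K] (h : Spor.IsoCo1 K) : Rows K := by
  have hcard : Nat.card Spor.Co1 = 4157776806543360000 := Cfsg.Agent.S0399.result.2
  have hfin : Finite Spor.Co1 := Nat.finite_of_card_ne_zero (by rw [hcard]; norm_num)
  obtain ⟨e⟩ := h
  exact Rows.mulEquiv (rows_of_prime_mul (p := 23) (q := 2) (r := 3) (n := 6) (by norm_num) (by norm_num)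
    (by norm_num) (by norm_num) (by norm_num) (by norm_num)
    (vord_of_dz hasDZ_co1 (by rw [hcard]; norm_num))
    ⟨_, H419.Spor.Co1.vz H419.Spor.Co1.y6_fix H419.Spor.Co1.y6_fix2, H419.Spor.Co1.order6⟩
    (by norm_num) (by norm_num) (by norm_num)) e.symm

end Cfsg.Agent.H620.RowSporC
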