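import Cfsg.Agent.H620.RowTwE
import Cfsg.Agent.ClosedExc.Rows
import Cfsg.Agent.S1067

/-!
# The row of `³D₄(q)` (helper620)
-/

set_option autoImplicit false
set_option linter.unusedSectionVars false

namespace Cfsg.Agent.H620.RowTwD

open CoxeterSystem Cfsg.Agent.ChevalleyStructure.CoxeterGeom Cfsg.Agent.Tits.Roots Cfsg.Agent.Tits.Core
  Cfsg.Agent.Nodes.Reps Cfsg.Agent.Nodes.BNOf Cfsg.Agent.Nodes.Coroot Cfsg.Agent.Nodes.RGDTwD4
  Cfsg.Agent.KFacts.RgdTI Cfsg.Agent.KFacts.RgdPar Cfsg.Agent.Nodes.Bruhat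
open Cfsg Cfsg.Lie Cfsg.Agent.H620 Cfsg.Agent.H620.ExcIndex Cfsg.Agent.H620.ChevCnt Cfsg.Agent.H620.ChevChk
  Cfsg.Agent.H620.TwTbl Cfsg.Agent.H620.RowChev Cfsg.Agent.H620.RowTwE
open Cfsg.Agent.ChevalleyStructure Cfsg.Agent.ChevalleyStructure.Elts
open Cfsg.Agent.Nodes.RGDFold Cfsg.Agent.ChevalleyStructure.TwistedU
open Cfsg.Agent.ChevalleyStructure.D4Fixed (sig)

def Lg : List (Fin 2 → ℤ) := [![1, 0], ![1, 3], ![2, 3], ![-1, 0], ![-1, -3], ![-2, -3]]

def th : Fin 2 → ℤ := ![2, 3]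

def Ks (s : Fin 2 → ℤ) : ℕ := KK 1 5 (s 0 + s 1)

def wts (i : Fin 2) : ℕ := if i = 0 then 1 else 3

theorem tblV : TblV Nodes.RGDTwD4.A th Lg wts Ks := by decide +kernel

theorem nodupL : Lg.Nodup := by decide +kernel

theorem cntD : cntL (Lg.map Ks) = [1, 1, 0, 0, 1, 1, 0, 0, 1, 1] := by decide +kernel

theorem V_Lg : ∀ s ∈ Lg, ∃ k < chevD4.nroots, V chevD4 J k = s := by decide +kernel

theorem V_th : ∀ k < chevD4.nroots, V chevD4 J k = th → k = 23 := by decide +kernel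

theorem nilD : ∀ r < chevD4.nroots, 0 ≤ V chevD4 J r 0 → r = 23 ∨ (23 ≠ chevD4.neg r ∧
    chevD4.commTerms r 23 = []) := by decide +kernel

theorem poly_3D4 {q : ℕ} (hq : 1 ≤ q) :
    ev [1, 1, 0, 0, 1, 1, 0, 0, 1, 1] q * (q ^ 1 - 1) = (q ^ 2 - 1) * (q ^ 8 + q ^ 4 + 1) := by
  zify
  simp only [cast_pred hq]
  simp only [ev]
  push_cast
  ring

theorem lieGood_3D4 {K : Type} [Field K] [Fintype K] (p : ℕ) [hp' : Fact p.Prime] [CharP K p] {q : ℕ}
    (hq : IsPrimePow q) (hK : Fintype.card K = q ^ 3) : LieGood (twistedD4 K q) p := by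
  classical
  obtain ⟨φ, hφ⟩ := D4Fixed.exists_frob hq hK
  have hq2 : 2 ≤ q := hq.two_le
  have hle := D4Fixed.twisted_le_fix hK hφ
  let cs := (CoxeterMatrix.G₂).toCoxeterSystem
  have : Finite (CoxeterMatrix.G₂).Group := Nodes.RGDFold.finite_W (hp := hp) cs isCartan foldData
  have hG : GG cs isCartan (T K q) (X φ q) = ⊤ := KFacts.Mult.RGDW.GG_eq_top_of_G1 (G1_eq_top cs hK hφ)
  have hroot : ∀ x, IsRoot cs isCartan x ↔ ∃ r < chevD4.nroots, V chevD4 J r = x := fun x =>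
    foldData.isRoot_iff (cs := cs) (h := isCartan) hp.checked (fun i r hr => wp_lt hp (J i) hr) x
  have hr : ∀ s ∈ Lg, IsRoot cs isCartan s := fun s hs => by
    rw [hroot]
    exact V_Lg s hs
  have hth : IsRoot cs isCartan th := hr th (by decide)
  have hdec0 : pairing Nodes.RGDTwD4.A 0 th = 1 := by decide +kernel
  have hdec1 : pairing Nodes.RGDTwD4.A 1 th = 0 := by decide +kernel
  have hc0 : 0 < cpr cs isCartan (sr 0) th := by
    rw [(cpr_sign (cs := cs) (h := isCartan) hth 0).2, hdec0]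
    norm_num
  have hc1 : cpr cs isCartan (sr 1) th = 0 := by
    have h1 := cpr_sign (cs := cs) (h := isCartan) hth 1
    rw [hdec1] at h1
    have h3 := h1.1
    have h4 := h1.2
    simp only [lt_self_iff_false, iff_false, not_lt] at h3 h4
    omega
  have hd : ∀ i, 0 ≤ cpr cs isCartan (sr i) th := by
    intro i
    fin_cases i
    · exact hc0.le
    · exact hc1.ge
  have hcpr : ∀ x : Fin 2 → ℤ, cpr cs isCartan x th = x 0 * cpr cs isCartan (sr 0) th := by
    intro x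
    have e : x = x 0 • (sr 0 : Fin 2 → ℤ) + x 1 • (sr 1 : Fin 2 → ℤ) := by
      funext k
      fin_cases k
      · show x 0 = x 0 * (sr 0 : Fin 2 → ℤ) 0 + x 1 * (sr 1 : Fin 2 → ℤ) 0
        rw [sr_self, sr_ne (by decide)]; ring
      · show x 1 = x 0 * (sr 0 : Fin 2 → ℤ) 1 + x 1 * (sr 1 : Fin 2 → ℤ) 1
        rw [sr_self, sr_ne (by decide)]; ring
    conv_lhs => rw [e]
    rw [cpr_add cs isCartan _ _ hth, cpr_smul cs isCartan _ _ hth, cpr_smul cs isCartan _ _ hth, hc1, mul_zero,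
      add_zero]
  have L : LR (rgd cs hK hφ p) th := by
    refine ⟨hth, fun x hx hc u hu v hv => ?_⟩
    have hc' : 0 ≤ x 0 := by
      rw [hcpr] at hc
      exact nonneg_of_mul_nonneg_left hc hc0
    have hu' : (u : GL chevD4.Idx K) ∈ rspan (xG (F := K) hp.inList) {k | k < chevD4.nroots ∧ V chevD4 J k = x} :=
      (show (u : GL chevD4.Idx K) ∈ R chevD4 hp K J (sig φ) x from hu).1
    have hv' : (v : GL chevD4.Idx K) ∈ rspan (xG (F := K) hp.inList) {k | k < chevD4.nroots ∧ V chevD4 J k = th} :=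
      (show (v : GL chevD4.Idx K) ∈ R chevD4 hp K J (sig φ) th from hv).1
    have step : ∀ s ∈ {k | k < chevD4.nroots ∧ V chevD4 J k = th}, ∀ t : K,
        rspan (xG (F := K) hp.inList) {k | k < chevD4.nroots ∧ V chevD4 J k = x} ≤
          Subgroup.centralizer ({xG (F := K) hp.inList s t} : Set (GL chevD4.Idx K)) := by
      rintro s ⟨hs, hsa⟩ t
      have h23 := V_th s hs hsa
      subst h23
      refine rspan_le _ fun r hr' w => ?_
      rw [Subgroup.mem_centralizer_singleton_iff]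
      rcases nilD r hr'.1 (by rw [hr'.2]; exact hc') with h | ⟨h1, h2⟩
      · subst h
        rw [xG_add, xG_add, add_comm]
      · by_cases h3 : 23 = r
        · subst h3
          rw [xG_add, xG_add, add_comm]
        · exact (commute_of_nil hp hr'.1 hs h3 h1 h2 w t).eq
    have h1 : rspan (xG (F := K) hp.inList) {k | k < chevD4.nroots ∧ V chevD4 J k = th} ≤
        Subgroup.centralizer ({(u : GL chevD4.Idx K)} : Set (GL chevD4.Idx K)) := by
      refine rspan_le _ fun s hs t => ?_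
      rw [Subgroup.mem_centralizer_singleton_iff]
      exact (Subgroup.mem_centralizer_singleton_iff.1 (step s hs t hu')).symm
    exact Subtype.ext (Subgroup.mem_centralizer_singleton_iff.1 (h1 hv')).symm
  have Tb := tbl_of (cs := cs) (h := isCartan) tblV hr
  have hcX : ∀ i : Fin 2, Nat.card (X φ q (sr i)) = q ^ wts i := by
    intro i
    fin_cases i
    · exact (ClosedExc.TwD4.card_X0 hφ hle hq2 hK).trans (pow_one q).symm
    · exact (ClosedExc.TwD4.card_X1 hφ hle).trans hK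
  have hidx := index_of_tbl hG L hd Tb (q := q) (by omega) hcX
  rw [sum_list nodupL, cntD] at hidx
  have hPN := Subgroup.card_mul_index (PS (T K q) (X φ q) (Ge cs isCartan th))
  rw [hidx] at hPN
  obtain ⟨t, ht, hprim, -, htq⟩ := Cfsg.Agent.Lib.Zsigmondy.exists_primitive (a := q)
    (n := 12) hq2 (by norm_num) (by norm_num) (by omega)
  have hcard : 1 * Nat.card (twistedD4 K q) = q ^ 12 * ((q ^ 2 - 1) * (q ^ 6 - 1)) * (q ^ 8 + q ^ 4 + 1) := by
    rw [Cfsg.Agent.S1067.result hq hK]; ring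
  have htZ : t ∣ q ^ 8 + q ^ 4 + 1 := by
    have h1 : q ^ 12 - 1 = (q ^ 4 - 1) * (q ^ 8 + q ^ 4 + 1) := by
      zify
      rw [cast_pred (by omega), cast_pred (by omega)]
      ring
    have h2 : t ∣ q ^ 12 - 1 := (hprim _).2 dvd_rfl
    rw [h1] at h2
    refine (ht.dvd_mul.1 h2).resolve_left ?_
    rw [hprim]
    norm_num
  have hP : ¬ t ∣ Nat.card (PS (T K q) (X φ q) (Ge cs isCartan th)) := by
    refine not_dvd_P ht (by rw [hPN]; exact hcard) (poly_3D4 (by omega)) (by positivity)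
      (not_dvd_pow ht htq) ?_ ?_
    · simp only [ht.dvd_mul, hprim]; omega
    · rw [hprim]; omega
  have htY : t ∣ Nat.card (twistedD4 K q) := by
    rw [← one_mul (Nat.card (twistedD4 K q)), hcard]
    exact dvd_mul_of_dvd_right htZ _
  obtain ⟨w, hw⟩ := (Tb.orbit (sr 0)).1 (by
    rw [List.mem_toFinset]
    decide +kernel)
  have hw' : rep cs isCartan w⁻¹ (sr 0) = th := by
    rw [← hw, rep_inv_apply]
  have htp : t ≠ p := by
    refine ne_char (K := K) p ?_
    rw [hK]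
    exact not_dvd_pow ht htq
  refine RootLie.lieGood_of_lr hG L hd ht htp hP htY hw' ?_ hc1
  rw [hcX]
  show ¬ t ∣ q ^ 1 + 1
  rw [pow_one]
  exact not_dvd_succ hq2 ht (by norm_num) hprim

theorem lieGood_twisted {G : Type*} [Group G] {p : ℕ} (hp : p.Prime) (h : IsTwistedE6D4Char p G) :
    LieGood G p := by
  have : Fact p.Prime := ⟨hp⟩
  obtain ⟨K, _, _, _, q, hq, ⟨hK, ⟨e⟩⟩ | ⟨hK, ⟨e⟩⟩⟩ := h
  · exact (lieGood_2E6 p hq hK).mulEquiv e.symm
  · exact (lieGood_3D4 p hq hK).mulEquiv e.symm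

theorem rows_twisted {G : Type*} [Group G] [Finite G] [IsSimpleGroup G] {p : ℕ} (hp : p.Prime)
    (h : IsTwistedE6D4Char p G) : RowClass.Rows G :=
  RowClass.rows_of_lieGood hp (Or.inr (Or.inr (Or.inr (Or.inr (Or.inr (Or.inr (Or.inr (Or.inl h))))))))
    (lieGood_twisted hp h)

end Cfsg.Agent.H620.RowTwD
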