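import Cfsg.Agent.H620.RowClass
import Cfsg.Agent.H620.RowChev
import Cfsg.Agent.H620.RowTwD
import Cfsg.Agent.H620.RowSz
import Cfsg.Agent.H620.RowRee
import Cfsg.Agent.H620.RowTwF
import Cfsg.Agent.H620.RowSporA
import Cfsg.Agent.H620.RowSporB
import Cfsg.Agent.H620.RowSporC
import Cfsg.Agent.H620.RowHe
import Cfsg.Agent.H620.RowLy
import Cfsg.Agent.H620.ONVan
import Cfsg.Agent.H620.RowHN
import Cfsg.Agent.OddHalf.Known

/-!
# All the rows (helper620)
-/

set_option autoImplicit false

namespace Cfsg.Agent.H620.RowsAll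

open Cfsg Cfsg.Agent.H620 Cfsg.Agent.H620.RowClass

universe u

variable {K : Type u} [Group K] [Finite K]

theorem rows_spor (hS : Cfsg.Agent.H690.Spor.Trans.AllKnown) (h : IsSporadicGroup K) : Rows K := by
  rcases h with h | h | h | h | h | h | h | h | h | h | h | h | h | h | h | h | h | h | h | h | h |
    h | h | h | h | h
  · exact RowSporA.rows_m11 h
  · exact RowSporA.rows_m12 h
  · exact RowSporA.rows_m22 h
  · exact RowSporA.rows_m23 h
  · exact RowSporA.rows_m24 h
  · exact RowSporA.rows_j1 h
  · exact RowSporB.rows_j2 h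
  · exact RowSporB.rows_j3 h
  · exact RowSporB.rows_j4 h
  · exact RowSporC.rows_co1 h
  · exact RowSporB.rows_co2 h
  · exact RowSporB.rows_co3 h
  · exact RowSporA.rows_mcl h
  · exact RowSporA.rows_hs h
  · exact RowSporB.rows_suz h
  · exact RowHe.rows_he h
  · exact RowSporB.rows_ru h
  · exact rows_on h
  · exact RowLy.rows_ly h
  · exact RowSporB.rows_fi22 h
  · exact RowSporB.rows_fi23 h
  · exact RowSporB.rows_fi24 h
  · exact RowHN.rows_hn h
  · exact RowSporC.rows_th h
  · exact RowSporB.rows_b hS h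
  · exact RowSporB.rows_m h

theorem rows_lie [IsSimpleGroup K] {p : ℕ} (hp : p.Prime) (h : IsLieTypeChar p K) : Rows K := by
  rcases h with h | h | h | h | h | h | h | h | h | h | h
  · exact rows_isPSL hp h
  · exact rows_isPSp hp h
  · exact rows_isPSU hp h
  · exact rows_isPOmegaOdd hp h
  · exact rows_isPOmegaPlus hp h
  · exact rows_isPOmegaMinus hp h
  · exact RowChev.rows_exceptional hp h
  · exact RowTwD.rows_twisted hp h
  · exact RowSz.rows_suzuki h.2
  · exact RowTwF.rows_twF h.2
  · exact RowRee.rows_ree h.2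

/-- **The rows of the known simple groups.** -/
theorem rows_of_known [IsSimpleGroup K] (hS : Cfsg.Agent.H690.Spor.Trans.AllKnown)
    (hna : ¬ IsMulCommutative K) (h : IsKnownSimple' K) : Rows K := by
  rcases Cfsg.Agent.OddHalf.Known.classify' hna h with h | ⟨p, hp, h⟩ | h | h
  · exact rows_isAlternating h
  · exact rows_lie hp h
  · exact RowSporB.rows_tits h
  · exact rows_spor hS h

end Cfsg.Agent.H620.RowsAll
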