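import Cfsg.Agent.H620.Top
import Cfsg.Agent.H620.RowsAll

/-!
# S4556 and S4557 from the classification (helper620)
-/

set_option autoImplicit false

namespace Cfsg.Agent.H620.Main

open Cfsg Cfsg.Agent.H620 Cfsg.Agent.H620.RowClass Cfsg.Agent.H713

universe u

theorem rows (hS : Cfsg.Agent.H690.Spor.Trans.AllKnown)
    (hkn : ∀ (S : Type u) [Group S] [Finite S] [IsSimpleGroup S], IsKnownSimple' S)
    (S : Type u) [Group S] [Finite S] [IsSimpleGroup S] (hna : ∃ a b : S, a * b ≠ b * a) : Rows S := by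
  refine RowsAll.rows_of_known hS ?_ (hkn S)
  intro h
  obtain ⟨a, b, hab⟩ := hna
  exact hab (h.is_comm.comm a b)

/-- S4556 from the classification. -/
theorem exists_compl (hS : Cfsg.Agent.H690.Spor.Trans.AllKnown)
    (hkn : ∀ (S : Type u) [Group S] [Finite S] [IsSimpleGroup S], IsKnownSimple' S)
    {G : Type u} [Group G] [Finite G] (p : ℕ) [Fact p.Prime]
    (h : ∀ g : G, (∃ χ : IrrCharacter G, (χ : G → ℂ) g = 0) → p ∣ orderOf g) :
    ∃ (P : Sylow p G) (N : Subgroup G),
      N.Normal ∧ Group.IsNilpotent N ∧ N.IsComplement' (P : Subgroup G) :=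
  compl_of_row56 (fun S _ _ _ hna => (rows hS hkn S hna).1) p h

/-- S4557 from the classification. -/
theorem isSolvable (hS : Cfsg.Agent.H690.Spor.Trans.AllKnown)
    (hkn : ∀ (S : Type u) [Group S] [Finite S] [IsSimpleGroup S], IsKnownSimple' S)
    {G : Type u} [Group G] [Finite G] (p q : ℕ) (hp : p.Prime) (hq : q.Prime)
    (h : ∀ g : G, (∃ χ : IrrCharacter G, (χ : G → ℂ) g = 0) → ∃ a b : ℕ, orderOf g = p ^ a * q ^ b) :
    Group.IsSolvable G :=
  solvable_of_row57 (fun S _ _ _ hna => (rows hS hkn S hna).2) p q hp hq h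

end Cfsg.Agent.H620.Main
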