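import Cfsg.Agent.H620.ONStruct
import Cfsg.Agent.UGT.C.BalONInv

/-!
# Elements of order 16 of the O'Nan group (helper620)

An element `x` of order 16 is not conjugate to `x ^ 3`.
-/

set_option autoImplicit false
set_option maxRecDepth 100000

namespace Cfsg.Agent.H620.ONSixteen

open Cfsg Subgroup
open Cfsg.Spor (ON)
open Cfsg.Spor.ON (Gen)
open Cfsg.Agent.SporadicB.ON45Word (on)
open Cfsg.Agent.KFacts.ON.Words (hs vv v)
open Cfsg.Agent.KFacts.ON.Struct
open Cfsg.Agent.UGT.C.BalONTab Cfsg.Agent.UGT.C.BalONInv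
open Cfsg.Agent.H620.ONStruct

/-- `(c, u, r)`: `u c u⁻¹ = r` for the codes `c` of order 16 -/
def tl : List (ℕ × ℕ × ℕ) := [
(384, 0, 384), (385, 2, 384), (386, 10, 384), (387, 8, 384), (388, 0, 388), (389, 2, 388), (390, 10, 388),
(391, 8, 388), (392, 42, 388), (393, 40, 388), (394, 32, 388), (395, 34, 388), (396, 40, 384), (397, 42, 384),
(398, 34, 384), (399, 32, 384), (400, 162, 388), (401, 160, 388), (402, 168, 388), (403, 170, 388), (404, 162,
384), (405, 160, 384), (406, 168, 384), (407, 170, 384), (408, 130, 384), (409, 128, 384), (410, 136, 384),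
(411, 138, 384), (412, 128, 388), (413, 130, 388), (414, 138, 388), (415, 136, 388), (416, 64, 384), (417, 66,
384), (418, 74, 384), (419, 72, 384), (420, 64, 388), (421, 66, 388), (422, 74, 388), (423, 72, 388), (424,
104, 388), (425, 106, 388), (426, 98, 388), (427, 96, 388), (428, 106, 384), (429, 104, 384), (430, 96, 384),
(431, 98, 384), (432, 224, 388), (433, 226, 388), (434, 234, 388), (435, 232, 388), (436, 224, 384), (437,
226, 384), (438, 234, 384), (439, 232, 384), (440, 194, 384), (441, 192, 384), (442, 200, 384), (443, 202,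
384), (444, 192, 388), (445, 194, 388), (446, 202, 388), (447, 200, 388), (448, 0, 448), (449, 2, 448), (450,
8, 448), (451, 10, 448), (452, 0, 452), (453, 2, 452), (454, 8, 452), (455, 10, 452), (456, 24, 452), (457,
26, 452), (458, 16, 452), (459, 18, 452), (460, 26, 448), (461, 24, 448), (462, 18, 448), (463, 16, 448),
(464, 194, 452), (465, 192, 452), (466, 202, 452), (467, 200, 452), (468, 194, 448), (469, 192, 448), (470,
202, 448), (471, 200, 448), (472, 210, 448), (473, 208, 448), (474, 218, 448), (475, 216, 448), (476, 208,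
452), (477, 210, 452), (478, 216, 452), (479, 218, 452), (480, 74, 448), (481, 72, 448), (482, 66, 448), (483,
64, 448), (484, 74, 452), (485, 72, 452), (486, 66, 452), (487, 64, 452), (488, 80, 452), (489, 82, 452),
(490, 88, 452), (491, 90, 452), (492, 82, 448), (493, 80, 448), (494, 90, 448), (495, 88, 448), (496, 130,
452), (497, 128, 452), (498, 138, 452), (499, 136, 452), (500, 130, 448), (501, 128, 448), (502, 138, 448),
(503, 136, 448), (504, 144, 448), (505, 146, 448), (506, 152, 448), (507, 154, 448), (508, 146, 452), (509,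
144, 452), (510, 154, 452), (511, 152, 452)]

def reps16 : List ℕ := [384, 388, 448, 452]

theorem tl_ok : (tl.all fun e => Nat.beq (mu e.2.1 e.1) (mu e.2.2 e.2.1) && (Nat.blt e.2.1 512 &&
  (reps16.any fun r => Nat.beq r e.2.2))) = true := by decide +kernel

theorem tl_all : ∀ c < 512, mu (mu (mu c c) (mu c c)) (mu (mu c c) (mu c c)) = 0 ∨
    (tl.any fun e => Nat.beq e.1 c) = true := by decide +kernel

theorem no_cube : ∀ r ∈ reps16, ∀ g < 512, mu g r ≠ mu (mu (mu r r) r) g := by decide +kernel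

theorem reps16_lt : ∀ r ∈ reps16, r < 512 := by decide

theorem m16 : mu (mu (mu 384 384) (mu 384 384)) (mu (mu 384 384) (mu 384 384)) = 1 := by decide +kernel
theorem m4 : mu 4 4 = 1 := by decide +kernel
theorem m8 : mu (mu 8 8) (mu 8 8) = 0 := by decide +kernel

theorem E_sq {c : ℕ} (hc : c < 512) : E c * E c = E (mu c c) := E_mul hs hc c

theorem E_four {c : ℕ} (hc : c < 512) : E c ^ 4 = E (mu (mu c c) (mu c c)) := by
  have h1 := mu_lt hs hc c
  rw [show (4 : ℕ) = 2 * 2 by norm_num, pow_mul, pow_two, pow_two, E_sq hc, E_sq h1]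

theorem E_eight {c : ℕ} (hc : c < 512) :
    E c ^ 8 = E (mu (mu (mu c c) (mu c c)) (mu (mu c c) (mu c c))) := by
  have h1 := mu_lt hs hc c
  have h2 := mu_lt hs h1 (mu c c)
  rw [show (8 : ℕ) = 4 * 2 by norm_num, pow_mul, E_four hc, pow_two, E_sq h2]

theorem E_cube {c : ℕ} (hc : c < 512) : E c ^ 3 = E (mu (mu c c) c) := by
  have h1 := mu_lt hs hc c
  rw [pow_succ, pow_two, E_sq hc, E_mul hs h1]

theorem orderOf_x16 : orderOf (E 384) = 16 := by
  have h8 : E 384 ^ 8 = on .f := by rw [E_eight (by norm_num), m16, E_one]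
  have h : orderOf (E 384) = 2 ^ (3 + 1) := orderOf_eq_prime_pow (by
    rw [show 2 ^ 3 = 8 by norm_num, h8]
    exact f_ne_one) (by
    rw [show 2 ^ (3 + 1) = 8 * 2 by norm_num, pow_mul, h8, pow_two]
    exact ff)
  rw [h]
  norm_num

/-- no cube in `T` -/
theorem no_cube_T {x k : ON} (hx : x ∈ T) (hk : k ∈ T) (h8 : x ^ 8 ≠ 1) : k * x ≠ x ^ 3 * k := by
  intro h
  obtain ⟨c, hc, rfl⟩ := exists_E hs hx
  have h1 : mu (mu (mu c c) (mu c c)) (mu (mu c c) (mu c c)) ≠ 0 := by
    intro h2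
    apply h8
    rw [E_eight hc, h2, E_zero]
  obtain ⟨e, he, hec⟩ := List.any_eq_true.1 ((tl_all c hc).resolve_left h1)
  have hec : e.1 = c := Nat.eq_of_beq_eq_true hec
  have hok := List.all_eq_true.1 tl_ok e he
  rw [Bool.and_eq_true, Bool.and_eq_true] at hok
  obtain ⟨c1, c2, c3⟩ := hok
  have c1 := Nat.eq_of_beq_eq_true c1
  have c2 : e.2.1 < 512 := Nat.blt_eq.mp c2
  obtain ⟨r, hr, hre⟩ := List.any_eq_true.1 c3
  have hre : r = e.2.2 := Nat.eq_of_beq_eq_true hre
  rw [hec, ← hre] at c1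
  have hr5 : r < 512 := reps16_lt r hr
  set u := E e.2.1 with hu
  have hur : u * E c = E r * u := by rw [hu, E_mul hs c2, E_mul hs hr5, c1]
  have hkr : (u * k * u⁻¹) * E r = E r ^ 3 * (u * k * u⁻¹) := by
    have h2 : E r = u * E c * u⁻¹ := by rw [hur, mul_inv_cancel_right]
    rw [h2, conj_pow]
    calc u * k * u⁻¹ * (u * E c * u⁻¹) = u * (k * E c) * u⁻¹ := by group
      _ = u * (E c ^ 3 * k) * u⁻¹ := by rw [h]
      _ = u * E c ^ 3 * u⁻¹ * (u * k * u⁻¹) := by group
  have hT : u * k * u⁻¹ ∈ T := T.mul_mem (T.mul_mem (E_mem _) hk) (T.inv_mem (E_mem _))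
  obtain ⟨g, hg, hg'⟩ := exists_E hs hT
  rw [hg', E_cube hr5, E_mul hs hg, E_mul hs (mu_lt hs (mu_lt hs hr5 r) r)] at hkr
  exact no_cube r hr g hg (E_inj hs (mu_lt hs hg r) (mu_lt hs (mu_lt hs (mu_lt hs hr5 r) r) g) hkr)

theorem factorization_two : (Nat.card ON).factorization 2 = 9 := by
  have h0 : Nat.card ON ≠ 0 := Nat.card_pos.ne'
  have h1 : 9 ≤ (Nat.card ON).factorization 2 :=
    (Nat.prime_two.pow_dvd_iff_le_factorization h0).1 (by rw [card_ON]; norm_num)
  have h2 : ¬ 10 ≤ (Nat.card ON).factorization 2 := fun h =>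
    absurd ((Nat.prime_two.pow_dvd_iff_le_factorization h0).2 h) (by rw [card_ON]; norm_num)
  omega

/-- A 2-subgroup is conjugate into `T`. -/
theorem exists_conj_T {Q : Subgroup ON} (hQ : IsPGroup 2 Q) : ∃ h : ON, ∀ q ∈ Q, h * q * h⁻¹ ∈ T := by
  have : Fact (Nat.Prime 2) := ⟨Nat.prime_two⟩
  obtain ⟨P, hP⟩ := hQ.exists_le_sylow
  let S : Sylow 2 ON := Sylow.ofCard T (by
    rw [factorization_two]
    exact Cfsg.Agent.Schreier.ONTr.card_T hs)
  obtain ⟨h, hh⟩ := MulAction.exists_smul_eq ON P S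
  refine ⟨h, fun q hq => ?_⟩
  have h1 : h * q * h⁻¹ ∈ ((h • P : Sylow 2 ON) : Subgroup ON) := ⟨q, hP hq, rfl⟩
  rw [hh] at h1
  exact h1

theorem not_conj : ¬ IsConj (E 384) (E 384 ^ 3) := by
  intro hc
  obtain ⟨k, hk⟩ := isConj_iff.1 hc
  set x := E 384 with hx
  have hx16 : orderOf x = 16 := orderOf_x16
  have hpow : ∀ j : ℕ, k ^ j * x * (k ^ j)⁻¹ = x ^ (3 ^ j) := by
    intro j
    induction j with
    | zero => simp
    | succ j ih =>
      have h1 : k ^ (j + 1) * x * (k ^ (j + 1))⁻¹ = k * (k ^ j * x * (k ^ j)⁻¹) * k⁻¹ := by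
        rw [pow_succ']
        group
      rw [h1, ih, ← conj_pow, hk, ← pow_mul, pow_succ']
  obtain ⟨a, m, hm, hkm⟩ := Nat.exists_eq_two_pow_mul_odd (orderOf_pos k).ne'
  set k' := k ^ (m * m) with hk'
  have hk2 : k' ^ 2 ^ a = 1 := by
    rw [hk', ← pow_mul, show m * m * 2 ^ a = orderOf k * m by rw [hkm]; ring, pow_mul, pow_orderOf_eq_one,
      one_pow]
  have hk3 : k' * x * k'⁻¹ = x ^ 3 := by
    rw [hk', hpow, pow_eq_pow_iff_modEq, hx16]
    obtain ⟨b, hb⟩ := hm
    have h1 : m * m = 4 * (b * b + b) + 1 := by rw [hb]; ring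
    rw [h1, pow_succ, pow_mul]
    have h2 : (3 ^ 4) ^ (b * b + b) * 3 ≡ 1 ^ (b * b + b) * 3 [MOD 16] :=
      (Nat.ModEq.pow _ (by decide : 3 ^ 4 ≡ 1 [MOD 16])).mul_right 3
    rwa [one_pow, one_mul] at h2
  have hp1 : IsPGroup 2 (zpowers k') := by
    intro ⟨z, hz⟩
    obtain ⟨i, rfl⟩ := hz
    refine ⟨a, Subtype.ext ?_⟩
    show (k' ^ i) ^ 2 ^ a = 1
    rw [← zpow_natCast, ← zpow_mul, mul_comm, zpow_mul, zpow_natCast, hk2, one_zpow]
  have hp2 : IsPGroup 2 (zpowers x) := IsPGroup.of_card (n := 4) (by rw [Nat.card_zpowers, hx16]; norm_num)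
  have hnorm : zpowers k' ≤ Subgroup.normalizer ((zpowers x : Subgroup ON) : Set ON) := by
    rw [zpowers_le]
    refine Subgroup.mem_normalizer_fintype fun n hn => ?_
    obtain ⟨i, rfl⟩ := hn
    show k' * x ^ i * k'⁻¹ ∈ zpowers x
    rw [← conj_zpow, hk3]
    exact zpow_mem (pow_mem (mem_zpowers x) 3) i
  have hQ : IsPGroup 2 (zpowers k' ⊔ zpowers x : Subgroup ON) := hp1.to_sup_of_normal_right' hp2 hnorm
  obtain ⟨h, hh⟩ := exists_conj_T hQ
  have h1 := hh x (mem_sup_right (mem_zpowers x))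
  have h2 := hh k' (mem_sup_left (mem_zpowers k'))
  refine no_cube_T h1 h2 ?_ ?_
  · intro h3
    rw [conj_pow] at h3
    have h4 : x ^ 8 = 1 := by
      calc x ^ 8 = h⁻¹ * (h * x ^ 8 * h⁻¹) * h := by group
        _ = 1 := by rw [h3]; group
    have h5 := orderOf_dvd_of_pow_eq_one h4
    rw [hx16] at h5
    norm_num at h5
  · rw [conj_pow, ← hk3]
    group

end Cfsg.Agent.H620.ONSixteen
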