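import Cfsg.Agent.GTwoRows.ON
import Cfsg.Agent.CpAut.SmallP.PslFour
import Cfsg.Agent.BpSpor.HeThree
import Cfsg.Agent.CpAutON.Seven
import Cfsg.Agent.LieClassical.FieldTransfer
import Cfsg.Agent.H710.VanCount
import Cfsg.Agent.S1170
import Cfsg.Agent.H291.RowsF

/-!
# Elements of order 20 of the O'Nan group (helper620)

`J = C(v)`, `v` of order 4, `J / ⟨v⟩ = L₃(4)`.
-/

set_option autoImplicit false
set_option maxRecDepth 100000

namespace Cfsg.Agent.H620.ONStruct

open Cfsg Subgroup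
open Cfsg.Spor (ON)
open Cfsg.Spor.ON (Gen)
open Cfsg.Agent.SporadicB.ON45Word (on)
open Cfsg.Agent.ONType.TupK (K0)
open Cfsg.Agent.ONType.Psl (PSL3)
open Cfsg.Agent.ONType.PslCard (card_PSL3)
open Cfsg.Agent.KFacts.ON.Words (hs vv v)
open Cfsg.Agent.KFacts.ON.Struct
open Cfsg.Agent.CpAutON.Codes (v_four v_mem_K0)

theorem card_ON : Nat.card ON = 460815505920 := Cfsg.Agent.KFacts.ON.OneClass.card_ON

instance finite_ON : Finite ON := Nat.finite_of_card_ne_zero (by rw [card_ON]; norm_num)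

theorem orderOf_v : orderOf v = 4 := by
  have h : orderOf v = 2 ^ (1 + 1) := orderOf_eq_prime_pow (by
    rw [pow_one, pow_two, vv]
    exact f_ne_one) v_four
  rw [h]
  norm_num

theorem orderOf_f : orderOf (on .f) = 2 := orderOf_eq_prime (by rw [pow_two]; exact ff) f_ne_one

theorem mem_center {x : ↥J} : x ∈ center ↥J ↔ (x : ON) ∈ zpowers v := by
  constructor
  · intro h
    apply cent_J
    intro y hy
    exact (congrArg Subtype.val (Subgroup.mem_center_iff.1 h ⟨y, hy⟩)).symm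
  · rintro ⟨k, hk⟩
    rw [Subgroup.mem_center_iff]
    rintro ⟨y, hy⟩
    apply Subtype.ext
    show y * (x : ON) = x * y
    rw [← hk]
    exact ((show Commute y v from mem_J.1 hy).zpow_right k).eq

theorem card_center : Nat.card (center ↥J) = 4 := by
  rw [← orderOf_v, ← Nat.card_zpowers]
  have hle : zpowers v ≤ J := by
    rw [zpowers_le]
    exact vJ
  refine Nat.card_congr
    { toFun := fun x => ⟨((x : ↥J) : ON), mem_center.1 x.2⟩
      invFun := fun x => ⟨⟨(x : ON), hle x.2⟩, mem_center.2 x.2⟩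
      left_inv := fun x => rfl
      right_inv := fun x => rfl }

/-- `J → L₃(4)` -/
theorem exists_pi : ∃ π : ↥J →* PSL3, Function.Surjective π ∧ π.ker = center ↥J := by
  obtain ⟨F, _, _, hF, ⟨e⟩⟩ := Cfsg.Agent.GTwoRows.ONQuot.quot Cfsg.Agent.S1170.result
  have e4 : F ≃+* SporadicA.FieldFour.F4 :=
    FiniteField.ringEquivOfCardEq (by rw [hF, CTwoTab.He.card_F4])
  let e' : (↥J ⧸ center ↥J) ≃* PSL3 := e.trans (LieClassical.FieldTransfer.pslCongr e4)
  refine ⟨(e' : (↥J ⧸ center ↥J) →* PSL3).comp (QuotientGroup.mk' (center ↥J)), ?_, ?_⟩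
  · rw [MonoidHom.coe_comp]
    exact e'.surjective.comp (QuotientGroup.mk'_surjective _)
  · ext x
    rw [MonoidHom.mem_ker, MonoidHom.comp_apply]
    constructor
    · intro h
      have h1 : QuotientGroup.mk' (center ↥J) x = 1 := e'.injective (by rw [map_one]; exact h)
      exact (QuotientGroup.eq_one_iff x).1 h1
    · intro h
      have h1 : QuotientGroup.mk' (center ↥J) x = 1 := (QuotientGroup.eq_one_iff x).2 h
      rw [h1, map_one]

theorem orderOf_pi {π : ↥J →* PSL3} (hk : π.ker = center ↥J) {p : ℕ} (hp : p.Prime) (hp2 : p ≠ 2) {y : ON} (hy : y ∈ J)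
    (ho : orderOf y = p) : orderOf (π ⟨y, hy⟩) = p := by
  have h1 : orderOf (⟨y, hy⟩ : ↥J) = p := by rw [Subgroup.orderOf_mk, ho]
  have h2 : orderOf (π ⟨y, hy⟩) ∣ p := h1 ▸ orderOf_map_dvd π _
  rcases (Nat.dvd_prime hp).1 h2 with h3 | h3
  · exfalso
    rw [orderOf_eq_one_iff, ← MonoidHom.mem_ker, hk] at h3
    have h4 : orderOf (⟨⟨y, hy⟩, h3⟩ : center ↥J) ∣ Nat.card (center ↥J) := orderOf_dvd_natCard _
    rw [Subgroup.orderOf_mk, h1, card_center] at h4
    have h5 : p ∣ 2 ^ 2 := h4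
    exact hp2 ((Nat.prime_dvd_prime_iff_eq hp Nat.prime_two).1 (hp.dvd_of_dvd_pow h5))
  · exact h3

/-- The elements `v y`. -/
theorem pow_vy {y : ON} (hy : y ∈ J) (ho : orderOf y = 5) : (v * y) ^ 5 = v ∧ (v * y) ^ 16 = y := by
  have hc : Commute v y := (mem_J.1 hy).symm
  have h4 := v_four
  have h5 : y ^ 5 = 1 := by rw [← ho]; exact pow_orderOf_eq_one y
  constructor
  · rw [hc.mul_pow, h5, mul_one, pow_succ, h4, one_mul]
  · rw [hc.mul_pow, show (16 : ℕ) = 4 * 4 by norm_num, pow_mul, h4, one_pow, one_mul,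
      show (4 * 4 : ℕ) = 5 * 3 + 1 by norm_num, pow_succ, pow_mul, h5, one_pow, one_mul]

theorem orderOf_vy {y : ON} (hy : y ∈ J) (ho : orderOf y = 5) : orderOf (v * y) = 20 := by
  have hc : Commute v y := (mem_J.1 hy).symm
  rw [hc.orderOf_mul_eq_mul_orderOf_of_coprime (by rw [orderOf_v, ho]; norm_num), orderOf_v, ho]

theorem card_cent_vy {y : ON} (hy : y ∈ J) (ho : orderOf y = 5) :
    Nat.card (centralizer ({v * y} : Set ON)) ≤ 20 := by
  obtain ⟨π, -, hk⟩ := exists_pi
  obtain ⟨h1, h2⟩ := pow_vy hy ho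
  set x := v * y with hx
  have hJ : centralizer ({x} : Set ON) ≤ J := by
    intro c hc
    rw [mem_centralizer_singleton_iff] at hc
    rw [mem_J, ← h1]
    exact (show Commute c x from hc).pow_right 5
  have hy' : ∀ c ∈ centralizer ({x} : Set ON), c * y = y * c := by
    intro c hc
    rw [mem_centralizer_singleton_iff] at hc
    rw [← h2]
    exact (show Commute c x from hc).pow_right 16
  set D : Subgroup ↥J := (centralizer ({x} : Set ON)).subgroupOf J with hD
  have hcard : Nat.card (centralizer ({x} : Set ON)) = Nat.card D :=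
    (Nat.card_congr (subgroupOfEquivOfLe hJ).toEquiv).symm
  set ρ : ↥D →* PSL3 := π.comp D.subtype with hρ
  have hDk : ρ.ker.index = Nat.card (D.map π) := by
    rw [Subgroup.index_ker, hρ, MonoidHom.range_comp, Subgroup.range_subtype]
  have h3 : Nat.card (D.map π) ≤ 5 := by
    rw [← Cfsg.Agent.BpSpor.LFour.card_five (orderOf_pi hk (by norm_num) (by norm_num) hy ho)]
    refine Nat.card_le_card_of_injective (Subgroup.inclusion ?_) (Subgroup.inclusion_injective _)
    rintro _ ⟨d, hd, rfl⟩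
    rw [mem_centralizer_singleton_iff, ← map_mul, ← map_mul]
    exact congrArg π (Subtype.ext (hy' _ hd))
  have h4 : Nat.card ρ.ker ≤ 4 := by
    rw [← card_center]
    refine Nat.card_le_card_of_injective (fun z : ρ.ker => (⟨((z : D) : ↥J), ?_⟩ : center ↥J)) ?_
    · rw [← hk]
      exact z.2
    · intro a b hab
      have h5 : ((a : D) : ↥J) = ((b : D) : ↥J) :=
        congrArg (fun z : center ↥J => (z : ↥J)) hab
      exact Subtype.ext (Subtype.ext h5)
  rw [hcard, ← ρ.ker.card_mul_index, hDk]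
  calc _ ≤ 4 * 5 := Nat.mul_le_mul h4 h3
    _ = 20 := by norm_num

end Cfsg.Agent.H620.ONStruct
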