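import Cfsg.Agent.H620.PNRows
import Cfsg.Agent.H620.PNAlt
import Cfsg.Agent.S0252
import Cfsg.Agent.S0254

/-!
# S4555 and S4559: the alternating groups and the assembly (helper620)

* `alt_pow`, `alt_ord` : the rows of the alternating groups (the group `A_6` for `p = 2` by the row
  of `PSL_2(9)`);
* `s4555_rows`, `s4559_rows` : the two statements from `LieRows`, `SporRows`, Ito-Michler and the
  classification.
-/

set_option autoImplicit false

namespace Cfsg.Agent.H620.PNAsm

open Cfsg Cfsg.Agent.H387.VO Cfsg.Agent.H620.PNorm Cfsg.Agent.H620.PNRows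

universe u

theorem alt_five_lie {S : Type*} [Group S] (e : S ≃* alternatingGroup (Fin 5)) : IsLieTypeChar 2 S := by
  have : Fact (Nat.Prime 2) := ⟨Nat.prime_two⟩
  have : Fintype (GaloisField 2 2) := Fintype.ofFinite _
  have hc : Fintype.card (GaloisField 2 2) = 4 := by
    rw [← Nat.card_eq_fintype_card, GaloisField.card 2 2 (by norm_num)]; norm_num
  obtain ⟨f⟩ := Cfsg.Agent.S0252.result hc
  exact Or.inl ⟨GaloisField 2 2, inferInstance, inferInstance, inferInstance, 2, le_rfl, fun _ => by omega,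
    ⟨e.trans f.symm⟩⟩

theorem alt_six_psl {S : Type*} [Group S] (e : S ≃* alternatingGroup (Fin 6)) : IsPSLChar 3 S := by
  have : Fact (Nat.Prime 3) := ⟨Nat.prime_three⟩
  have : Fintype (GaloisField 3 2) := Fintype.ofFinite _
  have hc : Fintype.card (GaloisField 3 2) = 9 := by
    rw [← Nat.card_eq_fintype_card, GaloisField.card 3 2 (by norm_num)]; norm_num
  obtain ⟨f⟩ := Cfsg.Agent.S0254.result hc
  exact ⟨GaloisField 3 2, inferInstance, inferInstance, inferInstance, 2, le_rfl, fun _ => by omega,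
    ⟨e.trans f.symm⟩⟩

theorem alt_six_lie {S : Type*} [Group S] (e : S ≃* alternatingGroup (Fin 6)) : IsLieTypeChar 3 S :=
  Or.inl (alt_six_psl e)

/-- `p` divides the order of `A_n` exactly once if `p ≤ n < 2 p`. -/
theorem factorization_alt {n p : ℕ} (hp : p.Prime) (hp2 : p ≠ 2) (hn2 : 2 ≤ n)
    (hd : p ∣ Nat.card (alternatingGroup (Fin n))) (h : n < 2 * p) :
    (Nat.card (alternatingGroup (Fin n))).factorization p = 1 := by
  have : Nontrivial (Fin n) := Fin.nontrivial_iff_two_le.2 hn2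
  have hcard : 2 * Nat.card (alternatingGroup (Fin n)) = n.factorial := by
    have h := two_mul_nat_card_alternatingGroup (α := Fin n)
    rw [h, Nat.card_perm, Nat.card_eq_fintype_card, Fintype.card_fin]
  have hp3 : 3 ≤ p := by
    have := hp.two_le
    omega
  have hpn : p ≤ n := by
    rw [← hp.dvd_factorial, ← hcard]
    exact hd.mul_left 2
  have h1 : (n.factorial).factorization p = 1 := by
    rw [Nat.factorization_factorial hp (b := 2) (by
      rw [Nat.log_lt_iff_lt_pow hp.one_lt (by omega)]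
      nlinarith)]
    have : Finset.Ico 1 2 = {1} := by decide
    rw [this, Finset.sum_singleton, pow_one]
    rw [Nat.div_eq_iff hp.pos]
    omega
  rw [← hcard, Nat.factorization_mul (by norm_num) Nat.card_pos.ne'] at h1
  have h2 : (2 : ℕ).factorization p = 0 := Nat.factorization_eq_zero_of_lt (by omega)
  simpa [h2] using h1

/-- The alternating groups, odd primes. -/
theorem alt_ord {p : ℕ} [hp : Fact p.Prime] (hp2 : p ≠ 2) (hIM : H33.Core.{u} p)
    (hkn : ∀ (S : Type u) [Group S] [Finite S] [IsSimpleGroup S], IsKnownSimple' S)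
    {n : ℕ} {K : Type u} [Group K] [Finite K] [IsSimpleGroup K] (hn : 5 ≤ n)
    (e : Nonempty (K ≃* alternatingGroup (Fin n))) (hna : ¬ IsMulCommutative K) (hd : p ∣ Nat.card K) :
    VOrdP p K := by
  obtain ⟨e⟩ := e
  have hp3 : 3 ≤ p := by
    have := hp.out.two_le
    omega
  have hd' := hd
  rw [Nat.card_congr e.toEquiv] at hd'
  by_cases h : n < 2 * p
  · have h1 := factorization_alt hp.out hp2 (by omega) hd' h
    rw [← Nat.card_congr e.toEquiv] at h1
    exact vOrdP_of_kill (kill_of_im (hIM K inferInstance (hkn K) hna hd) h1) hd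
  · by_cases h7 : 7 ≤ n
    · exact (PNAlt.vOrdP_alt h7 hp.out hp2 (by omega)).mulEquiv e.symm
    · have h6 : n = 6 := by omega
      have h3 : p = 3 := by omega
      subst h6 h3
      exact vOrdP_of_kill (Own.kill_of_lie hp.out (alt_six_lie e)) hd

/-- The alternating groups, `p = 2`. -/
theorem alt_two (hpsl : ∀ (K : Type u) [Group K] [Finite K] [IsSimpleGroup K] (r : ℕ), r.Prime → 2 ≠ r →
      IsPSLChar r K → 2 ∣ Nat.card K → VPow 2 K)
    {n : ℕ} {K : Type u} [Group K] [Finite K] [IsSimpleGroup K] (hn : 5 ≤ n)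
    (e : Nonempty (K ≃* alternatingGroup (Fin n))) (hd : 2 ∣ Nat.card K) :
    VPow 2 K := by
  have : Fact (Nat.Prime 2) := ⟨Nat.prime_two⟩
  obtain ⟨e⟩ := e
  by_cases h7 : 7 ≤ n
  · exact (PNAlt.vPow_two_alt h7).mulEquiv e.symm
  · have h6 : n = 5 ∨ n = 6 := by omega
    rcases h6 with rfl | rfl
    · exact (vOrdP_of_kill (Own.kill_of_lie Nat.prime_two (alt_five_lie e)) hd).vPow
    · exact hpsl K 3 Nat.prime_three (by norm_num) (alt_six_psl e) hd

theorem alt_pow {p : ℕ} [hp : Fact p.Prime] (hIM : H33.Core.{u} p)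
    (hkn : ∀ (S : Type u) [Group S] [Finite S] [IsSimpleGroup S], IsKnownSimple' S)
    (L : LieRows.{u} p (PPow p))
    {n : ℕ} {K : Type u} [Group K] [Finite K] [IsSimpleGroup K] (hn : 5 ≤ n)
    (e : Nonempty (K ≃* alternatingGroup (Fin n))) (hna : ¬ IsMulCommutative K) (hd : p ∣ Nat.card K) :
    VPow p K := by
  by_cases hp2 : p = 2
  · subst hp2
    exact alt_two (fun K _ _ _ r hr hpr h hd => L.psl K r hr hpr h hd) hn e hd
  · exact (alt_ord hp2 hIM hkn hn e hna hd).vPow

theorem not_comm_of_alt {n : ℕ} {K : Type*} [Group K] (hn : 5 ≤ n)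
    (e : Nonempty (K ≃* alternatingGroup (Fin n))) : ¬ IsMulCommutative K := by
  obtain ⟨e⟩ := e
  intro h
  have h4 : 4 ≤ Nat.card (Fin n) := by simp; omega
  have h1 : Subgroup.center (alternatingGroup (Fin n)) = ⊥ := alternatingGroup.center_eq_bot h4
  have h2 : Subgroup.center (alternatingGroup (Fin n)) = ⊤ := by
    rw [Subgroup.eq_top_iff']
    intro x
    rw [Subgroup.mem_center_iff]
    intro y
    apply e.symm.injective
    rw [map_mul, map_mul]
    exact h.is_comm.comm _ _
  have h3 : Nontrivial (alternatingGroup (Fin n)) := alternatingGroup.nontrivial_of_three_le_card (by simp; omega)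
  exact bot_ne_top (h1.symm.trans h2)

/-- **S4555 from the rows.** -/
theorem s4555_rows {p : ℕ} [hp : Fact p.Prime] (hCC : CCAll.{u}) (hIM : H33.Core.{u} p)
    (hkn : ∀ (S : Type u) [Group S] [Finite S] [IsSimpleGroup S], IsKnownSimple' S)
    (L : LieRows.{u} p (PPow p)) (R : SporRows.{u} 2 PPow)
    {G : Type u} [Group G] [Finite G]
    (h : ∀ g : G, (∃ j : ℕ, orderOf g = p ^ j) → ∀ χ : IrrCharacter G, (χ : G → ℂ) g ≠ 0)
    (Q : Sylow p G) : (Q : Subgroup G).Normal :=
  s4555_of hCC hIM hkn (fun _ _ _ _ _ hn e hd => alt_pow hIM hkn L hn e (not_comm_of_alt hn e) hd) L R h Q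

/-- **S4559 from the rows.** -/
theorem s4559_rows {p : ℕ} [hp : Fact p.Prime] (hp2 : p ≠ 2) (hCC : CCAll.{u}) (hIM : H33.Core.{u} p)
    (hkn : ∀ (S : Type u) [Group S] [Finite S] [IsSimpleGroup S], IsKnownSimple' S)
    (L : LieRows.{u} p (POrd p)) (R : SporRows.{u} 3 POrd)
    {G : Type u} [Group G] [Finite G] (hdvd : p ∣ Nat.card G)
    (h : ∀ g : G, orderOf g = p → ∀ χ : IrrCharacter G, (χ : G → ℂ) g ≠ 0) :
    Cfsg.pCore p G ≠ ⊥ :=
  s4559_of hp2 hCC hIM hkn (fun _ _ _ _ _ hn e hd => alt_ord hp2 hIM hkn hn e (not_comm_of_alt hn e) hd)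
    L R hdvd h

end Cfsg.Agent.H620.PNAsm
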