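import Cfsg.Agent.H227.BTenRow
import Cfsg.Agent.H419.Row
import Cfsg.Agent.H620.PNRows

/-!
# S4555, S4559: the Baby Monster, `p = 7` (helper620)

From the degree `4375623425250` (helper227).
-/

set_option autoImplicit false
set_option maxRecDepth 100000

namespace Cfsg.Agent.H620.PNBSeven

open Cfsg Cfsg.Agent.H665.NoPQ

universe u

/-- a character of 7-defect zero of the Baby Monster -/
theorem hasDZ_seven {K : Type u} [Group K] [Finite K] (h : Spor.IsoB K) : HasDZ 7 K := by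
  obtain ⟨χ, -, hχ⟩ := Cfsg.Agent.H227.BTenRow.deg_b h (d := 4375623425250) (by simp [Cfsg.Agent.H227.BTenB.ds])
  refine Cfsg.Agent.H419.Row.dz_of_dvd (n := 2) χ (by rw [hχ]; norm_num) ?_ (by norm_num)
  have h1 := TwoVanSpor.factorization_prod [(2, 41), (3, 13), (5, 6), (7, 2), (11, 1), (13, 1), (17, 1), (19, 1),
    (23, 1), (31, 1), (47, 1)] (by simp; norm_num) (by decide) (7, 2) (by simp)
  have h2 : Nat.card K = (List.map (fun y : ℕ × ℕ => y.1 ^ y.2) [(2, 41), (3, 13), (5, 6), (7, 2), (11, 1), (13, 1),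
    (17, 1), (19, 1), (23, 1), (31, 1), (47, 1)]).prod := by
    rw [NotCT.Orders.b h]; decide +kernel
  rw [h2]
  exact h1

/-- **S4555, S4559: the Baby Monster, `p = 7`.** -/
theorem b_7 {K : Type u} [Group K] (h : Spor.IsoB K) : Cfsg.Agent.H620.PNorm.VOrdP 7 K := by
  have hf : Finite K := Nat.finite_of_card_ne_zero (by rw [NotCT.Orders.b h]; norm_num)
  have : Fact (Nat.Prime 7) := ⟨by norm_num⟩
  obtain ⟨x, hx⟩ := exists_prime_orderOf_dvd_card' (G := K) 7 (by rw [NotCT.Orders.b h]; norm_num)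
  exact ⟨x, hx, H713.HasDZ.vz (hasDZ_seven h) (by rw [hx])⟩

end Cfsg.Agent.H620.PNBSeven
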