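import Cfsg.Agent.H30.FiE.Down
import Cfsg.Agent.H759.LSix.FiTT
import Cfsg.Agent.H620.PNBSeven

/-!
# S4555, S4559: `Fi23` and `Fi24'`, `p = 5` (helper620)

From the characters of defect zero of helper759 and helper30.
-/

set_option autoImplicit false

namespace Cfsg.Agent.H620.PNFi

open Cfsg Cfsg.Agent.H665.NoPQ

universe u

/-- **S4555, S4559: `Fi23`, `p = 5`.** -/
theorem fi23_5 {K : Type u} [Group K] (h : Spor.IsoFi23 K) : Cfsg.Agent.H620.PNorm.VOrdP 5 K := by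
  have hf : Finite K := Nat.finite_of_card_ne_zero (by rw [NotCT.Orders.fi23 h]; norm_num)
  have : Fact (Nat.Prime 5) := ⟨by norm_num⟩
  obtain ⟨x, hx⟩ := exists_prime_orderOf_dvd_card' (G := K) 5 (by rw [NotCT.Orders.fi23 h]; norm_num)
  exact ⟨x, hx, H713.HasDZ.vz (Cfsg.Agent.H759.LSix.FiTT.fi23_5 h) (by rw [hx])⟩

/-- **S4555, S4559: `Fi24'`, `p = 5`.** -/
theorem fi24_5 {K : Type u} [Group K] (h : Spor.IsoFi24' K) : Cfsg.Agent.H620.PNorm.VOrdP 5 K := by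
  have hf : Finite K := Nat.finite_of_card_ne_zero (by rw [NotCT.Orders.fi24 h]; norm_num)
  have : Fact (Nat.Prime 5) := ⟨by norm_num⟩
  obtain ⟨x, hx⟩ := exists_prime_orderOf_dvd_card' (G := K) 5 (by rw [NotCT.Orders.fi24 h]; norm_num)
  exact ⟨x, hx, H713.HasDZ.vz (Cfsg.Agent.H30.FiE.Down.hasDZ_five h) (by rw [hx])⟩

end Cfsg.Agent.H620.PNFi
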