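import Cfsg.Agent.H620.PNAsm
import Cfsg.Agent.H872.PV.PSL
import Cfsg.Agent.H649.VanC.OddRow
import Cfsg.Agent.H649.VanU.Row
import Cfsg.Agent.H612.PTwo.OPlusField
import Cfsg.Agent.H594.VzO8
import Cfsg.Agent.H679.VanO.RowMinus
import Cfsg.Agent.H904.PV.SzRee
import Cfsg.Agent.H387.VO2.TwFFour

/-!
# S4555 and S4559: the groups of Lie type (helper620)

The structures `LieRows p (POrd p)` and `LieRows p (PPow p)` from the rows.
-/

set_option autoImplicit false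

namespace Cfsg.Agent.H620.PNLie

open Cfsg Cfsg.Agent.H620.PNorm Cfsg.Agent.H620.PNRows

universe u

theorem eight_ord {p : ℕ} (hp : p.Prime) (hp2 : p ≠ 2) :
    Cfsg.Agent.H612.PTwo.EightRow p (fun K _ => VOrdP p K) :=
  fun F _ _ h => Cfsg.Agent.H594.VzO8.vOrdP_split F hp hp2 (by rwa [Nat.card_eq_fintype_card] at h)

theorem eight_pow {p : ℕ} (hp : p.Prime) :
    Cfsg.Agent.H612.PTwo.EightRow p (fun K _ => VPow p K) := by
  intro F _ _ h
  by_cases hp2 : p = 2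
  · subst hp2
    refine Cfsg.Agent.H594.VzO8.vPow_two F ?_
    intro h0
    have h1 : CharP F 2 := CharTwo.of_one_ne_zero_of_two_eq_zero one_ne_zero h0
    obtain ⟨n, -, hn⟩ := FiniteField.card F 2
    rw [Nat.card_eq_fintype_card, hn] at h
    have h2 : 2 ∣ 2 ^ (n : ℕ) := dvd_pow_self 2 n.ne_zero
    have h3 : 1 ≤ 2 ^ (n : ℕ) := Nat.one_le_two_pow
    omega
  · exact (eight_ord hp hp2 F h).vPow

/-- `LieRows` for `VOrdP`. -/
theorem ord {p : ℕ} [hp : Fact p.Prime] (hp2 : p ≠ 2)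
    (psp : ∀ (K : Type u) [Group K] [Finite K] [IsSimpleGroup K] (r : ℕ), r.Prime → p ≠ r →
      IsPSpChar r K → p ∣ Nat.card K → VOrdP p K)
    (exc : ∀ (K : Type u) [Group K] [Finite K] [IsSimpleGroup K] (r : ℕ), r.Prime → p ≠ r →
      IsExceptionalChevChar r K → p ∣ Nat.card K → VOrdP p K)
    (tw : ∀ (K : Type u) [Group K] [Finite K] [IsSimpleGroup K] (r : ℕ), r.Prime → p ≠ r →
      IsTwistedE6D4Char r K → p ∣ Nat.card K → VOrdP p K) :
    LieRows.{u} p (POrd p) where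
  psl := fun K _ _ _ r hr hpr h hd => Cfsg.Agent.H872.PV.row_pOrd hp.out K r hr hpr h hd
  psp := fun K _ _ _ r hr hpr h hd => psp K r hr hpr h hd
  psu := fun K _ _ _ r hr hpr h hd => Cfsg.Agent.H649.VanU.psu_vOrdP K p r hp.out hp2 hr hpr h hd
  oodd := fun K _ _ _ r hr hpr h hd => Cfsg.Agent.H649.VanC.oodd K p r hp.out hr hpr h hd
  oplus := fun K _ _ _ r hr hpr h hd =>
    Cfsg.Agent.H612.PTwo.oplus_ord (eight_ord hp.out hp2) K r hp.out hr hpr h hd
  ominus := fun K _ _ _ r hr hpr h hd => Cfsg.Agent.H679.VanO.ominus K p r hp.out hp2 hr hpr h hd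
  exc := fun K _ _ _ r hr hpr h hd => exc K r hr hpr h hd
  tw := fun K _ _ _ r hr hpr h hd => tw K r hr hpr h hd
  sz := fun _ _ _ _ h2 h hd => Cfsg.Agent.H904.SzRee.sz_vOrdP h2 h hd
  twf := fun _ _ _ _ h2 h hd => Cfsg.Agent.H387.VO2.TwFFour.row h h2 hd
  ree := fun _ _ _ _ h3 h hd => Cfsg.Agent.H904.SzRee.ree_vOrdP h3 h hd

/-- `LieRows` for `VPow`. -/
theorem pow {p : ℕ} [hp : Fact p.Prime]
    (psp : ∀ (K : Type u) [Group K] [Finite K] [IsSimpleGroup K] (r : ℕ), r.Prime → p ≠ r →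
      IsPSpChar r K → p ∣ Nat.card K → VPow p K)
    (exc : ∀ (K : Type u) [Group K] [Finite K] [IsSimpleGroup K] (r : ℕ), r.Prime → p ≠ r →
      IsExceptionalChevChar r K → p ∣ Nat.card K → VPow p K)
    (tw : ∀ (K : Type u) [Group K] [Finite K] [IsSimpleGroup K] (r : ℕ), r.Prime → p ≠ r →
      IsTwistedE6D4Char r K → p ∣ Nat.card K → VPow p K) :
    LieRows.{u} p (PPow p) where
  psl := fun K _ _ _ r hr hpr h hd => Cfsg.Agent.H872.PV.row_pPow hp.out K r hr hpr h hd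
  psp := fun K _ _ _ r hr hpr h hd => psp K r hr hpr h hd
  psu := fun K _ _ _ r hr hpr h hd => Cfsg.Agent.H649.VanU.psu_vPow K p r hp.out hr hpr h hd
  oodd := fun K _ _ _ r hr hpr h hd => (Cfsg.Agent.H649.VanC.oodd K p r hp.out hr hpr h hd).vPow
  oplus := fun K _ _ _ r hr hpr h hd =>
    Cfsg.Agent.H612.PTwo.oplus_pow (eight_pow hp.out) K r hp.out hr hpr h hd
  ominus := fun K _ _ _ r hr hpr h hd => Cfsg.Agent.H679.VanO.ominus_pow K p r hp.out hr hpr h hd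
  exc := fun K _ _ _ r hr hpr h hd => exc K r hr hpr h hd
  tw := fun K _ _ _ r hr hpr h hd => tw K r hr hpr h hd
  sz := fun _ _ _ _ h2 h hd => Cfsg.Agent.H904.SzRee.sz_vPow h2 h hd
  twf := fun _ _ _ _ h2 h hd => (Cfsg.Agent.H387.VO2.TwFFour.row h h2 hd).vPow
  ree := fun _ _ _ _ h3 h hd => Cfsg.Agent.H904.SzRee.ree_vPow h3 h hd

end Cfsg.Agent.H620.PNLie
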