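import Cfsg.Agent.H620.PNLie
import Cfsg.Agent.H649.VanSp4.Row
import Cfsg.Agent.H526.Van.Asm
import Cfsg.Agent.H40.PV.TwDFourRow
import Cfsg.Agent.H40.PV.GTwoAll
import Cfsg.Agent.H139.Van.G2Three
import Cfsg.Agent.H139.Van.Ord3

/-!
# S4555 and S4559: all the groups of Lie type (helper620)

`rest` : the rows `G₂`, `³D₄`; `ord`, `pow` : `LieRows`.
-/

set_option autoImplicit false

namespace Cfsg.Agent.H620.PNLieFin

open Cfsg Cfsg.Lie Cfsg.Agent.H620.PNorm Cfsg.Agent.H620.PNRows Cfsg.Agent.H526.Van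

universe u

/-- the rows `G₂`, `³D₄` (helper40, helper139) -/
theorem rest {p : ℕ} [hp : Fact p.Prime] : Rest p := by
  have hfac : ∀ q : ℕ, 2 ≤ q → q ^ 2 - 1 = (q - 1) * (q + 1) := by
    intro q hq
    obtain ⟨m, rfl⟩ := Nat.exists_eq_add_of_le hq
    rw [show 2 + m - 1 = 1 + m by omega]
    apply Nat.sub_eq_of_eq_add; ring
  constructor
  · intro F _ _ r _ h3 hpr hs hpG
    exact Cfsg.Agent.H40.PV.GT.vp_G2 (r := r) h3 hpr hs hpG (fun h => Cfsg.Agent.H139.Van.G2Three.vpow_G2 h)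
  · intro K _ _ r _ q hq hK hpr hs hpG
    have hpq : ¬ p ∣ q := fun h => not_dvd_card (F := K) hpr (by rw [hK]; exact dvd_pow h (by norm_num))
    have : Finite ↥(twistedD4 K q) := by
      have : Finite (GL chevD4.Idx K) := by
        have : Finite (Matrix chevD4.Idx chevD4.Idx K) := inferInstance
        infer_instance
      infer_instance
    by_cases h : p ∣ q ^ 2 - 1
    · exact H40.PV.TD.row hq hK hp.out h
    · rw [hfac _ hq.two_le] at h
      exact .of_odd (Cfsg.Agent.H139.Van.Ord3.vOrdP_D4 hq hK hpq (fun h1 => h (Dvd.dvd.mul_right h1 _))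
        (fun h1 => h (Dvd.dvd.mul_left h1 _)) hpG)

/-- **`LieRows` for `VOrdP`.** -/
theorem ord {p : ℕ} [hp : Fact p.Prime] (hp2 : p ≠ 2) :
    LieRows.{u} p (POrd p) :=
  PNLie.ord hp2 (fun K _ _ _ r hr hpr h hd => Cfsg.Agent.H649.VanSp4.psp K p r hp.out hr hpr h hd)
    (fun K _ _ _ r hr hpr h hd' => (vp_exc rest K r hr hpr h hd').1 hp2)
    (fun K _ _ _ r hr hpr h hd' => (vp_tw rest K r hr hpr h hd').1 hp2)

/-- **`LieRows` for `VPow`.** -/
theorem pow {p : ℕ} [hp : Fact p.Prime] :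
    LieRows.{u} p (PPow p) :=
  PNLie.pow (fun K _ _ _ r hr hpr h hd => (Cfsg.Agent.H649.VanSp4.psp K p r hp.out hr hpr h hd).vPow)
    (fun K _ _ _ r hr hpr h hd' => (vp_exc rest K r hr hpr h hd').2)
    (fun K _ _ _ r hr hpr h hd' => (vp_tw rest K r hr hpr h hd').2)

end Cfsg.Agent.H620.PNLieFin
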