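import Cfsg.Agent.H620.PNRows
import Cfsg.Agent.H123.PV.HS
import Cfsg.Agent.H123.PV.JJ
import Cfsg.Agent.H123.PV.McL
import Cfsg.Agent.H123.PV.Ru
import Cfsg.Agent.H123.PV.Suz
import Cfsg.Agent.H185.VO.Co1Three
import Cfsg.Agent.H185.VO.RuFive
import Cfsg.Agent.H185.VO.SuzThree
import Cfsg.Agent.H187.PV.Mathieu3
import Cfsg.Agent.H210.ON3.Row
import Cfsg.Agent.H266.PV.ThB
import Cfsg.Agent.H302.Van.JTwo
import Cfsg.Agent.H316.VZ.MSeven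
import Cfsg.Agent.H316.VZ.RowsFin
import Cfsg.Agent.H316.VZ.Two
import Cfsg.Agent.H393.Van.HSFive
import Cfsg.Agent.H393.Van.HSThree
import Cfsg.Agent.H446.VP.J1
import Cfsg.Agent.H446.VP.M22
import Cfsg.Agent.H446.VP.Mathieu
import Cfsg.Agent.H532.PNormTwo.Fi22
import Cfsg.Agent.H532.PNormTwo.Fi23
import Cfsg.Agent.H532.PNormTwo.Fi24
import Cfsg.Agent.H569.PV.LyFiveRow
import Cfsg.Agent.H569.PV.LyThree
import Cfsg.Agent.H592.VN.Co1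
import Cfsg.Agent.H592.VN.Co2
import Cfsg.Agent.H592.VN.Co3
import Cfsg.Agent.H620.PNBSeven
import Cfsg.Agent.H620.PNFi
import Cfsg.Agent.H678.PV.CoThreeFive
import Cfsg.Agent.H678.PV.CoTwoFive
import Cfsg.Agent.H678.PV.RowCoOne
import Cfsg.Agent.H678.PV.RowCoOneB
import Cfsg.Agent.H678.PV.RowCoThreeThree
import Cfsg.Agent.H678.PV.RowCoTwoThree
import Cfsg.Agent.H678.PV.RowFiTF
import Cfsg.Agent.H678.PV.RowFiTT
import Cfsg.Agent.H678.PV.RowFiTwo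
import Cfsg.Agent.H678.PV.RowHNThree
import Cfsg.Agent.H678.PV.RowHe
import Cfsg.Agent.H678.PV.RowSuz
import Cfsg.Agent.H759.PV.He
import Cfsg.Agent.H816.MEleven
import Cfsg.Agent.H854.Loc.M11DZ
import Cfsg.Agent.H984.PV.HN2
import Cfsg.Agent.H984.PV.Ly2
import Cfsg.Agent.H998.PV.FiFive
import Cfsg.Agent.H998.PV.HeTwo
import Cfsg.Agent.H998.PV.JFour
import Cfsg.Agent.H998.PV.MTwelve
import Cfsg.Agent.H998.PV.McL
import Cfsg.Agent.H998.PV.ON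
import Cfsg.Agent.H998.PV.RuThree
import Cfsg.Agent.H998.PV.TitsFive
import Cfsg.Agent.H998.PV.TitsThree
import Cfsg.Agent.H998.PV.TitsTwo

/-!
# S4555 and S4559: the sporadic groups and the Tits group (helper620)

The structures `SporRows 3 POrd` and `SporRows 2 PPow` from the rows of the team (coordinator helper266).
-/

set_option autoImplicit false

namespace Cfsg.Agent.H620.PNSpor

open Cfsg Cfsg.Agent.H620.PNorm Cfsg.Agent.H620.PNRows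

universe u

/-- The rows for odd primes. -/
theorem ord (hK : H995.CopEngine.AllKnown.{0}) :
    SporRows.{u} 3 POrd where
  tits_2 := fun h => absurd h (by norm_num)
  tits_3 := fun h => Cfsg.Agent.H998.PV.tits_3 h
  tits_5 := fun h => Cfsg.Agent.H998.PV.tits_5 h
  m11_2 := fun h => absurd h (by norm_num)
  m11_3 := fun h => Cfsg.Agent.H187.PV.Mathieu3.m11_3 h
  m12_2 := fun h => absurd h (by norm_num)
  m12_3 := fun h => Cfsg.Agent.H998.PV.m12_3 h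
  m22_2 := fun h => absurd h (by norm_num)
  m22_3 := fun h => Cfsg.Agent.H187.PV.Mathieu3.m22_3 h
  m23_2 := fun h => absurd h (by norm_num)
  m23_3 := fun h => Cfsg.Agent.H187.PV.Mathieu3.m23_3 h
  m24_2 := fun h => absurd h (by norm_num)
  m24_3 := fun h => Cfsg.Agent.H187.PV.Mathieu3.m24_3 h
  j1_2 := fun h => absurd h (by norm_num)
  j2_2 := fun h => absurd h (by norm_num)
  j2_3 := fun h => Cfsg.Agent.H302.Van.j2_3 h
  j2_5 := fun h => Cfsg.Agent.H302.Van.j2_5 h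
  j3_2 := fun h => absurd h (by norm_num)
  j3_3 := fun h => Cfsg.Agent.H302.Van.j3_3 h
  j4_2 := fun h => absurd h (by norm_num)
  j4_3 := fun h => Cfsg.Agent.H998.PV.j4_3 h
  j4_11 := fun h => Cfsg.Agent.H998.PV.j4_11 h
  co1_2 := fun h => absurd h (by norm_num)
  co1_3 := fun h => Cfsg.Agent.H185.VO.co1_3 h
  co1_5 := fun h => Cfsg.Agent.H678.PV.co1_5 h
  co1_7 := fun h => Cfsg.Agent.H678.PV.co1_7 h
  co2_2 := fun h => absurd h (by norm_num)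
  co2_3 := fun h => Cfsg.Agent.H678.PV.co2_3 h
  co2_5 := fun h => Cfsg.Agent.H678.PV.co2_5 h
  co3_2 := fun h => absurd h (by norm_num)
  co3_3 := fun h => Cfsg.Agent.H678.PV.co3_3 h
  co3_5 := fun h => Cfsg.Agent.H678.PV.co3_5 h
  mcl_2 := fun h => absurd h (by norm_num)
  mcl_3 := fun h => Cfsg.Agent.H998.PV.mcl_3 h
  mcl_5 := fun h => Cfsg.Agent.H998.PV.mcl_5 h
  hs_2 := fun h => absurd h (by norm_num)
  hs_3 := fun h => Cfsg.Agent.H393.Van.HSThree.hs_3 h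
  hs_5 := fun h => Cfsg.Agent.H393.Van.HSFive.hs_5 h
  suz_2 := fun h => absurd h (by norm_num)
  suz_3 := fun h => Cfsg.Agent.H185.VO.suz_3 h
  suz_5 := fun h => Cfsg.Agent.H678.PV.suz_5 h
  he_2 := fun h => absurd h (by norm_num)
  he_3 := fun h => Cfsg.Agent.H759.PV.He.he_3 h
  he_5 := fun h => Cfsg.Agent.H759.PV.He.he_5 h
  he_7 := fun h => Cfsg.Agent.H678.PV.he_7 h
  ru_2 := fun h => absurd h (by norm_num)
  ru_3 := fun h => Cfsg.Agent.H998.PV.ru_3 h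
  ru_5 := fun h => Cfsg.Agent.H185.VO.ru_5 h
  on_2 := fun h => absurd h (by norm_num)
  on_3 := fun h => Cfsg.Agent.H210.ON3.on_3 h
  on_7 := fun h => Cfsg.Agent.H998.PV.on_7 h
  ly_2 := fun h => absurd h (by norm_num)
  ly_3 := fun h => Cfsg.Agent.H569.PV.LyThree.ly_3 h
  ly_5 := fun h => Cfsg.Agent.H569.PV.LyFiveRow.ly_5 hK h
  fi22_2 := fun h => absurd h (by norm_num)
  fi22_3 := fun h => Cfsg.Agent.H678.PV.fi22_3 h
  fi22_5 := fun h => Cfsg.Agent.H998.PV.fi22_5 h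
  fi23_2 := fun h => absurd h (by norm_num)
  fi23_3 := fun h => Cfsg.Agent.H678.PV.fi23_3 h
  fi23_5 := fun h => Cfsg.Agent.H620.PNFi.fi23_5 h
  fi24_2 := fun h => absurd h (by norm_num)
  fi24_3 := fun h => Cfsg.Agent.H316.VZ.RowsFin.fi24_3 h
  fi24_5 := fun h => Cfsg.Agent.H620.PNFi.fi24_5 h
  fi24_7 := fun h => Cfsg.Agent.H678.PV.fi24_7 h
  hn_2 := fun h => absurd h (by norm_num)
  hn_3 := fun h => Cfsg.Agent.H678.PV.hn_3 h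
  hn_5 := fun h => Cfsg.Agent.H316.VZ.RowsFin.hn_5 h
  th_2 := fun h => absurd h (by norm_num)
  th_3 := fun h => Cfsg.Agent.H266.PV.th_3 h
  th_5 := fun h => Cfsg.Agent.H266.PV.th_5 h
  th_7 := fun h => Cfsg.Agent.H266.PV.th_7 h
  b_2 := fun h => absurd h (by norm_num)
  b_3 := fun h => Cfsg.Agent.H316.VZ.RowsFin.b_3 h
  b_5 := fun h => Cfsg.Agent.H316.VZ.RowsFin.b_5 h
  b_7 := fun h => Cfsg.Agent.H620.PNBSeven.b_7 h
  m_2 := fun h => absurd h (by norm_num)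
  m_3 := fun h => Cfsg.Agent.H316.VZ.RowsFin.m_3 h
  m_5 := fun h => Cfsg.Agent.H316.VZ.RowsFin.m_5 h
  m_7 := fun h => Cfsg.Agent.H316.VZ.MSeven.m_seven h
  m_11 := fun h => Cfsg.Agent.H854.Loc.M11DZ.m_11 h
  m_13 := fun h => Cfsg.Agent.H816.MEleven.m_13 h

/-- All the rows. -/
theorem pow (R : SporRows.{u} 3 POrd) :
    SporRows.{u} 2 PPow where
  tits_2 := fun _ _ _ h => VOrdP.vPow (Cfsg.Agent.H998.PV.tits_2 h)
  tits_3 := fun h => VOrdP.vPow (R.tits_3 h)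
  tits_5 := fun h => VOrdP.vPow (R.tits_5 h)
  m11_2 := fun _ _ _ h => Cfsg.Agent.H446.VP.m11_2 h
  m11_3 := fun h => VOrdP.vPow (R.m11_3 h)
  m12_2 := fun _ _ _ h => Cfsg.Agent.H446.VP.m12_2 h
  m12_3 := fun h => VOrdP.vPow (R.m12_3 h)
  m22_2 := fun _ _ _ h => Cfsg.Agent.H446.VP.m22_2 h
  m22_3 := fun h => VOrdP.vPow (R.m22_3 h)
  m23_2 := fun _ _ _ h => Cfsg.Agent.H446.VP.m23_2 h
  m23_3 := fun h => VOrdP.vPow (R.m23_3 h)
  m24_2 := fun _ _ _ h => Cfsg.Agent.H446.VP.m24_2 h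
  m24_3 := fun h => VOrdP.vPow (R.m24_3 h)
  j1_2 := fun _ _ _ h => Cfsg.Agent.H446.VP.j1_2 h
  j2_2 := fun _ _ _ h => Cfsg.Agent.H123.PV.j2_2 h
  j2_3 := fun h => VOrdP.vPow (R.j2_3 h)
  j2_5 := fun h => VOrdP.vPow (R.j2_5 h)
  j3_2 := fun _ _ _ h => Cfsg.Agent.H123.PV.j3_2 h
  j3_3 := fun h => VOrdP.vPow (R.j3_3 h)
  j4_2 := fun _ _ _ h => VOrdP.vPow (Cfsg.Agent.H998.PV.j4_2 h)
  j4_3 := fun h => VOrdP.vPow (R.j4_3 h)
  j4_11 := fun h => VOrdP.vPow (R.j4_11 h)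
  co1_2 := fun _ _ _ h => Cfsg.Agent.H592.VN.Co1.co1_2 h
  co1_3 := fun h => VOrdP.vPow (R.co1_3 h)
  co1_5 := fun h => VOrdP.vPow (R.co1_5 h)
  co1_7 := fun h => VOrdP.vPow (R.co1_7 h)
  co2_2 := fun _ _ _ h => Cfsg.Agent.H592.VN.Co2.co2_2 h
  co2_3 := fun h => VOrdP.vPow (R.co2_3 h)
  co2_5 := fun h => VOrdP.vPow (R.co2_5 h)
  co3_2 := fun _ _ _ h => Cfsg.Agent.H592.VN.Co3.co3_2 h
  co3_3 := fun h => VOrdP.vPow (R.co3_3 h)
  co3_5 := fun h => VOrdP.vPow (R.co3_5 h)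
  mcl_2 := fun _ _ _ h => Cfsg.Agent.H123.PV.McL.mcl_2 h
  mcl_3 := fun h => VOrdP.vPow (R.mcl_3 h)
  mcl_5 := fun h => VOrdP.vPow (R.mcl_5 h)
  hs_2 := fun _ _ _ h => Cfsg.Agent.H123.PV.HS.hs_2 h
  hs_3 := fun h => VOrdP.vPow (R.hs_3 h)
  hs_5 := fun h => VOrdP.vPow (R.hs_5 h)
  suz_2 := fun _ _ _ h => Cfsg.Agent.H123.PV.Suz.suz_2 h
  suz_3 := fun h => VOrdP.vPow (R.suz_3 h)
  suz_5 := fun h => VOrdP.vPow (R.suz_5 h)
  he_2 := fun _ _ _ h => Cfsg.Agent.H998.PV.he_2 h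
  he_3 := fun h => VOrdP.vPow (R.he_3 h)
  he_5 := fun h => VOrdP.vPow (R.he_5 h)
  he_7 := fun h => VOrdP.vPow (R.he_7 h)
  ru_2 := fun _ _ _ h => Cfsg.Agent.H123.PV.Ru.ru_2 h
  ru_3 := fun h => VOrdP.vPow (R.ru_3 h)
  ru_5 := fun h => VOrdP.vPow (R.ru_5 h)
  on_2 := fun _ _ _ h => VOrdP.vPow (Cfsg.Agent.H998.PV.on_2 h)
  on_3 := fun h => VOrdP.vPow (R.on_3 h)
  on_7 := fun h => VOrdP.vPow (R.on_7 h)
  ly_2 := fun _ _ _ h => Cfsg.Agent.H984.PV.Ly2.ly_2 h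
  ly_3 := fun h => VOrdP.vPow (R.ly_3 h)
  ly_5 := fun h => VOrdP.vPow (R.ly_5 h)
  fi22_2 := fun _ _ _ h => Cfsg.Agent.H532.PNormTwo.Fi22.fi22_2 h
  fi22_3 := fun h => VOrdP.vPow (R.fi22_3 h)
  fi22_5 := fun h => VOrdP.vPow (R.fi22_5 h)
  fi23_2 := fun _ _ _ h => Cfsg.Agent.H532.PNormTwo.Fi23.fi23_2 h
  fi23_3 := fun h => VOrdP.vPow (R.fi23_3 h)
  fi23_5 := fun h => VOrdP.vPow (R.fi23_5 h)
  fi24_2 := fun _ _ _ h => Cfsg.Agent.H532.PNormTwo.Fi24.fi24_2 h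
  fi24_3 := fun h => VOrdP.vPow (R.fi24_3 h)
  fi24_5 := fun h => VOrdP.vPow (R.fi24_5 h)
  fi24_7 := fun h => VOrdP.vPow (R.fi24_7 h)
  hn_2 := fun _ _ _ h => Cfsg.Agent.H984.PV.HN2.hn_2 h
  hn_3 := fun h => VOrdP.vPow (R.hn_3 h)
  hn_5 := fun h => VOrdP.vPow (R.hn_5 h)
  th_2 := fun _ _ _ h => VOrdP.vPow (Cfsg.Agent.H266.PV.th_2 h)
  th_3 := fun h => VOrdP.vPow (R.th_3 h)
  th_5 := fun h => VOrdP.vPow (R.th_5 h)
  th_7 := fun h => VOrdP.vPow (R.th_7 h)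
  b_2 := fun _ _ _ h => Cfsg.Agent.H316.VZ.b_two h
  b_3 := fun h => VOrdP.vPow (R.b_3 h)
  b_5 := fun h => VOrdP.vPow (R.b_5 h)
  b_7 := fun h => VOrdP.vPow (R.b_7 h)
  m_2 := fun _ _ _ h => Cfsg.Agent.H316.VZ.m_two h
  m_3 := fun h => VOrdP.vPow (R.m_3 h)
  m_5 := fun h => VOrdP.vPow (R.m_5 h)
  m_7 := fun h => VOrdP.vPow (R.m_7 h)
  m_11 := fun h => VOrdP.vPow (R.m_11 h)
  m_13 := fun h => VOrdP.vPow (R.m_13 h)

end Cfsg.Agent.H620.PNSpor
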