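import Cfsg.Agent.H620.PNorm
import Cfsg.Agent.H988.CopCyc.Main

/-!
# The reduction of S4555 and S4559, with S0000 (helper620)
-/

set_option autoImplicit false

namespace Cfsg.Agent.H620.PNorm

universe u

/-- Coprime groups of automorphisms of nonabelian finite simple groups are cyclic. -/
theorem ccAll : CCAll.{u} := by
  intro S _ _ _ hna
  apply Cfsg.Agent.H988.CopCyc.Main.cc
  rintro ⟨⟨h⟩⟩
  obtain ⟨a, b, hab⟩ := hna
  exact hab (h a b)

end Cfsg.Agent.H620.PNorm
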