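import Cfsg.Agent.H620.Kill
import Cfsg.Agent.H400.TwoExcIndex

/-!
# Long root elements and defect zero (helper620)

`R` a root group datum of characteristic `p` generating `Y`, `a` a dominant root with `LR R a`, `t` a prime which divides
neither `|PS T X (Ge a)|` nor `|X a ⊔ X (-a)|`: every `u ∈ X a`, `u ≠ 1` has a centralizer of order prime to `t`, and
`Y` has a character which vanishes at all `t`-singular elements.
-/

set_option autoImplicit false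
set_option linter.unusedSectionVars false

namespace Cfsg.Agent.H620.RootKill

open CoxeterSystem Cfsg.Agent.ChevalleyStructure.CoxeterGeom Cfsg.Agent.Tits.Roots Cfsg.Agent.Tits.Core
  Cfsg.Agent.Tits.Exchange Cfsg.Agent.Nodes.Reps Cfsg.Agent.Nodes.BNOf Cfsg.Agent.Nodes.StabComb
  Cfsg.Agent.Nodes.Bruhat Cfsg.Agent.Nodes.OppDec Cfsg.Agent.Nodes.PosPair Cfsg.Agent.Nodes.Coroot
  Cfsg.Agent.KFacts.RgdPar Cfsg.Agent.KFacts.RgdSL Cfsg.Agent.KFacts.RgdTI Cfsg.Agent.Nodes.LeviDec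
  Cfsg.Agent.H400.TwoExc
open Cfsg Cfsg.Agent.H713

variable {I W Y : Type*} [Fintype I] [DecidableEq I] [Group W] [Group Y] {M : CoxeterMatrix I}
  {cs : CoxeterSystem M W} {A : I → I → ℤ} {h : IsCartan M A} {p : ℕ} {T : Subgroup Y} {n : I → Y}
  {X : (I → ℤ) → Subgroup Y} {R : RGD cs h p T n X} [Finite W] [Finite Y]

theorem cent_of_lr (hG : GG cs h T X = ⊤) {a : I → ℤ} (L : LR R a) {t : ℕ} (ht : t.Prime)
    (hP : ¬ t ∣ Nat.card (PS T X (Ge cs h a))) {u : Y} (hu : u ∈ X a) (hu1 : u ≠ 1) {z : Y}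
    (hz : z * u = u * z) (hzt : z ^ t = 1) : z = 1 := by
  have h1 : z ∈ PS T X (Ge cs h a) := L.le_PS_of_comm (by rw [hG]; trivial) hu hu1 hz
  by_contra hz1
  have : Fact t.Prime := ⟨ht⟩
  have h2 : orderOf z = t := orderOf_eq_prime hzt hz1
  apply hP
  rw [← h2]
  have h3 : orderOf (⟨z, h1⟩ : PS T X (Ge cs h a)) = orderOf z := Subgroup.orderOf_mk z h1
  rw [← h3]
  exact orderOf_dvd_natCard _

theorem prod_of_lr [hp : Fact p.Prime] (hG : GG cs h T X = ⊤) {a : I → ℤ} (L : LR R a)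
    (hd : ∀ i, 0 ≤ cpr cs h (sr i) a) {t : ℕ} (ht : t.Prime) (htp : t ≠ p)
    (hX : ¬ t ∣ Nat.card ↥(X a ⊔ X (-a))) {u : Y} (hu : u ∈ X a) {x y : Y} (hx : IsConj u x) (hy : IsConj u y)
    (hk : ∃ k : ℕ, orderOf (x * y⁻¹) = t ^ k) : x * y⁻¹ = 1 := by
  obtain ⟨c, rfl⟩ := isConj_iff.1 hx
  obtain ⟨d, rfl⟩ := isConj_iff.1 hy
  obtain ⟨w, b₁, hb₁, k, hk', b₂, hb₂, e⟩ := (mem_GG R).1 (show c⁻¹ * d ∈ GG cs h T X by rw [hG]; trivial)
  have hB : RGD.B cs h T X ≤ Subgroup.normalizer (X a : Set Y) := B_le_normalizer L hd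
  have hconj : ∀ b ∈ RGD.B cs h T X, ∀ v ∈ X a, b * v * b⁻¹ ∈ X a := fun b hb v hv =>
    (Subgroup.mem_normalizer_iff.1 (hB hb) v).1 hv
  set x' := b₁⁻¹ * u * b₁ with hx'
  set y' := k * (b₂ * u * b₂⁻¹) * k⁻¹ with hy'
  have hx'm : x' ∈ X a := by
    have := hconj b₁⁻¹ (inv_mem hb₁) u hu
    rwa [inv_inv] at this
  have hy'm : y' ∈ X (rep cs h w a) := R.conj_mem hk' L.root (hconj b₂ hb₂ u hu)
  have e1 : c * u * c⁻¹ * (d * u * d⁻¹)⁻¹ = (c * b₁) * (x' * y'⁻¹) * (c * b₁)⁻¹ := by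
    have e2 : d = c * (b₁ * k * b₂) := by rw [← e]; group
    rw [e2, hx', hy']
    group
  rw [e1] at hk ⊢
  have ho : orderOf ((c * b₁) * (x' * y'⁻¹) * (c * b₁)⁻¹) = orderOf (x' * y'⁻¹) := by
    have := MulEquiv.orderOf_eq (MulAut.conj (c * b₁)) (x' * y'⁻¹)
    rwa [MulAut.conj_apply] at this
  rw [ho] at hk
  suffices h0 : x' * y'⁻¹ = 1 by rw [h0]; group
  obtain ⟨m, hm⟩ := hk
  by_cases hw : rep cs h w a = -a
  · -- opposite
    rw [hw] at hy'm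
    have h1 : x' * y'⁻¹ ∈ X a ⊔ X (-a) :=
      mul_mem (Subgroup.mem_sup_left hx'm) (inv_mem (Subgroup.mem_sup_right hy'm))
    rcases Nat.eq_zero_or_pos m with h2 | h2
    · rw [h2, pow_zero, orderOf_eq_one_iff] at hm
      exact hm
    · exfalso
      apply hX
      have h3 : orderOf (⟨x' * y'⁻¹, h1⟩ : ↥(X a ⊔ X (-a))) = t ^ m := by rw [Subgroup.orderOf_mk, hm]
      have h4 : t ∣ orderOf (⟨x' * y'⁻¹, h1⟩ : ↥(X a ⊔ X (-a))) := by rw [h3]; exact dvd_pow_self t h2.ne'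
      exact h4.trans (orderOf_dvd_natCard _)
  · -- a `p`-group
    have hne : a ≠ -(rep cs h w a) := by
      intro h1
      apply hw
      rw [h1, neg_neg, ← h1]
    have h1 := isPGroup_pair R L.root (L.root.act w) hne
    have h2 : x' * y'⁻¹ ∈ X a ⊔ X (rep cs h w a) ⊔ btw cs h X a (rep cs h w a) :=
      Subgroup.mem_sup_left (mul_mem (Subgroup.mem_sup_left hx'm) (inv_mem (Subgroup.mem_sup_right hy'm)))
    obtain ⟨j, hj⟩ := h1 ⟨_, h2⟩
    have h3 : (x' * y'⁻¹) ^ p ^ j = 1 := congrArg Subtype.val hj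
    have h4 := orderOf_dvd_of_pow_eq_one h3
    rw [hm] at h4
    have h5 : Nat.Coprime (t ^ m) (p ^ j) := Nat.Coprime.pow _ _ ((Nat.coprime_primes ht hp.1).2 htp)
    have h6 : t ^ m = 1 := Nat.dvd_one.1 (h5.dvd_of_dvd_mul_right (by rwa [one_mul]))
    rw [h6, orderOf_eq_one_iff] at hm
    exact hm

/-- **The criterion.** -/
theorem kill_of_lr [hp : Fact p.Prime] (hG : GG cs h T X = ⊤) {a : I → ℤ} (L : LR R a)
    (hd : ∀ i, 0 ≤ cpr cs h (sr i) a) {t : ℕ} (ht : t.Prime) (htp : t ≠ p)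
    (hP : ¬ t ∣ Nat.card (PS T X (Ge cs h a))) (hX : ¬ t ∣ Nat.card ↥(X a ⊔ X (-a))) : Kill Y t := by
  obtain ⟨⟨u, hu⟩, hu1⟩ := (Subgroup.ne_bot_iff_exists_ne_one).1 (X_ne_bot R L.root)
  have hu1' : u ≠ 1 := fun h0 => hu1 (Subtype.ext h0)
  have : Fact t.Prime := ⟨ht⟩
  exact kill_or t u (fun z hz hzt => cent_of_lr hG L ht hP hu hu1' hz hzt)
    fun x y hx hy hk => prod_of_lr hG L hd ht htp hX hu hx hy hk

end Cfsg.Agent.H620.RootKill
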