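import Cfsg.Agent.H620.RowSL
import Cfsg.Agent.S0292
import Cfsg.Agent.S0293
import Cfsg.Agent.S0294
import Cfsg.Agent.LieClassical.OmegaCenter
import Cfsg.Agent.LieClassical.OmegaReindex

/-!
# The rows of the orthogonal groups (helper620)
-/

set_option autoImplicit false

namespace Cfsg.Agent.H620.RowOm

open Cfsg Module Cfsg.Agent.H620 Cfsg.Agent.H620.Lin Cfsg.Agent.H620.RowSL Matrix
  Cfsg.Agent.LieClassical.OmegaCenter Cfsg.Agent.LieClassical.OmegaReindex QuadraticMap

variable {F : Type*} [Field F] [Fintype F] {ι : Type} [Fintype ι] [DecidableEq ι]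

/-- The inclusion into matrices. -/
def toM (Q : (ι → F) → F) : Omega F Q →* Matrix ι ι F where
  toFun g := omegaMat g
  map_one' := rfl
  map_mul' _ _ := rfl

abbrev pr (Q : (ι → F) → F) : Omega F Q →* POmega F Q :=
  QuotientGroup.mk' (Subgroup.center (Omega F Q))

/-- Hyperbolic pairs and a nonsingular vector orthogonal to them. -/
structure Dat (Q : QuadraticForm F (ι → F)) (u w u' w' a : ι → F) : Prop where
  nd : (polarBilin Q).Nondegenerate
  hu : Q u = 0
  hw : Q w = 0
  hu' : Q u' = 0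
  hw' : Q w' = 0
  ha : Q a ≠ 0
  uu : polar Q u u' = 1
  ww : polar Q w w' = 1
  uw : polar Q u w = 0
  uw' : polar Q u w' = 0
  wu' : polar Q w u' = 0
  u'w' : polar Q u' w' = 0
  ua : polar Q u a = 0
  wa : polar Q w a = 0
  u'a : polar Q u' a = 0
  w'a : polar Q w' a = 0

variable {Q : QuadraticForm F (ι → F)}

omit [Fintype F] in
theorem eichler_mem (nd : (polarBilin Q).Nondegenerate) {p z a : ι → F} (hp : Q p = 0)
    (hz : Q z = 0) (hpz : polar Q p z = 0) (ha : Q a ≠ 0) (hpa : polar Q p a = 0)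
    (hza : polar Q z a = 0) : eichler Q p z hp hpz ∈ Omega F (⇑Q) := by
  have h1 : polar Q p (z + a) = 0 := by rw [QuadraticMap.polar_add_right, hpz, hpa, add_zero]
  have h2 : Q (z + a) ≠ 0 := by
    have : Q (z + a) = Q z + Q a + polar Q z a := by unfold polar; ring
    rw [this, hz, hza]
    simpa using ha
  have h3 := eichler_mem_omega Q nd hp h1 h2
  have h4 := eichler_mem_omega Q nd hp hpa ha
  have h5 : eichler Q p z hp hpz = eichler Q p (z + a) hp h1 * (eichler Q p a hp hpa)⁻¹ := by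
    rw [eq_mul_inv_iff_mul_eq, eichler_mul]
  rw [h5]
  exact Subgroup.mul_mem _ h3 (Subgroup.inv_mem _ h4)

/-- The Siegel transformations as elements of `Omega`. -/
def e (nd : (polarBilin Q).Nondegenerate) {p z a : ι → F} (hp : Q p = 0)
    (hz : Q z = 0) (hpz : polar Q p z = 0) (ha : Q a ≠ 0) (hpa : polar Q p a = 0)
    (hza : polar Q z a = 0) : Omega F (⇑Q) := ⟨eichler Q p z hp hpz, eichler_mem nd hp hz hpz ha hpa hza⟩

omit [Fintype F] in
theorem mat_e (nd : (polarBilin Q).Nondegenerate) {p z a : ι → F} (hp : Q p = 0)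
    (hz : Q z = 0) (hpz : polar Q p z = 0) (ha : Q a ≠ 0) (hpa : polar Q p a = 0)
    (hza : polar Q z a = 0) (v : ι → F) :
    omegaMat (e nd hp hz hpz ha hpa hza) *ᵥ v = v + polar Q p v • z - polar Q z v • p := by
  show eichlerMatrix Q p z *ᵥ v = _
  rw [eichlerMatrix_mulVec, hz]
  simp

omit [Fintype F] in
theorem ext_mulVec {g h : Omega F (⇑Q)} (H : ∀ v, omegaMat g *ᵥ v = omegaMat h *ᵥ v) : g = h := by
  apply omega_ext
  rw [← Matrix.mulVec_injective.eq_iff]
  funext v
  exact H v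

omit [Fintype F] in
theorem mul_mulVec' (g h : Omega F (⇑Q)) (v : ι → F) :
    omegaMat (g * h) *ᵥ v = omegaMat g *ᵥ (omegaMat h *ᵥ v) := by
  rw [mulVec_mulVec]; rfl

omit [Fintype F] in
theorem one_mulVec' (v : ι → F) : omegaMat (1 : Omega F (⇑Q)) *ᵥ v = v := one_mulVec v

omit [Fintype F] [Fintype ι] [DecidableEq ι] in
theorem polar_self0 {p : ι → F} (hp : Q p = 0) : polar Q p p = 0 := by
  rw [QuadraticMap.polar_self, hp, smul_zero]

omit [Fintype F] in
theorem pr_eq_one {u w u' w' a : ι → F} (D : Dat Q u w u' w' a) (hn : 3 ≤ Fintype.card ι)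
    {g : Omega F (⇑Q)} (h : pr (⇑Q) g = 1) : ∃ c : F, ∀ v, omegaMat g *ᵥ v = c • v := by
  have h1 : g ∈ Subgroup.center (Omega F (⇑Q)) := (QuotientGroup.eq_one_iff g).1 h
  have hu0 : u ≠ 0 := by
    intro h
    have := D.uu
    rw [h, QuadraticMap.polar_zero_left] at this
    exact zero_ne_one this
  rcases (mem_center_omega_iff Q D.nd hn ⟨u, hu0, D.hu⟩ g).1 h1 with h2 | h2
  · exact ⟨1, fun v => by rw [h2, one_mulVec, one_smul]⟩
  · exact ⟨-1, fun v => by rw [h2, neg_mulVec, one_mulVec, neg_one_smul]⟩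

/-- The Siegel element of a `Dat`. -/
def xx {u w u' w' a : ι → F} (D : Dat Q u w u' w' a) : Omega F (⇑Q) :=
  e D.nd D.hu D.hw D.uw D.ha D.ua D.wa

omit [Fintype F] in
theorem xx_mulVec {u w u' w' a : ι → F} (D : Dat Q u w u' w' a) (v : ι → F) :
    omegaMat (xx D) *ᵥ v = v + polar Q u v • w - polar Q w v • u :=
  mat_e D.nd D.hu D.hw D.uw D.ha D.ua D.wa v

/-- The row of an orthogonal group, from a killed prime. -/
theorem lieGood_core {u w u' w' a : ι → F} (D : Dat Q u w u' w' a) (r : ℕ) [hr : Fact r.Prime]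
    [CharP F r] {t : ℕ} (ht : t.Prime) (hrt : r ≠ t)
    (h3 : 4 < Fintype.card ι) (htd : t ∣ Nat.card (POmega F (⇑Q)))
    (hkey : Kill (POmega F (⇑Q)) t ∧ ∀ z : POmega F (⇑Q),
      z * pr (⇑Q) (xx D) = pr (⇑Q) (xx D) * z → z ^ t = 1 → z = 1) :
    LieGood (POmega F (⇑Q)) r := by
  have huu := polar_self0 D.hu
  have hww := polar_self0 D.hw
  have hu'u' := polar_self0 D.hu'
  have hw'w' := polar_self0 D.hw'
  have hwu : polar Q w u = 0 := by rw [polar_comm, D.uw]
  have hw'u : polar Q w' u = 0 := by rw [polar_comm, D.uw']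
  have hu'w : polar Q u' w = 0 := by rw [polar_comm, D.wu']
  have hw'u' : polar Q w' u' = 0 := by rw [polar_comm, D.u'w']
  have hu'u : polar Q u' u = 1 := by rw [polar_comm, D.uu]
  have hw'w : polar Q w' w = 1 := by rw [polar_comm, D.ww]
  have hu0 : u ≠ 0 := by
    intro h
    have := D.uu
    rw [h, QuadraticMap.polar_zero_left] at this
    exact zero_ne_one this
  have ha0 : a ≠ 0 := by
    intro h
    apply D.ha
    rw [h, map_zero]
  -- the elements
  set x : Omega F (⇑Q) := xx D with hx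
  set b₁ : Omega F (⇑Q) := e D.nd D.hu D.hw' D.uw' D.ha D.ua D.w'a with hb₁
  set b₂ : Omega F (⇑Q) := e D.nd D.hw D.hu' D.wu' D.ha D.wa D.u'a with hb₂
  have hxv : ∀ v, omegaMat x *ᵥ v = v + polar Q u v • w - polar Q w v • u := xx_mulVec D
  have hb₁v : ∀ v, omegaMat b₁ *ᵥ v = v + polar Q u v • w' - polar Q w' v • u :=
    mat_e _ _ _ _ _ _ _
  have hb₂v : ∀ v, omegaMat b₂ *ᵥ v = v + polar Q w v • u' - polar Q u' v • w :=
    mat_e _ _ _ _ _ _ _
  have hc₁ : b₁ * x = x * b₁ := by
    apply ext_mulVec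
    intro v
    rw [mul_mulVec', mul_mulVec', hxv v, hb₁v, hb₁v v, hxv]
    simp only [QuadraticMap.polar_add_right, QuadraticMap.polar_sub_right,
      QuadraticMap.polar_smul_right, huu, hwu, hw'u, D.uw, D.ww, hw'w, D.uw', smul_eq_mul]
    module
  have hc₂ : b₂ * x = x * b₂ := by
    apply ext_mulVec
    intro v
    rw [mul_mulVec', mul_mulVec', hxv v, hb₂v, hb₂v v, hxv]
    simp only [QuadraticMap.polar_add_right, QuadraticMap.polar_sub_right,
      QuadraticMap.polar_smul_right, hww, hwu, hu'u, D.uw, D.wu', hu'w, D.uu, smul_eq_mul]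
    module
  set y : Omega F (⇑Q) := b₁ * b₂ with hy
  have hcy : y * x = x * y := by
    rw [hy, mul_assoc, hc₂, ← mul_assoc, hc₁, mul_assoc]
  have hyu : omegaMat y *ᵥ u = (2 : F) • u - w := by
    rw [hy, mul_mulVec', hb₂v, hb₁v]
    simp only [QuadraticMap.polar_add_right, QuadraticMap.polar_sub_right,
      QuadraticMap.polar_smul_right, huu, hwu, hu'u, D.uw, hw'u, hw'w, D.uu, smul_eq_mul,
      hw'u']
    module
  have hyw : omegaMat y *ᵥ w = w - u := by
    rw [hy, mul_mulVec', hb₂v, hb₁v]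
    simp only [QuadraticMap.polar_add_right, QuadraticMap.polar_sub_right,
      QuadraticMap.polar_smul_right, hww, hu'w, D.uw, hw'w, smul_eq_mul, D.uu, hw'u']
    module
  have hya : omegaMat y *ᵥ a = a := by
    rw [hy, mul_mulVec', hb₂v, hb₁v]
    simp only [QuadraticMap.polar_add_right, QuadraticMap.polar_sub_right,
      QuadraticMap.polar_smul_right, D.ua, D.wa, D.u'a, D.w'a, smul_eq_mul]
    module
  -- the order of `y` modulo scalars is not a power of `r`
  have hyr : ¬ ∃ m, orderOf (pr (⇑Q) y) = r ^ m := by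
    rintro ⟨m, hm⟩
    have e1 : pr (⇑Q) (y ^ (r ^ m)) = 1 := by rw [map_pow, ← hm, pow_orderOf_eq_one]
    obtain ⟨c, hc⟩ := pr_eq_one D (by omega) e1
    have e2 : ∀ k : ℕ, omegaMat (y ^ k) *ᵥ a = a := by
      intro k
      induction k with
      | zero => rw [pow_zero, one_mulVec']
      | succ k ih => rw [pow_succ, mul_mulVec', hya, ih]
    have hc1 : c = 1 := by
      have h4 := hc a
      rw [e2] at h4
      have h5 : (c - 1) • a = 0 := by rw [sub_smul, one_smul, ← h4, sub_self]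
      exact sub_eq_zero.1 ((smul_eq_zero.1 h5).resolve_right ha0)
    set Y : Matrix ι ι F := omegaMat y with hY
    have e3 : Y ^ (r ^ m) = 1 := by
      have e4 : omegaMat (y ^ (r ^ m)) = Y ^ (r ^ m) := map_pow (toM (⇑Q)) y _
      rw [← e4, ← Matrix.mulVec_injective.eq_iff]
      funext v
      rw [hc, hc1, one_smul, one_mulVec]
    have hne : Nonempty ι := Fintype.card_pos_iff.1 (by omega)
    have e5 : (Y - 1) ^ (r ^ m) = 0 := by
      rw [sub_pow_char_pow_of_commute r m (Commute.one_right Y), e3, one_pow, sub_self]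
    have e6 : ∀ v : ι → F, (Y - 1) *ᵥ v = Y *ᵥ v - v := by
      intro v; rw [sub_mulVec, one_mulVec]
    have e7 : ∀ k : ℕ, ((Y - 1) ^ (2 * k)) *ᵥ u = (Y ^ k) *ᵥ u ∧
        ((Y - 1) ^ (2 * k)) *ᵥ w = (Y ^ k) *ᵥ w := by
      intro k
      induction k with
      | zero => simp
      | succ k ih =>
        have f1 : (Y - 1) ^ (2 * (k + 1)) = (Y - 1) ^ (2 * k) * ((Y - 1) * (Y - 1)) := by
          rw [mul_add, pow_add, mul_one, pow_two]
        have f2 : ((Y - 1) * (Y - 1)) *ᵥ u = Y *ᵥ u := by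
          rw [← mulVec_mulVec, e6, e6, mulVec_sub, hyu, mulVec_sub, mulVec_smul, hyu, hyw]
          module
        have f3 : ((Y - 1) * (Y - 1)) *ᵥ w = Y *ᵥ w := by
          rw [← mulVec_mulVec, e6, e6, mulVec_sub, hyw, mulVec_sub, hyu, hyw]
          module
        constructor
        · rw [f1, ← mulVec_mulVec, f2, pow_succ, ← mulVec_mulVec, hyu, mulVec_sub, mulVec_smul,
            mulVec_sub, mulVec_smul, ih.1, ih.2]
        · rw [f1, ← mulVec_mulVec, f3, pow_succ, ← mulVec_mulVec, hyw, mulVec_sub, mulVec_sub,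
            ih.1, ih.2]
    have e8 := (e7 (r ^ m)).1
    rw [e3, two_mul, pow_add, e5, mul_zero, zero_mulVec, one_mulVec] at e8
    exact hu0 e8.symm
  -- the order of `x`
  have hxk : ∀ k : ℕ, ∀ v, omegaMat (x ^ k) *ᵥ v =
      v + (k : F) • (polar Q u v • w - polar Q w v • u) := by
    intro k
    induction k with
    | zero => intro v; rw [pow_zero, one_mulVec']; simp
    | succ k ih =>
      intro v
      rw [pow_succ, mul_mulVec', hxv v, ih]
      simp only [QuadraticMap.polar_add_right, QuadraticMap.polar_sub_right,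
        QuadraticMap.polar_smul_right, huu, hww, hwu, D.uw, smul_eq_mul]
      push_cast
      module
  have hxr : x ^ (r ^ 1) = 1 := by
    apply ext_mulVec
    intro v
    rw [hxk, pow_one, CharP.cast_eq_zero, zero_smul, add_zero, one_mulVec']
  have hx1 : pr (⇑Q) x ≠ 1 := by
    intro h
    obtain ⟨c, hc⟩ := pr_eq_one D (by omega) h
    have h4 := hc u
    rw [hxv, huu, hwu] at h4
    have h5 : (c - 1) • u = 0 := by
      rw [sub_smul, one_smul, ← h4]
      simp
    have hc1 : c = 1 := sub_eq_zero.1 ((smul_eq_zero.1 h5).resolve_right hu0)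
    have h6 := hc w'
    rw [hxv, D.uw', D.ww, hc1, one_smul, one_smul, zero_smul, add_zero] at h6
    exact hu0 (by simpa using h6)
  refine ⟨t, pr (⇑Q) x, pr (⇑Q) y, 1, ht, hrt, htd, hkey.1, hx1, ?_, hkey.2, ?_, hyr⟩
  · rw [← map_pow, hxr, map_one]
  · rw [← map_mul, ← map_mul, hcy]

/-- The row of an orthogonal group. -/
theorem lieGood_of {u w u' w' a : ι → F} (D : Dat Q u w u' w' a) (r : ℕ) [hr : Fact r.Prime]
    [CharP F r] {t e' : ℕ} (ht : t.Prime) (hs : Small F t e') (h1 : 4 < e')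
    (h2 : Fintype.card ι < e' + 4) (h3 : 4 < Fintype.card ι) (htd : t ∣ Nat.card (POmega F (⇑Q))) :
    LieGood (POmega F (⇑Q)) r := by
  have := Fact.mk ht
  refine lieGood_core D r ht (char_ne hs.1) h3 htd ?_
  have huu := polar_self0 D.hu
  have hww := polar_self0 D.hw
  have hwu : polar Q w u = 0 := by rw [polar_comm, D.uw]
  have hw'u : polar Q w' u = 0 := by rw [polar_comm, D.uw']
  have hu'w : polar Q u' w = 0 := by rw [polar_comm, D.wu']
  have hu'u : polar Q u' u = 1 := by rw [polar_comm, D.uu]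
  have hw'w : polar Q w' w = 1 := by rw [polar_comm, D.ww]
  let φ : (ι → F) →ₗ[F] F := polarBilin Q u
  let ψ : (ι → F) →ₗ[F] F := -(polarBilin Q w)
  have hφ : ∀ v, φ v = polar Q u v := fun v => rfl
  have hψ : ∀ v, ψ v = -(polar Q w v) := fun v => rfl
  exact kill_of_siegel (pr (⇑Q)) (QuotientGroup.mk'_surjective _) (toM (⇑Q))
    (fun g hg => pr_eq_one D (by omega) hg) (fun g hg => by
      have : g = 1 := omega_ext hg
      rw [this, map_one]) hs (xx D) w u φ ψ (fun v => by
        show omegaMat (xx D) *ᵥ v = _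
        rw [xx_mulVec, hφ, hψ]
        module) (by
        rw [LinearIndependent.pair_iff]
        intro c d hcd
        have f1 := congrArg (fun z => polar Q w' z) hcd
        have f2 := congrArg (fun z => polar Q u' z) hcd
        simp only [QuadraticMap.polar_add_right, QuadraticMap.polar_smul_right, hw'w, hw'u, hu'w,
          hu'u, smul_eq_mul, QuadraticMap.polar_zero_right] at f1 f2
        constructor
        · linear_combination f1
        · linear_combination f2)
    (by rw [hφ, D.uw]) (by rw [hφ, huu]) (by rw [hψ, hww, neg_zero]) (by rw [hψ, hwu, neg_zero])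
    u' (-w') (by rw [hφ, D.uu]) (by rw [hψ, D.wu', neg_zero])
    (by rw [hφ, QuadraticMap.polar_neg_right, D.uw', neg_zero])
    (by rw [hψ, QuadraticMap.polar_neg_right, D.ww, neg_neg]) h1 h2 h3

/-! ### The three families -/

variable {m : ℕ}

omit [Fintype F] in
theorem dat_plus (hm : 3 ≤ m) : Dat (quadPlus m F) (Pi.single (.inl ⟨0, by omega⟩) 1)
    (Pi.single (.inl ⟨1, by omega⟩) 1) (Pi.single (.inr ⟨0, by omega⟩) 1)
    (Pi.single (.inr ⟨1, by omega⟩) 1)
    (Pi.single (.inl ⟨2, by omega⟩) 1 + Pi.single (.inr ⟨2, by omega⟩) 1) where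
  nd := quadPlus_nondegenerate
  hu := by rw [coe_quadPlus]; simp [quadFormPlus, Pi.single_apply]
  hw := by rw [coe_quadPlus]; simp [quadFormPlus, Pi.single_apply]
  hu' := by rw [coe_quadPlus]; simp [quadFormPlus, Pi.single_apply]
  hw' := by rw [coe_quadPlus]; simp [quadFormPlus, Pi.single_apply]
  ha := by rw [coe_quadPlus]; simp [quadFormPlus, Pi.single_apply]
  uu := by rw [polar_quadPlus]; simp [Pi.single_apply]
  ww := by rw [polar_quadPlus]; simp [Pi.single_apply]
  uw := by rw [polar_quadPlus]; simp [Pi.single_apply]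
  uw' := by rw [polar_quadPlus]; simp [Pi.single_apply]
  wu' := by rw [polar_quadPlus]; simp [Pi.single_apply]
  u'w' := by rw [polar_quadPlus]; simp [Pi.single_apply]
  ua := by rw [polar_quadPlus]; simp [Pi.single_apply]
  wa := by rw [polar_quadPlus]; simp [Pi.single_apply]
  u'a := by rw [polar_quadPlus]; simp [Pi.single_apply]
  w'a := by rw [polar_quadPlus]; simp [Pi.single_apply]

omit [Fintype F] in
theorem dat_odd (h2 : (2 : F) ≠ 0) (hm : 3 ≤ m) :
    Dat (quadOdd m F) (Pi.single (.inr (.inl ⟨0, by omega⟩)) 1)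
    (Pi.single (.inr (.inl ⟨1, by omega⟩)) 1) (Pi.single (.inr (.inr ⟨0, by omega⟩)) 1)
    (Pi.single (.inr (.inr ⟨1, by omega⟩)) 1)
    (Pi.single (.inr (.inl ⟨2, by omega⟩)) 1 + Pi.single (.inr (.inr ⟨2, by omega⟩)) 1) where
  nd := quadOdd_nondegenerate h2
  hu := by rw [coe_quadOdd]; simp [quadFormOdd, Pi.single_apply]
  hw := by rw [coe_quadOdd]; simp [quadFormOdd, Pi.single_apply]
  hu' := by rw [coe_quadOdd]; simp [quadFormOdd, Pi.single_apply]
  hw' := by rw [coe_quadOdd]; simp [quadFormOdd, Pi.single_apply]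
  ha := by rw [coe_quadOdd]; simp [quadFormOdd, Pi.single_apply]
  uu := by rw [polar_quadOdd]; simp [Pi.single_apply]
  ww := by rw [polar_quadOdd]; simp [Pi.single_apply]
  uw := by rw [polar_quadOdd]; simp [Pi.single_apply]
  uw' := by rw [polar_quadOdd]; simp [Pi.single_apply]
  wu' := by rw [polar_quadOdd]; simp [Pi.single_apply]
  u'w' := by rw [polar_quadOdd]; simp [Pi.single_apply]
  ua := by rw [polar_quadOdd]; simp [Pi.single_apply]
  wa := by rw [polar_quadOdd]; simp [Pi.single_apply]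
  u'a := by rw [polar_quadOdd]; simp [Pi.single_apply]
  w'a := by rw [polar_quadOdd]; simp [Pi.single_apply]

theorem dat_minus {a b : F}
    (hab : ∀ z₁ z₂ : F, z₁ ^ 2 + a * z₁ * z₂ + b * z₂ ^ 2 = 0 → z₁ = 0 ∧ z₂ = 0) (hm : 3 ≤ m) :
    Dat (quadMinus m F a b) (Pi.single (.inl (.inl ⟨0, by omega⟩)) 1)
    (Pi.single (.inl (.inl ⟨1, by omega⟩)) 1) (Pi.single (.inl (.inr ⟨0, by omega⟩)) 1)
    (Pi.single (.inl (.inr ⟨1, by omega⟩)) 1)
    (Pi.single (.inl (.inl ⟨2, by omega⟩)) 1 + Pi.single (.inl (.inr ⟨2, by omega⟩)) 1) where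
  nd := quadMinus_nondegenerate hab
  hu := by rw [coe_quadMinus]; simp [quadFormMinus, Pi.single_apply]
  hw := by rw [coe_quadMinus]; simp [quadFormMinus, Pi.single_apply]
  hu' := by rw [coe_quadMinus]; simp [quadFormMinus, Pi.single_apply]
  hw' := by rw [coe_quadMinus]; simp [quadFormMinus, Pi.single_apply]
  ha := by rw [coe_quadMinus]; simp [quadFormMinus, Pi.single_apply]
  uu := by rw [polar_quadMinus]; simp [Pi.single_apply]
  ww := by rw [polar_quadMinus]; simp [Pi.single_apply]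
  uw := by rw [polar_quadMinus]; simp [Pi.single_apply]
  uw' := by rw [polar_quadMinus]; simp [Pi.single_apply]
  wu' := by rw [polar_quadMinus]; simp [Pi.single_apply]
  u'w' := by rw [polar_quadMinus]; simp [Pi.single_apply]
  ua := by rw [polar_quadMinus]; simp [Pi.single_apply]
  wa := by rw [polar_quadMinus]; simp [Pi.single_apply]
  u'a := by rw [polar_quadMinus]; simp [Pi.single_apply]
  w'a := by rw [polar_quadMinus]; simp [Pi.single_apply]

theorem not_dvd_of_primitive {n t N : ℕ} (ht : t.Prime) (hn : n ∣ t - 1) (hn4 : 4 ≤ n)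
    (h : t ∣ Nat.gcd 4 N) : False := by
  have h1 : t ∣ 4 := h.trans (Nat.gcd_dvd_left _ _)
  have h2 := Nat.le_of_dvd (by norm_num) h1
  have h3 := ht.two_le
  have h4 := Nat.le_of_dvd (by omega) hn
  omega

/-- **The row of `PΩ⁺_{2m}(q)`**, except `PΩ⁺_8(2)`. -/
theorem lieGood_plus (hm : 4 ≤ m) (hex : ¬ (Fintype.card F = 2 ∧ m = 4)) (r : ℕ)
    [hr : Fact r.Prime] [CharP F r] : LieGood (POmega F (quadFormPlus m F)) r := by
  have hq : 2 ≤ Fintype.card F := Fintype.one_lt_card
  have hcard := Cfsg.Agent.S0293.result (F := F) rfl m hm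
  obtain ⟨t, ht, hprim, htn, htq⟩ := Cfsg.Agent.Lib.Zsigmondy.exists_primitive
    (a := Fintype.card F) (n := 2 * m - 2) hq (by omega) (by omega) (by omega)
  rw [← coe_quadPlus] at hcard ⊢
  have hι : Fintype.card (Fin m ⊕ Fin m) = 2 * m := by simp; ring
  refine lieGood_of (dat_plus (by omega)) r ht (small_of_primitive hprim htq le_rfl)
    (by omega) (by omega) (by omega) ?_
  have h1 : t ∣ Nat.gcd 4 (Fintype.card F ^ m - 1) * Nat.card (POmega F (⇑(quadPlus m F))) := by
    rw [hcard]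
    refine dvd_mul_of_dvd_right (dvd_trans ?_ (Finset.dvd_prod_of_mem _
      (Finset.mem_range.2 (show m - 2 < m - 1 by omega)))) _
    rw [hprim]
    exact ⟨1, by omega⟩
  rcases ht.dvd_mul.1 h1 with h2 | h2
  · exact (not_dvd_of_primitive ht htn (by omega) h2).elim
  · exact h2

/-- **The row of `PΩ⁻_{2m}(q)`**. -/
theorem lieGood_minus (hm : 4 ≤ m) {a b : F}
    (hab : ∀ z₁ z₂ : F, z₁ ^ 2 + a * z₁ * z₂ + b * z₂ ^ 2 = 0 → z₁ = 0 ∧ z₂ = 0) (r : ℕ)
    [hr : Fact r.Prime] [CharP F r] : LieGood (POmega F (quadFormMinus (m - 1) F a b)) r := by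
  have hq : 2 ≤ Fintype.card F := Fintype.one_lt_card
  have hcard := Cfsg.Agent.S0294.result (F := F) rfl m hm a b hab
  obtain ⟨t, ht, hprim, htn, htq⟩ := Cfsg.Agent.Lib.Zsigmondy.exists_primitive
    (a := Fintype.card F) (n := 2 * m) hq (by omega) (by omega) (by omega)
  rw [← coe_quadMinus] at hcard ⊢
  have hι : Fintype.card ((Fin (m - 1) ⊕ Fin (m - 1)) ⊕ Fin 2) = 2 * m := by
    simp only [Fintype.card_sum, Fintype.card_fin]; omega
  refine lieGood_of (dat_minus hab (by omega)) r ht (small_of_primitive hprim htq le_rfl)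
    (by omega) (by omega) (by omega) ?_
  have h5 : t ∣ Fintype.card F ^ m + 1 := by
    have h6 : t ∣ Fintype.card F ^ (2 * m) - 1 := (hprim _).2 dvd_rfl
    have h7 : Fintype.card F ^ (2 * m) - 1 = (Fintype.card F ^ m + 1) * (Fintype.card F ^ m - 1) := by
      rw [mul_comm 2 m, pow_mul, ← one_pow 2, Nat.sq_sub_sq, one_pow]
    rw [h7] at h6
    rcases ht.dvd_mul.1 h6 with h8 | h8
    · exact h8
    · exfalso
      have := Nat.le_of_dvd (by omega) ((hprim m).1 h8)
      omega
  have h1 : t ∣ Nat.gcd 4 (Fintype.card F ^ m + 1) *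
      Nat.card (POmega F (⇑(quadMinus (m - 1) F a b))) := by
    rw [hcard]
    exact dvd_mul_of_dvd_left (dvd_mul_of_dvd_right h5 _) _
  rcases ht.dvd_mul.1 h1 with h2 | h2
  · exact (not_dvd_of_primitive ht htn (by omega) h2).elim
  · exact h2

/-- **The row of `PΩ_{2m+1}(q)`**. -/
theorem lieGood_odd (hodd : Odd (Fintype.card F)) (hm : 3 ≤ m) (r : ℕ)
    [hr : Fact r.Prime] [CharP F r] : LieGood (POmega F (quadFormOdd m F)) r := by
  have hq : 2 ≤ Fintype.card F := Fintype.one_lt_card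
  have h2 : (2 : F) ≠ 0 := Cfsg.Agent.LieClassical.PomegaCard.odd_card_iff.1 hodd
  have hcard := Cfsg.Agent.S0292.result (F := F) rfl hodd m hm
  have hq2 : Fintype.card F ≠ 2 := by
    intro h
    rw [h] at hodd
    exact absurd hodd (by decide)
  obtain ⟨t, ht, hprim, htn, htq⟩ := Cfsg.Agent.Lib.Zsigmondy.exists_primitive
    (a := Fintype.card F) (n := 2 * m) hq (by omega) (by omega) (by omega)
  rw [← coe_quadOdd] at hcard ⊢
  have hι : Fintype.card (Unit ⊕ (Fin m ⊕ Fin m)) = 2 * m + 1 := by simp; ring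
  refine lieGood_of (dat_odd h2 (by omega)) r ht (small_of_primitive hprim htq le_rfl)
    (by omega) (by omega) (by omega) ?_
  have h1 : t ∣ 2 * Nat.card (POmega F (⇑(quadOdd m F))) := by
    rw [hcard]
    refine dvd_mul_of_dvd_right (dvd_trans ?_ (Finset.dvd_prod_of_mem _
      (Finset.mem_range.2 (show m - 1 < m by omega)))) _
    rw [hprim]
    exact ⟨1, by omega⟩
  rcases ht.dvd_mul.1 h1 with h2 | h2
  · exfalso
    have h3 := Nat.le_of_dvd (by norm_num) h2
    have h4 := ht.two_le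
    have h5 := Nat.le_of_dvd (by omega) htn
    omega
  · exact h2

end Cfsg.Agent.H620.RowOm
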