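import Cfsg.Agent.H620.LinMat
import Cfsg.Agent.Lib.Zsigmondy
import Cfsg.Agent.S0243
import Cfsg.Prelude.Def_Classical

/-!
# The rows of `PSL_n(q)`, `n ≥ 3` (helper620)
-/

set_option autoImplicit false

namespace Cfsg.Agent.H620.RowSL

open Cfsg Module Cfsg.Agent.H620 Cfsg.Agent.H620.Lin Matrix

theorem not_pow_of {S : Type*} [Group S] {r N : ℕ} (hrN : r.Coprime N) {y : S} (h : y ^ N = 1)
    (hy : y ≠ 1) : ¬ ∃ m, orderOf y = r ^ m := by
  rintro ⟨m, hm⟩
  have h1 : orderOf y ∣ N := orderOf_dvd_of_pow_eq_one h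
  have h2 : (orderOf y).Coprime N := by
    rw [hm]
    exact Nat.Coprime.pow_left m hrN
  exact hy (orderOf_eq_one_iff.1 (Nat.Coprime.eq_one_of_dvd h2 h1))

theorem coprime_pred {F : Type*} [Field F] [Fintype F] {r : ℕ} [hr : Fact r.Prime] [CharP F r] :
    r.Coprime (Fintype.card F - 1) := by
  obtain ⟨n, -, hn⟩ := FiniteField.card F r
  rw [hn]
  rw [Nat.Prime.coprime_iff_not_dvd hr.out]
  intro h
  have h1 : r ∣ r ^ (n : ℕ) := dvd_pow_self r n.pos.ne'
  have h2 : 1 ≤ r ^ (n : ℕ) := Nat.one_le_pow _ _ hr.out.pos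
  have h3 : r ∣ 1 := by
    have := Nat.dvd_sub h1 h
    rwa [Nat.sub_sub_self h2] at this
  exact hr.out.one_lt.ne' (Nat.dvd_one.1 h3)

theorem char_ne {F : Type*} [Field F] [Fintype F] {r t : ℕ} [Fact r.Prime] [CharP F r]
    (ht : ¬ t ∣ Fintype.card F) : r ≠ t := by
  rintro rfl
  obtain ⟨n, -, hn⟩ := FiniteField.card F r
  apply ht
  rw [hn]
  exact dvd_pow_self r n.pos.ne'

variable {F : Type*} [Field F] [Fintype F] {n : ℕ}

omit [Fintype F] in
theorem det_tv (a φ : Fin n → F) (h : φ ⬝ᵥ a = 0) : (1 + vecMulVec a φ).det = 1 := by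
  have h1 := det_one_add_replicateCol_mul_replicateRow (ι := Unit) a φ
  rw [h, add_zero] at h1
  rw [← h1, vecMulVec_eq Unit]

/-- The transvection `v ↦ v + φ(v) a`. -/
def tv (a φ : Fin n → F) (h : φ ⬝ᵥ a = 0) : SpecialLinearGroup (Fin n) F :=
  ⟨1 + vecMulVec a φ, det_tv a φ h⟩

omit [Fintype F] in
theorem tv_mulVec (a φ : Fin n → F) (h : φ ⬝ᵥ a = 0) (v : Fin n → F) :
    (tv a φ h).1 *ᵥ v = v + (φ ⬝ᵥ v) • a := by
  show (1 + vecMulVec a φ) *ᵥ v = _
  rw [add_mulVec, one_mulVec, vecMulVec_mulVec, op_smul_eq_smul]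

/-- The inclusion into matrices. -/
def toM (n : ℕ) (F : Type*) [Field F] : SpecialLinearGroup (Fin n) F →* Matrix (Fin n) (Fin n) F where
  toFun g := g.1
  map_one' := rfl
  map_mul' _ _ := rfl

abbrev pr (n : ℕ) (F : Type*) [Field F] :
    SpecialLinearGroup (Fin n) F →* ProjectiveSpecialLinearGroup (Fin n) F :=
  QuotientGroup.mk' (Subgroup.center (SpecialLinearGroup (Fin n) F))

omit [Fintype F] in
theorem pr_eq_one {g : SpecialLinearGroup (Fin n) F} (h : pr n F g = 1) :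
    ∃ c : F, ∀ v, g.1 *ᵥ v = c • v := by
  have h1 : g ∈ Subgroup.center (SpecialLinearGroup (Fin n) F) := (QuotientGroup.eq_one_iff g).1 h
  obtain ⟨c, -, hc⟩ := Matrix.SpecialLinearGroup.mem_center_iff.1 h1
  refine ⟨c, fun v => ?_⟩
  rw [← hc]
  ext i
  simp [Matrix.scalar_apply, Matrix.mulVec_diagonal]

omit [Fintype F] in
theorem pr_ne_one {g : SpecialLinearGroup (Fin n) F} {v : Fin n → F} (hv : v ≠ 0)
    (h1 : g.1 *ᵥ v = v) {w : Fin n → F} (h2 : g.1 *ᵥ w ≠ w) : pr n F g ≠ 1 := by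
  intro h
  obtain ⟨c, hc⟩ := pr_eq_one h
  have h3 := hc v
  rw [h1] at h3
  have h4 : (c - 1) • v = 0 := by rw [sub_smul, one_smul, ← h3, sub_self]
  have h5 : c = 1 := sub_eq_zero.1 ((smul_eq_zero.1 h4).resolve_right hv)
  rw [hc, h5, one_smul] at h2
  exact h2 rfl

/-- The prime. -/
theorem exists_t (hn : 3 ≤ n) : ∃ t e : ℕ, t.Prime ∧ Small F t e ∧ 2 < e ∧ n < e + 2 ∧
    t ∣ Nat.card (ProjectiveSpecialLinearGroup (Fin n) F) := by
  have hq : 2 ≤ Fintype.card F := Fintype.one_lt_card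
  have hcard := Cfsg.Agent.S0243.result (F := F) rfl n (by omega)
  by_cases hex : Fintype.card F = 2 ∧ n = 6
  · obtain ⟨h2, rfl⟩ := hex
    refine ⟨31, 5, by norm_num, ⟨by rw [h2]; norm_num, ?_⟩, by norm_num, by norm_num, ?_⟩
    · intro i hi0 hi
      rw [h2]
      interval_cases i <;> norm_num
    · rw [h2] at hcard
      have h31 : Nat.Prime 31 := by norm_num
      have : 31 ∣ Nat.gcd 6 (2 - 1) *
          ((2 - 1) * Nat.card (ProjectiveSpecialLinearGroup (Fin 6) F)) := by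
        rw [hcard]
        exact dvd_trans (by norm_num) (Finset.dvd_prod_of_mem _ (Finset.mem_univ (1 : Fin 6)))
      simpa using this
  · obtain ⟨t, ht, hprim, -, htq⟩ := Cfsg.Agent.Lib.Zsigmondy.exists_primitive (a := Fintype.card F)
      (n := n) hq (by omega) (by omega) hex
    refine ⟨t, n, ht, small_of_primitive hprim htq le_rfl, by omega, by omega, ?_⟩
    have h1 : t ∣ Nat.gcd n (Fintype.card F - 1) * ((Fintype.card F - 1) *
        Nat.card (ProjectiveSpecialLinearGroup (Fin n) F)) := by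
      rw [hcard]
      refine dvd_trans ?_ (Finset.dvd_prod_of_mem _ (Finset.mem_univ (⟨0, by omega⟩ : Fin n)))
      simp only [pow_zero]
      exact (hprim n).2 dvd_rfl
    have h2 : ¬ t ∣ Fintype.card F - 1 := by
      intro h
      have h3 := (hprim 1).1 (by rwa [pow_one])
      have := Nat.dvd_one.1 h3
      omega
    rcases ht.dvd_mul.1 h1 with h4 | h3
    · exact absurd (h4.trans (Nat.gcd_dvd_right _ _)) h2
    · rcases ht.dvd_mul.1 h3 with h4 | h4
      · exact absurd h4 h2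
      · exact h4

/-- From a transvection and an element commuting with it. -/
theorem lieGood_of (hn : 3 ≤ n) (r : ℕ) [hr : Fact r.Prime] [CharP F r] (a φ : Fin n → F)
    (h : φ ⬝ᵥ a = 0) (ha : a ≠ 0) (v₀ : Fin n → F) (hv₀ : φ ⬝ᵥ v₀ = 1)
    (y : SpecialLinearGroup (Fin n) F) (c : F) (hya : y.1 *ᵥ a = c • a)
    (hyφ : ∀ v, φ ⬝ᵥ (y.1 *ᵥ v) = c * (φ ⬝ᵥ v)) (N : ℕ) (hN : r.Coprime N) (hyN : y ^ N = 1)
    (hy1 : pr n F y ≠ 1) : LieGood (ProjectiveSpecialLinearGroup (Fin n) F) r := by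
  obtain ⟨t, e, ht, hs, he, hne, htd⟩ := exists_t (F := F) hn
  have := Fact.mk ht
  let φl : (Fin n → F) →ₗ[F] F :=
    { toFun := fun v => φ ⬝ᵥ v
      map_add' := fun v w => dotProduct_add _ _ _
      map_smul' := fun d v => by simp [dotProduct_smul] }
  have hkey := kill_of_transvection (pr n F) (QuotientGroup.mk'_surjective _) (toM n F)
    (fun g hg => pr_eq_one hg) (fun g hg => by
      have : g = 1 := Subtype.ext hg
      rw [this, map_one]) hs (tv a φ h) a φl (tv_mulVec a φ h) ha h v₀ hv₀ he (by simpa using hne)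
    (by rw [Fintype.card_fin]; omega)
  have hx1 : pr n F (tv a φ h) ≠ 1 := by
    refine pr_ne_one ha ?_ (w := v₀) ?_
    · rw [tv_mulVec, h, zero_smul, add_zero]
    · rw [tv_mulVec, hv₀, one_smul]
      intro h1
      exact ha (by simpa using h1)
  have hxr : (tv a φ h) ^ (r ^ 1) = 1 := by
    have key : ∀ m : ℕ, ∀ v, ((tv a φ h) ^ m).1 *ᵥ v = v + (m : F) • ((φ ⬝ᵥ v) • a) := by
      intro m
      induction m with
      | zero => intro v; simp
      | succ m ih =>
        intro v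
        have e1 : ((tv a φ h) ^ (m + 1)).1 = ((tv a φ h) ^ m).1 * (tv a φ h).1 := by
          rw [pow_succ]; rfl
        rw [e1, ← mulVec_mulVec, tv_mulVec, ih, dotProduct_add, dotProduct_smul, h, smul_zero,
          add_zero]
        push_cast
        rw [add_smul, one_smul]
        abel
    apply Subtype.ext
    apply Matrix.ext_of_mulVec_single
    intro i
    rw [key, pow_one, CharP.cast_eq_zero, zero_smul, add_zero]
    show _ = (1 : Matrix (Fin n) (Fin n) F) *ᵥ _
    rw [one_mulVec]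
  refine ⟨t, pr n F (tv a φ h), pr n F y, 1, ht, char_ne hs.1, htd, hkey.1, hx1, ?_, hkey.2, ?_, ?_⟩
  · rw [← map_pow, hxr, map_one]
  · rw [← map_mul, ← map_mul]
    congr 1
    apply Subtype.ext
    apply Matrix.ext_of_mulVec_single
    intro i
    show (y.1 * (tv a φ h).1) *ᵥ _ = ((tv a φ h).1 * y.1) *ᵥ _
    rw [← mulVec_mulVec, ← mulVec_mulVec, tv_mulVec, tv_mulVec, mulVec_add, mulVec_smul, hya, hyφ,
      smul_smul, mul_comm c]
  · exact not_pow_of hN (by rw [← map_pow, hyN, map_one]) hy1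

/-- The diagonal matrix `diag(c, c, c⁻², 1, …)`. -/
def dg (hn : 3 ≤ n) (c : Fˣ) : SpecialLinearGroup (Fin n) F :=
  ⟨diagonal fun i => if (i : ℕ) = 0 then (c : F) else if (i : ℕ) = 1 then (c : F) else
    if (i : ℕ) = 2 then ((c⁻¹ ^ 2 : Fˣ) : F) else 1, by
    rw [det_diagonal]
    obtain ⟨k, rfl⟩ : ∃ k, n = k + 3 := ⟨n - 3, by omega⟩
    rw [Fin.prod_univ_succ, Fin.prod_univ_succ, Fin.prod_univ_succ]
    rw [Finset.prod_eq_one]
    · simp only [Fin.val_zero, Fin.val_succ, if_true, Units.val_pow_eq_pow_val, mul_one]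
      have := c.ne_zero
      simp
      field_simp
    · intro i _
      simp only [Fin.val_succ]
      rw [if_neg (by omega), if_neg (by omega), if_neg (by omega)]⟩

omit [Fintype F] in
theorem dg_mulVec (hn : 3 ≤ n) (c : Fˣ) (v : Fin n → F) (i : Fin n) :
    ((dg hn c).1 *ᵥ v) i = (if (i : ℕ) = 0 then (c : F) else if (i : ℕ) = 1 then (c : F) else
    if (i : ℕ) = 2 then ((c⁻¹ ^ 2 : Fˣ) : F) else 1) * v i := by
  show (diagonal _ *ᵥ v) i = _
  rw [mulVec_diagonal]

omit [Fintype F] in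
theorem dg_pow (hn : 3 ≤ n) (c : Fˣ) (N : ℕ) (hc : c ^ N = 1) : (dg hn c) ^ N = 1 := by
  apply Subtype.ext
  show ((dg hn c) ^ N).1 = (1 : Matrix (Fin n) (Fin n) F)
  have e1 : ((dg hn c) ^ N).1 = (dg hn c).1 ^ N := rfl
  rw [e1]
  show (diagonal _) ^ N = (1 : Matrix (Fin n) (Fin n) F)
  rw [diagonal_pow, ← diagonal_one]
  congr 1
  funext i
  simp only [Pi.pow_apply, ite_pow, one_pow]
  have h1 : (c : F) ^ N = 1 := by
    rw [← Units.val_pow_eq_pow_val, hc]; rfl
  have h2 : ((c⁻¹ ^ 2 : Fˣ) : F) ^ N = 1 := by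
    rw [← Units.val_pow_eq_pow_val, ← pow_mul, mul_comm, pow_mul, inv_pow, hc]
    simp
  rw [h1, h2]
  simp

/-- The row of `PSL_n(q)` from a scalar. -/
theorem lieGood_diag (hn : 3 ≤ n) (r : ℕ) [hr : Fact r.Prime] [CharP F r] (c : Fˣ)
    (hc : if n = 3 then c ^ 3 ≠ 1 else c ≠ 1) : LieGood (ProjectiveSpecialLinearGroup (Fin n) F) r := by
  classical
  let i0 : Fin n := ⟨0, by omega⟩
  let i1 : Fin n := ⟨1, by omega⟩
  let i2 : Fin n := ⟨2, by omega⟩
  have h01 : i0 ≠ i1 := by simp [i0, i1]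
  refine lieGood_of hn r (Pi.single i0 1) (Pi.single i1 1) ?_ ?_ (Pi.single i1 1) ?_ (dg hn c) c
    ?_ ?_ (Fintype.card F - 1) coprime_pred (dg_pow hn c _ ?_) ?_
  · simp [h01]
  · intro h
    have := congrFun h i0
    simp at this
  · simp
  · funext i
    rw [dg_mulVec]
    by_cases hi : i = i0
    · subst hi
      simp [i0]
    · simp [Pi.single_eq_of_ne hi]
  · intro v
    rw [single_dotProduct, single_dotProduct, dg_mulVec]
    simp [i1]
  · rw [← Nat.card_eq_fintype_card, ← Nat.card_units]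
    exact pow_card_eq_one'
  · intro h
    obtain ⟨d, hd⟩ := pr_eq_one h
    have e0 := congrFun (hd (Pi.single i0 1)) i0
    have e2 := congrFun (hd (Pi.single i2 1)) i2
    rw [dg_mulVec] at e0 e2
    simp only [i0, i2, Pi.single_eq_same, Pi.smul_apply, smul_eq_mul, mul_one] at e0 e2
    simp only [if_true] at e0
    rw [if_neg (by norm_num), if_neg (by norm_num), if_pos trivial] at e2
    have e3 : c⁻¹ ^ 2 = c := Units.ext (by rw [e2, e0])
    have e4 : c ^ 3 = 1 := by
      calc c ^ 3 = c ^ 2 * c := by rw [pow_succ]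
        _ = c ^ 2 * c⁻¹ ^ 2 := by rw [e3]
        _ = 1 := by rw [← mul_pow, mul_inv_cancel, one_pow]
    by_cases hn3 : n = 3
    · rw [if_pos hn3] at hc
      exact hc e4
    · rw [if_neg hn3] at hc
      let i3 : Fin n := ⟨3, by omega⟩
      have e5 := congrFun (hd (Pi.single i3 1)) i3
      rw [dg_mulVec] at e5
      simp only [i3, Pi.single_eq_same, Pi.smul_apply, smul_eq_mul, mul_one] at e5
      rw [if_neg (by norm_num), if_neg (by norm_num), if_neg (by norm_num)] at e5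
      apply hc
      apply Units.ext
      rw [e0, ← e5]
      rfl

/-- The row of `PSL_n(2)`, `n ≥ 4`. -/
theorem lieGood_two (hn : 4 ≤ n) [CharP F 2] : LieGood (ProjectiveSpecialLinearGroup (Fin n) F) 2 := by
  classical
  have h2 : Fact (Nat.Prime 2) := ⟨Nat.prime_two⟩
  let i0 : Fin n := ⟨0, by omega⟩
  let i1 : Fin n := ⟨1, by omega⟩
  let i2 : Fin n := ⟨2, by omega⟩
  let i3 : Fin n := ⟨3, by omega⟩
  have h01 : i0 ≠ i1 := by simp [i0, i1]
  have h02 : i0 ≠ i2 := by simp [i0, i2]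
  have h03 : i0 ≠ i3 := by simp [i0, i3]
  have h12 : i1 ≠ i2 := by simp [i1, i2]
  have h13 : i1 ≠ i3 := by simp [i1, i3]
  have h23 : i2 ≠ i3 := by simp [i2, i3]
  let σ : Equiv.Perm (Fin n) := Equiv.swap i1 i2 * Equiv.swap i2 i3
  have hσ0 : σ i0 = i0 := by
    show Equiv.swap i1 i2 (Equiv.swap i2 i3 i0) = i0
    rw [Equiv.swap_apply_of_ne_of_ne h02 h03, Equiv.swap_apply_of_ne_of_ne h01 h02]
  have hσ1 : σ i1 = i2 := by
    show Equiv.swap i1 i2 (Equiv.swap i2 i3 i1) = i2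
    rw [Equiv.swap_apply_of_ne_of_ne h12 h13, Equiv.swap_apply_left]
  have hσ2 : σ i2 = i3 := by
    show Equiv.swap i1 i2 (Equiv.swap i2 i3 i2) = i3
    rw [Equiv.swap_apply_left, Equiv.swap_apply_of_ne_of_ne h13.symm h23.symm]
  have hσ3 : σ i3 = i1 := by
    show Equiv.swap i1 i2 (Equiv.swap i2 i3 i3) = i1
    rw [Equiv.swap_apply_right, Equiv.swap_apply_right]
  have hσfix : ∀ j, j ≠ i1 → j ≠ i2 → j ≠ i3 → σ j = j := by
    intro j h1 h2 h3
    show Equiv.swap i1 i2 (Equiv.swap i2 i3 j) = j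
    rw [Equiv.swap_apply_of_ne_of_ne h2 h3, Equiv.swap_apply_of_ne_of_ne h1 h2]
  have hσ : σ ^ 3 = 1 := by
    ext1 j
    show σ (σ (σ j)) = j
    by_cases h1 : j = i1
    · rw [h1, hσ1, hσ2, hσ3]
    by_cases h2 : j = i2
    · rw [h2, hσ2, hσ3, hσ1]
    by_cases h3 : j = i3
    · rw [h3, hσ3, hσ1, hσ2]
    rw [hσfix j h1 h2 h3, hσfix j h1 h2 h3, hσfix j h1 h2 h3]
  have hsign : Equiv.Perm.sign σ = 1 := by
    rw [Equiv.Perm.sign_mul, Equiv.Perm.sign_swap h12, Equiv.Perm.sign_swap h23]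
    rfl
  let y : SpecialLinearGroup (Fin n) F := ⟨σ.permMatrix F, by
    rw [det_permutation, hsign]; simp⟩
  have hy : ∀ v i, (y.1 *ᵥ v) i = v (σ i) := by
    intro v i
    show (σ.permMatrix F *ᵥ v) i = _
    rw [Matrix.permMatrix_mulVec]
    rfl
  have hyN : y ^ 3 = 1 := by
    apply Subtype.ext
    apply Matrix.ext_of_mulVec_single
    intro i
    have e1 : (y ^ 3).1 = y.1 * (y.1 * y.1) := by
      rw [pow_succ, pow_two, mul_assoc]; rfl
    rw [e1, ← mulVec_mulVec, ← mulVec_mulVec]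
    show _ = (1 : Matrix (Fin n) (Fin n) F) *ᵥ _
    rw [one_mulVec]
    funext j
    rw [hy, hy, hy]
    have : σ (σ (σ j)) = j := by
      have := congrArg (fun τ : Equiv.Perm (Fin n) => τ j) hσ
      exact this
    rw [this]
  refine lieGood_of (by omega) 2 (Pi.single i0 1)
    (Pi.single i1 1 + Pi.single i2 1 + Pi.single i3 1) ?_ ?_ (Pi.single i1 1) ?_ y 1
    ?_ ?_ 3 (by norm_num) hyN ?_
  · simp [h01, h02, h03]
  · intro h
    have := congrFun h i0
    simp at this
  · simp [h12, h13]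
  · funext i
    rw [hy, one_smul]
    by_cases hi : i = i0
    · rw [hi, hσ0]
    · rw [Pi.single_eq_of_ne hi, Pi.single_eq_of_ne]
      intro h
      apply hi
      apply σ.injective
      rw [h, hσ0]
  · intro v
    simp only [add_dotProduct, single_dotProduct, hy, hσ1, hσ2, hσ3, one_mul]
    ring
  · refine pr_ne_one (v := Pi.single i0 1) ?_ ?_ (w := Pi.single i1 1) ?_
    · intro h
      have := congrFun h i0
      simp at this
    · funext i
      rw [hy]
      by_cases hi : i = i0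
      · rw [hi, hσ0]
      · rw [Pi.single_eq_of_ne hi, Pi.single_eq_of_ne]
        intro h
        apply hi
        apply σ.injective
        rw [h, hσ0]
    · intro h
      have := congrFun h i1
      rw [hy, hσ1, Pi.single_eq_same, Pi.single_eq_of_ne h12.symm] at this
      exact zero_ne_one this

/-- **The row of `PSL_n(q)`**, `n ≥ 3`, except `PSL_3(2)` and `PSL_3(4)`. -/
theorem lieGood_psl (hn : 3 ≤ n) (h3 : n = 3 → Fintype.card F ≠ 2 ∧ Fintype.card F ≠ 4) (r : ℕ)
    [hr : Fact r.Prime] [CharP F r] : LieGood (ProjectiveSpecialLinearGroup (Fin n) F) r := by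
  classical
  have hc1 : 2 ≤ Fintype.card F := Fintype.one_lt_card
  obtain ⟨c, hc⟩ := IsCyclic.exists_generator (α := Fˣ)
  have ho : orderOf c = Fintype.card F - 1 := by
    rw [orderOf_eq_card_of_forall_mem_zpowers hc, Nat.card_units, Nat.card_eq_fintype_card]
  by_cases hq : Fintype.card F = 2
  · have hn4 : 4 ≤ n := by
      by_contra h
      have : n = 3 := by omega
      exact (h3 this).1 hq
    have hr2 : r = 2 := by
      obtain ⟨m, hm, hm'⟩ := FiniteField.card F r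
      rw [hq] at hm'
      have : r ∣ 2 := by rw [hm']; exact dvd_pow_self r m.pos.ne'
      exact (Nat.prime_dvd_prime_iff_eq hr.out Nat.prime_two).1 this
    subst hr2
    exact lieGood_two hn4
  · refine lieGood_diag hn r c ?_
    by_cases hn3 : n = 3
    · rw [if_pos hn3]
      intro h
      have h1 : orderOf c ∣ 3 := orderOf_dvd_of_pow_eq_one h
      rw [ho] at h1
      rcases (Nat.dvd_prime Nat.prime_three).1 h1 with h2 | h2
      · omega
      · exact (h3 hn3).2 (by omega)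
    · rw [if_neg hn3]
      intro h
      rw [h, orderOf_one] at ho
      omega

end Cfsg.Agent.H620.RowSL
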