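import Cfsg.Agent.H620.RowSp
import Cfsg.Agent.H620.RowOm
import Cfsg.Agent.H150.SpForm

/-!
# The rows of `Sp_6(2)` and `Ω⁺_8(2)` (helper620)
-/

set_option autoImplicit false

namespace Cfsg.Agent.H620.RowSmall

open Cfsg Module Cfsg.Agent.H620 Cfsg.Agent.H620.Lin Matrix

/-! ### Isometries of order `7` -/

section Iso

variable {F : Type*} [Field F] [Fintype F] {V : Type*} [AddCommGroup V] [Module F V]
  [FiniteDimensional F V]

omit [FiniteDimensional F V] in
theorem range_inf_fix (hF : Fintype.card F = 2) (g : End F V) (k : ℕ) (hg : g ^ (7 ^ k) = 1) {w : V}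
    (h1 : w ∈ LinearMap.range (g - 1)) (h2 : g w = w) : w = 0 := by
  obtain ⟨v, rfl⟩ := h1
  have e0 : (g - 1) v = g v - v := rfl
  rw [e0] at h2 ⊢
  have key : ∀ m : ℕ, (g ^ m) v = v + m • (g v - v) := by
    intro m
    induction m with
    | zero => simp
    | succ m ih =>
      rw [pow_succ', Module.End.mul_apply, ih, map_add, map_nsmul, h2, succ_nsmul]
      abel
  have h3 := key (7 ^ k)
  rw [hg] at h3
  have h4 : (7 ^ k) • (g v - v) = 0 := by
    have : v = v + (7 ^ k) • (g v - v) := h3
    simpa using this.symm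
  have h2F : (2 : F) = 0 := by
    have := Nat.cast_card_eq_zero F
    rw [hF] at this
    exact_mod_cast this
  have h5 : ((7 ^ k : ℕ) : F) = 1 := by
    push_cast
    have : (7 : F) = 1 := by linear_combination 3 * h2F
    rw [this, one_pow]
  rw [← Nat.cast_smul_eq_nsmul F, h5, one_smul] at h4
  exact h4

theorem iso_trivial (hF : Fintype.card F = 2) (B : LinearMap.BilinForm F V) (hA : B.IsAlt)
    (hnd : ∀ u, (∀ v, B u v = 0) → u = 0) (g : End F V) (hiso : ∀ v w, B (g v) (g w) = B v w)
    (k : ℕ) (hg : g ^ (7 ^ k) = 1) (hd : finrank F (LinearMap.range (g - 1)) ≤ 4) (v : V) :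
    g v = v := by
  classical
  set M := LinearMap.range (g - 1) with hM
  have hMg : ∀ w ∈ M, g w ∈ M := by
    rintro _ ⟨v, rfl⟩
    exact ⟨g v, by simp⟩
  have hsurj : Function.Surjective g := by
    intro w
    refine ⟨(g ^ (7 ^ k - 1)) w, ?_⟩
    have : g * g ^ (7 ^ k - 1) = 1 := by
      rw [← pow_succ', Nat.sub_add_cancel (Nat.one_le_pow _ _ (by norm_num)), hg]
    exact congrArg (fun f : End F V => f w) this
  have heven : Even (finrank F M) := by
    refine Cfsg.Agent.H150.even_finrank_of_alt (B.restrict M) ?_ ?_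
    · intro w
      exact hA w.1
    · rintro ⟨u, hu⟩ h
      apply Subtype.ext
      refine range_inf_fix hF g k hg hu ?_
      have h1 : ∀ v, B (g u - u) (g v) = 0 := by
        intro v
        have h2 : B u (g v - v) = 0 := h ⟨g v - v, ⟨v, rfl⟩⟩
        rw [map_sub, sub_eq_zero] at h2
        rw [map_sub, LinearMap.sub_apply, hiso, h2, sub_self]
      have h2 : g u - u = 0 := by
        apply hnd
        intro v
        obtain ⟨v', rfl⟩ := hsurj v
        exact h1 v'
      exact sub_eq_zero.1 h2
  -- fixed points on `M`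
  have hres : (g.restrict hMg) ^ (7 ^ k) = 1 := by
    rw [Module.End.pow_restrict]
    ext x
    simp [hg]
  let gM : (End F M)ˣ := Units.ofPowEqOne (g.restrict hMg) (7 ^ k) hres (pow_ne_zero _ (by norm_num))
  have hgM : (gM : End F M) = g.restrict hMg := rfl
  have hgM1 : gM ^ (7 ^ k) = 1 := Units.ext (by rw [Units.val_pow_eq_pow_val, hgM, hres]; rfl)
  have : Fact (Nat.Prime 7) := ⟨by norm_num⟩
  have hp : IsPGroup 7 (Subgroup.zpowers gM) := by
    rintro ⟨x, hx⟩
    obtain ⟨z, rfl⟩ := Subgroup.mem_zpowers_iff.1 hx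
    refine ⟨k, Subtype.ext ?_⟩
    show (gM ^ z) ^ (7 ^ k) = 1
    rw [← zpow_natCast, ← _root_.zpow_mul, mul_comm, _root_.zpow_mul, zpow_natCast, hgM1, _root_.one_zpow]
  have : Finite M := Module.finite_of_finite F
  have hmod := hp.card_modEq_card_fixedPoints M
  have hcard : Nat.card M = 2 ^ finrank F M := by
    rw [Module.natCard_eq_pow_finrank (K := F), Nat.card_eq_fintype_card, hF]
  have hfix : Nat.card (MulAction.fixedPoints (Subgroup.zpowers gM) M) = 1 := by
    rw [Nat.card_eq_one_iff_unique]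
    refine ⟨⟨?_⟩, ⟨⟨0, fun _ => smul_zero _⟩⟩⟩
    have h0 : ∀ w : M, w ∈ MulAction.fixedPoints (Subgroup.zpowers gM) M → w = 0 := by
      intro w hw
      apply Subtype.ext
      refine range_inf_fix hF g k hg w.2 ?_
      exact congrArg Subtype.val (hw ⟨gM, Subgroup.mem_zpowers gM⟩)
    rintro ⟨a, ha⟩ ⟨b, hb⟩
    rw [Subtype.mk.injEq, h0 a ha, h0 b hb]
  rw [hcard, hfix] at hmod
  have hM0 : finrank F M = 0 := by
    obtain ⟨j, hj⟩ := heven
    have : j = 0 ∨ j = 1 ∨ j = 2 := by omega
    rcases this with rfl | rfl | rfl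
    · omega
    · rw [hj] at hmod; exact absurd hmod (by decide)
    · rw [hj] at hmod; exact absurd hmod (by decide)
  have hbot : M = ⊥ := Submodule.finrank_eq_zero.1 hM0
  have : (g - 1) v ∈ M := ⟨v, rfl⟩
  rw [hbot, Submodule.mem_bot] at this
  exact sub_eq_zero.1 this

end Iso

/-! ### `Sp_6(2)` -/

section Sp

open Cfsg.Agent.ClassicalGeometry.SympBasic Cfsg.Agent.H620.RowSp

variable {F : Type*} [Field F] [Fintype F]

theorem char_ne' (hF : Fintype.card F = 2) {r : ℕ} [hr : Fact r.Prime] [CharP F r] : r ≠ 7 := by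
  rintro rfl
  obtain ⟨n, -, hn⟩ := FiniteField.card F 7
  have h1 : 7 ∣ Fintype.card F := by rw [hn]; exact dvd_pow_self 7 n.pos.ne'
  rw [hF] at h1
  exact absurd h1 (by decide)

theorem small_seven (hF : Fintype.card F = 2) : Small F 7 3 := by
  refine ⟨by rw [hF]; decide, fun i h0 h1 => ?_⟩
  rw [hF]
  obtain rfl | rfl : i = 1 ∨ i = 2 := by omega
  · decide
  · decide

theorem card_stab_sp (hF : Fintype.card F = 2) {u : Fin 3 ⊕ Fin 3 → F} (hu : u ≠ 0)
    {y : Matrix.symplecticGroup (Fin 3) F} (hyu : y.1 *ᵥ u = u) (k : ℕ) (hy : y ^ (7 ^ k) = 1) :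
    y = 1 := by
  classical
  let act : MulAction (Matrix.symplecticGroup (Fin 3) F) (Fin 3 ⊕ Fin 3 → F) :=
    { smul := fun g v => g.1 *ᵥ v
      one_smul := fun v => one_mulVec v
      mul_smul := fun g h v => (mulVec_mulVec v g.1 h.1).symm }
  have horb : MulAction.orbit (Matrix.symplecticGroup (Fin 3) F) u = {v | v ≠ 0} := by
    ext v
    constructor
    · rintro ⟨g, rfl⟩ h
      apply hu
      have h1 : g⁻¹ • (g • u) = u := inv_smul_smul g u
      have h2 : g • u = 0 := h
      rw [h2] at h1
      rw [← h1]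
      show (g⁻¹).1 *ᵥ (0 : Fin 3 ⊕ Fin 3 → F) = 0
      rw [mulVec_zero]
    · intro hv
      obtain ⟨g, hg⟩ := Cfsg.Agent.S0271.result 3 u v hu hv
      exact ⟨g, hg⟩
  have hcard : Nat.card (MulAction.orbit (Matrix.symplecticGroup (Fin 3) F) u) = 63 := by
    rw [horb]
    have h1 : Nat.card {v : Fin 3 ⊕ Fin 3 → F | v ≠ 0} =
        Fintype.card {v : Fin 3 ⊕ Fin 3 → F // v ≠ 0} := by
      rw [← Nat.card_eq_fintype_card]; rfl
    rw [h1, Fintype.card_subtype_compl, Fintype.card_subtype_eq]
    simp only [Fintype.card_pi, Finset.prod_const, Finset.card_univ, Fintype.card_sum,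
      Fintype.card_fin, hF]
    norm_num
  have hstab := MulAction.card_orbit_mul_card_stabilizer_eq_card_group
    (Matrix.symplecticGroup (Fin 3) F) u
  rw [← Nat.card_eq_fintype_card, ← Nat.card_eq_fintype_card, ← Nat.card_eq_fintype_card, hcard,
    Cfsg.Agent.S0245.result (F := F) rfl 3, hF] at hstab
  have h2 : Nat.card (MulAction.stabilizer (Matrix.symplecticGroup (Fin 3) F) u) = 23040 := by
    have h8 : (2 : ℕ) ^ (3 ^ 2) * ∏ i ∈ Finset.range 3, (2 ^ (2 * (i + 1)) - 1) = 1451520 := by
      norm_num [Finset.prod_range_succ]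
    rw [h8] at hstab
    omega
  have hyS : y ∈ MulAction.stabilizer (Matrix.symplecticGroup (Fin 3) F) u := hyu
  have h3 : orderOf y ∣ 23040 := by
    rw [← h2, ← Subgroup.orderOf_mk y hyS]
    exact orderOf_dvd_natCard _
  have h4 : orderOf y ∣ 7 ^ k := orderOf_dvd_of_pow_eq_one hy
  have h5 : Nat.Coprime 23040 (7 ^ k) := Nat.Coprime.pow_right _ (by decide)
  rw [← orderOf_eq_one_iff]
  exact Nat.eq_one_of_dvd_coprimes h5 h3 h4

/-- **The row of `Sp_6(2)`.** -/
theorem lieGood_sp (hF : Fintype.card F = 2) (r : ℕ) [hr : Fact r.Prime] [CharP F r] :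
    LieGood (PSp 3 F) r := by
  classical
  have : Fact (Nat.Prime 7) := ⟨by norm_num⟩
  have h2F : (2 : F) = 0 := by
    have := Nat.cast_card_eq_zero F
    rw [hF] at this
    exact_mod_cast this
  have hone : ∀ c : F, c ≠ 0 → c = 1 := by
    intro c hc
    have h1 : Fintype.card Fˣ = 1 := by rw [Fintype.card_units, hF]
    have h2 : Subsingleton Fˣ := Fintype.card_le_one_iff_subsingleton.1 h1.le
    exact congrArg Units.val (Subsingleton.elim (Units.mk0 c hc) 1)
  let i0 : Fin 3 := 0
  let u : Fin 3 ⊕ Fin 3 → F := Pi.single (Sum.inl i0) 1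
  have hu : u ≠ 0 := by
    intro h
    have := congrFun h (Sum.inl i0)
    simp [u] at this
  set x : Matrix.symplecticGroup (Fin 3) F := ⟨sympTransvection 3 u 1, sympTransvection_mem u 1⟩
    with hx
  have hxv : ∀ v, rep (toM 3 F) x v = v + sympForm 3 F v u • u := by
    intro v
    rw [rep_apply]
    show sympTransvection 3 u 1 *ᵥ v = _
    rw [sympTransvection_mulVec, one_mul]
  have hw : sympForm 3 F (Pi.single (Sum.inr i0) 1) u = 1 := by
    rw [sympForm_single_inr_left]
    simp [u]
  refine lieGood_of (by norm_num) r 7 (by norm_num) (char_ne' hF) ?_ u hu ?_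
  · have h1 := card_pos' (F := F) (m := 3) (by norm_num)
    rw [hF] at h1
    have h2 : Nat.card (PSp 3 F) = 1451520 := by
      norm_num [Finset.prod_range_succ, -Nat.card_eq_fintype_card] at h1
      omega
    rw [h2]
    norm_num
  · refine kill_of_gen (pr 3 F) (QuotientGroup.mk'_surjective _) (rep (toM 3 F))
      (fun g hg => by
        obtain ⟨c, hc⟩ := pr_eq_one hg
        exact ⟨c, fun v => by rw [rep_apply]; exact hc v⟩)
      (fun g hg => by
        have h1 : toM 3 F g = 1 := rep_eq_one _ hg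
        have : g = 1 := Subtype.ext h1
        rw [this, map_one]) (t := 7) (d := 1) x ?_ (by simp) ?_ ?_
    · have : LinearMap.range (rep (toM 3 F) x - 1) = Submodule.span F {u} := by
        ext w
        rw [Submodule.mem_span_singleton]
        constructor
        · rintro ⟨v, rfl⟩
          refine ⟨sympForm 3 F v u, ?_⟩
          rw [LinearMap.sub_apply, hxv, Module.End.one_apply, add_sub_cancel_left]
        · rintro ⟨c, rfl⟩
          refine ⟨c • Pi.single (Sum.inr i0) 1, ?_⟩
          rw [map_smul, LinearMap.sub_apply, hxv, Module.End.one_apply, add_sub_cancel_left, hw, one_smul]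
      rw [this]
      exact finrank_span_singleton hu
    · intro g hg k hk
      have h1 : ∀ v, sympForm 3 F v u • (rep (toM 3 F) g u) = sympForm 3 F (rep (toM 3 F) g v) u • u := by
        intro v
        have h2 := congrArg (fun f : End F _ => f v) hg
        simp only [Module.End.mul_apply, hxv, map_add, map_smul] at h2
        exact add_left_cancel h2
      have h2 := h1 (Pi.single (Sum.inr i0) 1)
      rw [hw, one_smul] at h2
      set c := sympForm 3 F (rep (toM 3 F) g (Pi.single (Sum.inr i0) 1)) u with hc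
      have hgu : rep (toM 3 F) g u ≠ 0 := by
        intro h0
        apply hu
        have h3 : rep (toM 3 F) g⁻¹ (rep (toM 3 F) g u) = u := by
          have : rep (toM 3 F) g⁻¹ * rep (toM 3 F) g = 1 := by
            rw [← map_mul, inv_mul_cancel, map_one]
          exact congrArg (fun f : End F _ => f u) this
        rw [h0, map_zero] at h3
        exact h3.symm
      have hc1 : c = 1 := hone c (by
        rintro hc0
        rw [hc0, zero_smul] at h2
        exact hgu h2)
      rw [hc1, one_smul] at h2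
      have h4 : g = 1 := by
        refine card_stab_sp hF hu (by rw [rep_apply] at h2; exact h2) k ?_
        have h5 : rep (toM 3 F) (g ^ (7 ^ k)) = 1 := by rw [map_pow, hk]
        exact Subtype.ext (rep_eq_one (toM 3 F) h5)
      intro v
      rw [h4, map_one]
      rfl
    · intro a b k hk ha hb v
      refine prod_short (e := 3) (d := 1) (by norm_num) (small_seven hF) (rep (toM 3 F) (a * x * a⁻¹))
        (rep (toM 3 F) (b * x * b⁻¹)) _ ha hb (by norm_num) ?_ k hk v
      rw [← map_mul, inv_mul_cancel_right]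

end Sp

/-! ### `Ω⁺_8(2)` -/

section Om

open Cfsg.Agent.H620.RowOm QuadraticMap Cfsg.Agent.LieClassical.OmegaCenter
  Cfsg.Agent.LieClassical.OmegaReindex

variable {F : Type*} [Field F] [Fintype F] {ι : Type} [Fintype ι] [DecidableEq ι]

theorem key_om (hF : Fintype.card F = 2) {Q : QuadraticForm F (ι → F)} {u w u' w' a : ι → F}
    (D : Dat Q u w u' w' a) (hι : Fintype.card ι = 8) :
    Kill (POmega F (⇑Q)) 7 ∧ ∀ z : POmega F (⇑Q),
      z * RowOm.pr (⇑Q) (xx D) = RowOm.pr (⇑Q) (xx D) * z → z ^ 7 = 1 → z = 1 := by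
  classical
  have : Fact (Nat.Prime 7) := ⟨by norm_num⟩
  have h2F : (2 : F) = 0 := by
    have := Nat.cast_card_eq_zero F
    rw [hF] at this
    exact_mod_cast this
  have huu := polar_self0 D.hu
  have hww := polar_self0 D.hw
  have hwu : polar Q w u = 0 := by rw [polar_comm, D.uw]
  have hw'u : polar Q w' u = 0 := by rw [polar_comm, D.uw']
  have hu'w : polar Q u' w = 0 := by rw [polar_comm, D.wu']
  have hu'u : polar Q u' u = 1 := by rw [polar_comm, D.uu]
  have hw'w : polar Q w' w = 1 := by rw [polar_comm, D.ww]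
  set ρ : Omega F (⇑Q) →* End F (ι → F) := rep (toM (⇑Q)) with hρ
  have hρv : ∀ g v, ρ g v = omegaMat g *ᵥ v := fun g v => rep_apply _ _ _
  have hx : ∀ v, (ρ (xx D) - 1) v = polar Q u v • w - polar Q w v • u := by
    intro v
    rw [LinearMap.sub_apply, hρv, xx_mulVec, Module.End.one_apply]
    module
  have hA : (polarBilin Q).IsAlt := by
    intro v
    show polar Q v v = 0
    rw [QuadraticMap.polar_self]
    have : (2 : ℕ) • Q v = (2 : F) * Q v := by rw [nsmul_eq_mul]; norm_num
    rw [this, h2F, zero_mul]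
  have hnd : ∀ u, (∀ v, polarBilin Q u v = 0) → u = 0 := D.nd.1
  have hiso : ∀ (g : Omega F (⇑Q)) (v w : ι → F), polarBilin Q (ρ g v) (ρ g w) = polarBilin Q v w := by
    intro g v w
    have hQ : ∀ v, Q (ρ g v) = Q v := fun v => by
      rw [hρv]
      exact g.1.2 v 0
    show Q (ρ g v + ρ g w) - Q (ρ g v) - Q (ρ g w) = Q (v + w) - Q v - Q w
    rw [← map_add, hQ, hQ, hQ]
  have hrank : finrank F (LinearMap.range (ρ (xx D) - 1)) = 2 := by
    have h1 : LinearMap.range (ρ (xx D) - 1) = Submodule.span F (Set.range ![w, u]) := by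
      ext z
      rw [Matrix.range_cons, Matrix.range_cons, Matrix.range_empty, Set.union_empty,
        Set.singleton_union, Submodule.mem_span_pair]
      constructor
      · rintro ⟨v, rfl⟩
        refine ⟨polar Q u v, -(polar Q w v), ?_⟩
        rw [hx]
        module
      · rintro ⟨c, d, rfl⟩
        refine ⟨c • u' + (-d) • w', ?_⟩
        rw [hx]
        simp only [QuadraticMap.polar_add_right, QuadraticMap.polar_smul_right, D.uu, D.uw', D.wu',
          D.ww, smul_eq_mul]
        module
    rw [h1, finrank_span_eq_card]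
    · simp
    · rw [LinearIndependent.pair_iff]
      intro c d hcd
      have f1 := congrArg (fun z => polar Q w' z) hcd
      have f2 := congrArg (fun z => polar Q u' z) hcd
      simp only [QuadraticMap.polar_add_right, QuadraticMap.polar_smul_right, hw'w, hw'u, hu'w,
        hu'u, smul_eq_mul, QuadraticMap.polar_zero_right] at f1 f2
      constructor
      · linear_combination f1
      · linear_combination f2
  have hsq : (ρ (xx D) - 1) * (ρ (xx D) - 1) = 0 := by
    apply LinearMap.ext
    intro v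
    rw [Module.End.mul_apply, hx, hx]
    simp only [QuadraticMap.polar_sub_right, QuadraticMap.polar_smul_right, huu, hww, D.uw, hwu,
      smul_eq_mul]
    simp
  have hn : finrank F (ι → F) = 8 := by rw [finrank_fintype_fun_eq_card, hι]
  refine kill_of_gen (RowOm.pr (⇑Q)) (QuotientGroup.mk'_surjective _) ρ
    (fun g hg => by
      obtain ⟨c, hc⟩ := RowOm.pr_eq_one D (by omega) hg
      exact ⟨c, fun v => by rw [hρv]; exact hc v⟩)
    (fun g hg => by
      have h1 : toM (⇑Q) g = 1 := rep_eq_one _ hg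
      have : g = 1 := omega_ext h1
      rw [this, map_one]) (t := 7) (d := 2) (xx D) hrank (by rw [hn]; norm_num) ?_ ?_
  · intro g hg k hk
    refine iso_trivial hF (polarBilin Q) hA hnd (ρ g) (hiso g) k hk ?_
    -- `(g - 1) V ⊕ (x - 1) V ≤ ker (x - 1)`
    set I := LinearMap.range (ρ (xx D) - 1) with hI
    set N := LinearMap.ker (ρ (xx D) - 1) with hN
    have hc' : ∀ v, ρ g ((ρ (xx D) - 1) v) = (ρ (xx D) - 1) (ρ g v) := by
      intro v
      have : ρ g * (ρ (xx D) - 1) = (ρ (xx D) - 1) * ρ g := by rw [mul_sub, sub_mul, hg, mul_one, one_mul]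
      exact congrArg (fun f : End F (ι → F) => f v) this
    have hIN : I ≤ N := by
      rintro _ ⟨v, rfl⟩
      rw [hN, LinearMap.mem_ker]
      exact congrArg (fun f : End F (ι → F) => f v) hsq
    have hNd : finrank F N = 6 := by
      have h := LinearMap.finrank_range_add_finrank_ker (ρ (xx D) - 1)
      rw [hrank, hn, ← hN] at h
      omega
    have hIg := trivial_on (by norm_num) (small_seven hF) (ρ g) k hk I (by
      rintro _ ⟨v, rfl⟩
      exact ⟨ρ g v, (hc' v).symm⟩) (by rw [hrank]; norm_num)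
    have hNg : ∀ v ∈ N, ρ g v ∈ N := by
      intro v hv
      rw [hN, LinearMap.mem_ker] at hv ⊢
      rw [← hc', hv, map_zero]
    have hq := trivial_quot (by norm_num) (small_seven hF) (ρ g) k hk N hNg (by
      have := Submodule.finrank_quotient_add_finrank N
      omega)
    have hRN : LinearMap.range (ρ g - 1) ≤ N := by
      rintro _ ⟨v, rfl⟩
      exact hq v
    have hdis : LinearMap.range (ρ g - 1) ⊓ I = ⊥ := by
      rw [eq_bot_iff]
      rintro z ⟨hz1, hz2⟩
      exact range_inf_fix hF (ρ g) k hk hz1 (hIg z hz2)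
    have h1 := Submodule.finrank_sup_add_finrank_inf_eq (LinearMap.range (ρ g - 1)) I
    rw [hdis, finrank_bot] at h1
    have h2 := Submodule.finrank_mono (sup_le hRN hIN)
    omega
  · intro b c k hk hb hc
    refine iso_trivial hF (polarBilin Q) hA hnd (ρ (b * xx D * b⁻¹ * (c * xx D * c⁻¹)⁻¹)) (hiso _) k hk ?_
    set y := ρ (b * xx D * b⁻¹) with hy
    set z := ρ (c * xx D * c⁻¹) with hz
    set f := ρ (b * xx D * b⁻¹ * (c * xx D * c⁻¹)⁻¹) with hf
    have hfz : f * z = y := by rw [hf, hz, hy, ← map_mul, inv_mul_cancel_right]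
    have h3 : LinearMap.ker (y - 1) ⊓ LinearMap.ker (z - 1) ≤ LinearMap.ker (f - 1) := by
      rintro v ⟨hv1, hv2⟩
      have e1 : y v = v := sub_eq_zero.1 (LinearMap.mem_ker.1 hv1)
      have e2 : z v = v := sub_eq_zero.1 (LinearMap.mem_ker.1 hv2)
      have e3 : f (z v) = y v := congrArg (fun g : End F (ι → F) => g v) hfz
      rw [e1, e2] at e3
      rw [LinearMap.mem_ker, LinearMap.sub_apply, e3, Module.End.one_apply, sub_self]
    have h4 := LinearMap.finrank_range_add_finrank_ker (f - 1)
    have h5 := LinearMap.finrank_range_add_finrank_ker (y - 1)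
    have h6 := LinearMap.finrank_range_add_finrank_ker (z - 1)
    have h7 := Submodule.finrank_sup_add_finrank_inf_eq (LinearMap.ker (y - 1)) (LinearMap.ker (z - 1))
    have h8 := Submodule.finrank_le (LinearMap.ker (y - 1) ⊔ LinearMap.ker (z - 1))
    have h9 := Submodule.finrank_mono h3
    omega

/-- **The row of `Ω⁺_8(2)`.** -/
theorem lieGood_om (hF : Fintype.card F = 2) (r : ℕ) [hr : Fact r.Prime] [CharP F r] :
    LieGood (POmega F (quadFormPlus 4 F)) r := by
  have hcard := Cfsg.Agent.S0293.result (F := F) rfl 4 le_rfl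
  rw [← coe_quadPlus] at hcard ⊢
  refine lieGood_core (dat_plus (by norm_num)) r (t := 7) (by norm_num) (char_ne' hF) (by simp) ?_
    (key_om hF _ (by simp))
  rw [hF] at hcard
  have h8 : (2 : ℕ) ^ (4 * (4 - 1)) * (2 ^ 4 - 1) * ∏ i ∈ Finset.range (4 - 1), (2 ^ (2 * (i + 1)) - 1) =
      174182400 := by
    norm_num [Finset.prod_range_succ]
  rw [h8] at hcard
  have : Nat.gcd 4 (2 ^ 4 - 1) = 1 := by norm_num
  rw [this, one_mul] at hcard
  rw [hcard]
  norm_num

end Om

end Cfsg.Agent.H620.RowSmall
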