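import Cfsg.Agent.H620.RowSL
import Cfsg.Agent.S0245
import Cfsg.Agent.S0246
import Cfsg.Agent.S0271
import Cfsg.Agent.ClassicalGeometry.SympInvolutions

/-!
# The rows of `PSp_{2m}(q)` (helper620)
-/

set_option autoImplicit false

namespace Cfsg.Agent.H620.RowSp

open Cfsg Module Cfsg.Agent.H620 Cfsg.Agent.H620.Lin Cfsg.Agent.H620.RowSL Matrix
  Cfsg.Agent.ClassicalGeometry.SympBasic

variable {F : Type*} [Field F] [Fintype F] {m : ℕ}

local notation "SpG" => Matrix.symplecticGroup (Fin m) F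

/-- The inclusion into matrices. -/
def toM (m : ℕ) (F : Type*) [Field F] :
    Matrix.symplecticGroup (Fin m) F →* Matrix (Fin m ⊕ Fin m) (Fin m ⊕ Fin m) F where
  toFun g := g.1
  map_one' := rfl
  map_mul' _ _ := rfl

abbrev pr (m : ℕ) (F : Type*) [Field F] : Matrix.symplecticGroup (Fin m) F →* PSp m F :=
  QuotientGroup.mk' (Subgroup.center (Matrix.symplecticGroup (Fin m) F))

omit [Fintype F] in
theorem pr_eq_one {g : Matrix.symplecticGroup (Fin m) F} (h : pr m F g = 1) :
    ∃ c : F, ∀ v, g.1 *ᵥ v = c • v := by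
  have h1 : g ∈ Subgroup.center (Matrix.symplecticGroup (Fin m) F) := (QuotientGroup.eq_one_iff g).1 h
  rcases Cfsg.Agent.ClassicalGeometry.SympInvolutions.center_eq h1 with h2 | h2
  · exact ⟨1, fun v => by rw [h2]; simp⟩
  · exact ⟨-1, fun v => by rw [h2, neg_mulVec, one_mulVec, neg_one_smul]⟩

omit [Fintype F] in
theorem pr_ne_one {g : Matrix.symplecticGroup (Fin m) F} {v : Fin m ⊕ Fin m → F} (hv : v ≠ 0)
    (h1 : g.1 *ᵥ v = v) (h2 : g ≠ 1) : pr m F g ≠ 1 := by
  intro h
  obtain ⟨c, hc⟩ := pr_eq_one h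
  have h3 := hc v
  rw [h1] at h3
  have h4 : (c - 1) • v = 0 := by rw [sub_smul, one_smul, ← h3, sub_self]
  have h5 : c = 1 := sub_eq_zero.1 ((smul_eq_zero.1 h4).resolve_right hv)
  apply h2
  apply Subtype.ext
  rw [← Matrix.mulVec_injective.eq_iff]
  funext w
  rw [hc, h5, one_smul]
  show w = (1 : Matrix _ _ F) *ᵥ w
  rw [one_mulVec]

theorem card_pos' (hm : 1 ≤ m) : Nat.gcd 2 (Fintype.card F - 1) * Nat.card (PSp m F) =
    Fintype.card F ^ (m ^ 2) * ∏ i ∈ Finset.range m, (Fintype.card F ^ (2 * (i + 1)) - 1) := by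
  have h1 := Cfsg.Agent.S0245.result (F := F) rfl m
  have h2 := Cfsg.Agent.S0246.result (F := F) rfl m hm
  have h3 := Subgroup.card_eq_card_quotient_mul_card_subgroup
    (Subgroup.center (Matrix.symplecticGroup (Fin m) F))
  rw [h1, h2] at h3
  rw [mul_comm]
  exact h3.symm

/-- The prime. -/
theorem exists_t (hm : 2 ≤ m) (hex : ¬ (Fintype.card F = 2 ∧ m = 3)) :
    ∃ t : ℕ, t.Prime ∧ Small F t (2 * m) ∧ t ∣ Nat.card (PSp m F) := by
  have hq : 2 ≤ Fintype.card F := Fintype.one_lt_card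
  have hcard := card_pos' (F := F) (m := m) (by omega)
  obtain ⟨t, ht, hprim, -, htq⟩ := Cfsg.Agent.Lib.Zsigmondy.exists_primitive (a := Fintype.card F)
    (n := 2 * m) hq (by omega) (by omega) (by omega)
  refine ⟨t, ht, small_of_primitive hprim htq le_rfl, ?_⟩
  have h1 : t ∣ Nat.gcd 2 (Fintype.card F - 1) * Nat.card (PSp m F) := by
    rw [hcard]
    refine dvd_mul_of_dvd_right (dvd_trans ?_ (Finset.dvd_prod_of_mem _
      (Finset.mem_range.2 (show m - 1 < m by omega)))) _
    rw [hprim]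
    exact ⟨1, by omega⟩
  have h2 : ¬ t ∣ Fintype.card F - 1 := by
    intro h
    have h3 := (hprim 1).1 (by rwa [pow_one])
    have := Nat.dvd_one.1 h3
    omega
  rcases ht.dvd_mul.1 h1 with h4 | h3
  · exact absurd (h4.trans (Nat.gcd_dvd_right _ _)) h2
  · exact h3

/-- An element of prime order `s ∣ q + 1` fixing a vector. -/
theorem exists_fix (hm : 2 ≤ m) {s : ℕ} (hs : s.Prime) (hsq : s ∣ Fintype.card F + 1)
    {u : Fin m ⊕ Fin m → F} (hu : u ≠ 0) :
    ∃ y : Matrix.symplecticGroup (Fin m) F, orderOf y = s ∧ y.1 *ᵥ u = u := by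
  classical
  let act : MulAction (Matrix.symplecticGroup (Fin m) F) (Fin m ⊕ Fin m → F) :=
    { smul := fun g v => g.1 *ᵥ v
      one_smul := fun v => one_mulVec v
      mul_smul := fun g h v => (mulVec_mulVec v g.1 h.1).symm }
  have hsmul : ∀ (g : Matrix.symplecticGroup (Fin m) F) v, act.toSMul.smul g v = g.1 *ᵥ v :=
    fun _ _ => rfl
  have horb : MulAction.orbit (Matrix.symplecticGroup (Fin m) F) u = {v | v ≠ 0} := by
    ext v
    constructor
    · rintro ⟨g, rfl⟩ h
      apply hu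
      have h1 : g⁻¹ • (g • u) = u := inv_smul_smul g u
      have h2 : g • u = 0 := h
      rw [h2] at h1
      rw [← h1]
      show (g⁻¹).1 *ᵥ (0 : Fin m ⊕ Fin m → F) = 0
      rw [mulVec_zero]
    · intro hv
      obtain ⟨g, hg⟩ := Cfsg.Agent.S0271.result m u v hu hv
      exact ⟨g, hg⟩
  have hcard : Nat.card (MulAction.orbit (Matrix.symplecticGroup (Fin m) F) u) =
      Fintype.card F ^ (2 * m) - 1 := by
    rw [horb]
    have h1 : Nat.card {v : Fin m ⊕ Fin m → F | v ≠ 0} =
        Fintype.card {v : Fin m ⊕ Fin m → F // v ≠ 0} := by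
      rw [← Nat.card_eq_fintype_card]; rfl
    rw [h1, Fintype.card_subtype_compl, Fintype.card_subtype_eq]
    simp only [Fintype.card_pi, Finset.prod_const, Finset.card_univ, Fintype.card_sum,
      Fintype.card_fin]
    rw [two_mul]
  have hstab := MulAction.card_orbit_mul_card_stabilizer_eq_card_group
    (Matrix.symplecticGroup (Fin m) F) u
  rw [← Nat.card_eq_fintype_card, ← Nat.card_eq_fintype_card, ← Nat.card_eq_fintype_card, hcard,
    Cfsg.Agent.S0245.result (F := F) rfl m] at hstab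
  have hq : 2 ≤ Fintype.card F := Fintype.one_lt_card
  obtain ⟨k, rfl⟩ : ∃ k, m = k + 2 := ⟨m - 2, by omega⟩
  have hpos : 0 < Fintype.card F ^ (2 * (k + 2)) - 1 := by
    have : 1 < Fintype.card F ^ (2 * (k + 2)) := Nat.one_lt_pow (by omega) hq
    omega
  have h2 : Nat.card (MulAction.stabilizer (Matrix.symplecticGroup (Fin (k + 2)) F) u) =
      Fintype.card F ^ ((k + 2) ^ 2) * ∏ i ∈ Finset.range (k + 1),
        (Fintype.card F ^ (2 * (i + 1)) - 1) := by
    apply Nat.eq_of_mul_eq_mul_left hpos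
    rw [hstab, Finset.prod_range_succ]
    ring
  have h3 : s ∣ Nat.card (MulAction.stabilizer (Matrix.symplecticGroup (Fin (k + 2)) F) u) := by
    rw [h2]
    refine dvd_mul_of_dvd_right (dvd_trans ?_ (Finset.dvd_prod_of_mem _
      (Finset.mem_range.2 (show 0 < k + 1 by omega)))) _
    have : Fintype.card F ^ (2 * (0 + 1)) - 1 = (Fintype.card F + 1) * (Fintype.card F - 1) := by
      rw [zero_add, mul_one, ← one_pow 2, Nat.sq_sub_sq, one_pow]
    rw [this]
    exact dvd_mul_of_dvd_left hsq _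
  have := Fact.mk hs
  obtain ⟨⟨y, hy⟩, hy1⟩ := exists_prime_orderOf_dvd_card' s h3
  exact ⟨y, by rw [← hy1, Subgroup.orderOf_mk], hy⟩

/-- The row of `PSp_{2m}(q)`, from a prime killed by the transvections. -/
theorem lieGood_of (hm : 2 ≤ m) (r : ℕ) [hr : Fact r.Prime] [CharP F r] (t : ℕ) (ht : t.Prime)
    (hrt : r ≠ t) (htd : t ∣ Nat.card (PSp m F)) (u : Fin m ⊕ Fin m → F) (hu : u ≠ 0)
    (hkey : Kill (PSp m F) t ∧ ∀ z : PSp m F,
      z * pr m F ⟨sympTransvection m u 1, sympTransvection_mem u 1⟩ =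
        pr m F ⟨sympTransvection m u 1, sympTransvection_mem u 1⟩ * z → z ^ t = 1 → z = 1) :
    LieGood (PSp m F) r := by
  have hq : 2 ≤ Fintype.card F := Fintype.one_lt_card
  obtain ⟨s, hs, hsq⟩ := Nat.exists_prime_and_dvd (show Fintype.card F + 1 ≠ 1 by omega)
  obtain ⟨y, hy, hyu⟩ := exists_fix hm hs hsq hu
  set x : Matrix.symplecticGroup (Fin m) F := ⟨sympTransvection m u 1, sympTransvection_mem u 1⟩
    with hx
  have hsr : r ≠ s := by
    rintro rfl
    obtain ⟨n, -, hn⟩ := FiniteField.card F r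
    have h1 : r ∣ Fintype.card F := by rw [hn]; exact dvd_pow_self r n.pos.ne'
    exact hr.out.one_lt.ne' (Nat.dvd_one.1 ((Nat.dvd_add_right h1).1 hsq))
  have hxu : x.1 *ᵥ u = u := by
    show sympTransvection m u 1 *ᵥ u = u
    rw [sympTransvection_mulVec, sympForm_self]
    simp
  have hx1 : x ≠ 1 := by
    intro h
    apply hu
    by_contra hne
    have h1 : ∀ w, sympForm m F w u = 0 := by
      intro w
      have h2 : x.1 *ᵥ w = w := by rw [h]; exact one_mulVec w
      have h3 : sympTransvection m u 1 *ᵥ w = w := h2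
      rw [sympTransvection_mulVec, one_mul] at h3
      have h4 : sympForm m F w u • u = 0 := by simpa using h3
      exact (smul_eq_zero.1 h4).resolve_right hne
    exact hne (eq_zero_of_forall_sympForm_left h1)
  have hy1 : y ≠ 1 := by
    rintro rfl
    rw [orderOf_one] at hy
    exact hs.one_lt.ne hy
  have hxr : x ^ (r ^ 1) = 1 := by
    have key : ∀ k : ℕ, (x ^ k).1 = sympTransvection m u (k : F) := by
      intro k
      induction k with
      | zero =>
        rw [pow_zero, Nat.cast_zero, sympTransvection_zero]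
        rfl
      | succ k ih =>
        rw [pow_succ]
        show (x ^ k).1 * sympTransvection m u 1 = _
        rw [ih, sympTransvection_mul]
        push_cast
        rfl
    apply Subtype.ext
    rw [key, pow_one, CharP.cast_eq_zero, sympTransvection_zero]
    rfl
  refine ⟨t, pr m F x, pr m F y, 1, ht, hrt, htd, hkey.1, pr_ne_one hu hxu hx1, ?_, hkey.2, ?_, ?_⟩
  · rw [← map_pow, hxr, map_one]
  · rw [← map_mul, ← map_mul]
    congr 1
    apply Subtype.ext
    rw [← Matrix.mulVec_injective.eq_iff]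
    funext v
    show (y.1 * sympTransvection m u 1) *ᵥ v = (sympTransvection m u 1 * y.1) *ᵥ v
    rw [← mulVec_mulVec, ← mulVec_mulVec, sympTransvection_mulVec, sympTransvection_mulVec,
      mulVec_add, mulVec_smul, hyu]
    congr 3
    conv_rhs => rw [← hyu]
    rw [sympForm_mulVec y.2]
  · refine not_pow_of (N := s) ((Nat.coprime_primes hr.out hs).2 hsr) ?_
      (pr_ne_one hu hyu hy1)
    rw [← map_pow, ← hy, pow_orderOf_eq_one, map_one]

/-- **The row of `PSp_{2m}(q)`**, except `Sp_6(2)`. -/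
theorem lieGood_psp (hm : 2 ≤ m) (hex : ¬ (Fintype.card F = 2 ∧ m = 3)) (r : ℕ)
    [hr : Fact r.Prime] [CharP F r] : LieGood (PSp m F) r := by
  classical
  obtain ⟨t, ht, hs, htd⟩ := exists_t (F := F) hm hex
  have := Fact.mk ht
  let i0 : Fin m := ⟨0, by omega⟩
  let u : Fin m ⊕ Fin m → F := Pi.single (Sum.inl i0) 1
  have hu : u ≠ 0 := by
    intro h
    have := congrFun h (Sum.inl i0)
    simp [u] at this
  let φl : (Fin m ⊕ Fin m → F) →ₗ[F] F :=
    { toFun := fun v => sympForm m F v u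
      map_add' := fun v w => sympForm_add_left v w u
      map_smul' := fun d v => sympForm_smul_left d v u }
  refine lieGood_of hm r t ht (char_ne hs.1) htd u hu ?_
  refine kill_of_transvection (pr m F) (QuotientGroup.mk'_surjective _) (toM m F)
    (fun g hg => pr_eq_one hg) (fun g hg => by
      have : g = 1 := Subtype.ext hg
      rw [this, map_one]) hs ⟨sympTransvection m u 1, sympTransvection_mem u 1⟩ u φl ?_ hu ?_
    (Pi.single (Sum.inr i0) 1) ?_ (by omega) ?_ ?_
  · intro v
    show sympTransvection m u 1 *ᵥ v = _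
    rw [sympTransvection_mulVec, one_mul]
    rfl
  · exact sympForm_self u
  · show sympForm m F (Pi.single (Sum.inr i0) 1) u = 1
    rw [sympForm_single_inr_left]
    simp [u]
  · rw [Fintype.card_sum, Fintype.card_fin]; omega
  · rw [Fintype.card_sum, Fintype.card_fin]; omega

end Cfsg.Agent.H620.RowSp
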