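import Cfsg.Agent.H620.TwTbl
import Cfsg.Agent.H620.RowChev
import Cfsg.Agent.KFacts.TwESix.Facts
import Cfsg.Agent.SigTab.Table
import Cfsg.Agent.S1066

/-!
# The row of `²E₆(q)` (helper620)
-/

set_option autoImplicit false
set_option linter.unusedSectionVars false

namespace Cfsg.Agent.H620.RowTwE

open CoxeterSystem Cfsg.Agent.ChevalleyStructure.CoxeterGeom Cfsg.Agent.Tits.Roots Cfsg.Agent.Tits.Core
  Cfsg.Agent.Nodes.Reps Cfsg.Agent.Nodes.BNOf Cfsg.Agent.Nodes.Coroot Cfsg.Agent.Nodes.RGDTwE6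
  Cfsg.Agent.KFacts.RgdTI Cfsg.Agent.KFacts.RgdPar Cfsg.Agent.Nodes.Bruhat
open Cfsg Cfsg.Lie Cfsg.Agent.H620 Cfsg.Agent.H620.ExcIndex Cfsg.Agent.H620.ChevCnt Cfsg.Agent.H620.ChevChk
  Cfsg.Agent.H620.TwTbl Cfsg.Agent.H620.RowChev
open Cfsg.Agent.KFacts.TwESix.Comb (rts bf rho mem_rts finiteW rho_root rho_long)
open Cfsg.Agent.ChevalleyStructure

def Lg : List (Fin 4 → ℤ) := rts.filter fun s => decide (bf s s = 4)

def Ks (s : Fin 4 → ℤ) : ℕ := KK 1 11 (s 0 + s 1 + s 2 + s 3)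

def wts (i : Fin 4) : ℕ := if i = 0 ∨ i = 1 then 1 else 2

set_option maxRecDepth 20000 in
theorem tblV : TblV A rho Lg wts Ks := by decide +kernel

theorem nodupL : Lg.Nodup := by decide +kernel

theorem cntE : cntL (Lg.map Ks) = [1, 1, 1, 0, 1, 1, 2, 1, 1, 1, 2, 2, 1, 1, 1, 2, 1, 1, 0, 1, 1, 1] := by
  decide +kernel

theorem poly_2E6 {q : ℕ} (hq : 1 ≤ q) :
    ev [1, 1, 1, 0, 1, 1, 2, 1, 1, 1, 2, 2, 1, 1, 1, 2, 1, 1, 0, 1, 1, 1] q *
    ((q ^ 1 - 1) * (q ^ 3 + 1) * (q ^ 4 - 1)) = (q ^ 8 - 1) * (q ^ 9 + 1) * (q ^ 12 - 1) := by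
  zify
  simp only [cast_pred hq]
  simp only [ev]
  push_cast
  ring

theorem not_dvd_succ_pow {q n t k : ℕ} (hk : ¬ n ∣ 2 * k) (hprim : ∀ m, t ∣ q ^ m - 1 ↔ n ∣ m) :
    ¬ t ∣ q ^ k + 1 := by
  intro h
  apply hk
  rw [← hprim]
  have h1 : q ^ (2 * k) - 1 = (q ^ k + 1) * (q ^ k - 1) := by
    rw [mul_comm 2 k, pow_mul, ← one_pow 2, Nat.sq_sub_sq, one_pow]
  rw [h1]
  exact dvd_mul_of_dvd_left h _

theorem lieGood_2E6 {K : Type} [Field K] [Fintype K] (p : ℕ) [hp : Fact p.Prime] [CharP K p] {q : ℕ}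
    (hq : IsPrimePow q) (hK : Fintype.card K = q ^ 2) : LieGood (twistedE6 K q) p := by
  classical
  obtain ⟨φ, hφ, hqq⟩ := TwE6Basic.exists_frob hq hK
  have hq2 : 2 ≤ q := hq.two_le
  let cs := (CoxeterMatrix.F₄).toCoxeterSystem
  have : Finite (CoxeterMatrix.F₄).Group := finiteW cs
  have hG : GG cs isCartan (T K q) (X φ q) = ⊤ := KFacts.Mult.RGDW.GG_eq_top_of_G1 (G1_eq_top cs hφ hqq)
  have L : LR (rgd cs hφ hqq p) rho := KFacts.TwESix.Grp.lr_long cs hφ hqq p (rho_root cs) rho_long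
  have hr : ∀ s ∈ Lg, IsRoot cs isCartan s := fun s hs => (mem_rts cs).2 (List.mem_filter.1 hs).1
  have hdec : ∀ i, 0 ≤ pairing A i rho := by decide +kernel
  have hd : ∀ i, 0 ≤ cpr cs isCartan (sr i) rho := by
    intro i
    by_contra h
    have := (cpr_sign (rho_root cs) i).1.1 (not_le.1 h)
    have := hdec i
    omega
  have Tb := tbl_of (cs := cs) (h := isCartan) tblV hr
  have hcX : ∀ i : Fin 4, Nat.card (X φ q (sr i)) = q ^ wts i := fun i =>
    GpExc.TwCard.card_simple hφ hqq (by omega) hK i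
  have hidx := index_of_tbl hG L hd Tb (q := q) (by omega) hcX
  rw [sum_list nodupL, cntE] at hidx
  have hPN := Subgroup.card_mul_index (PS (T K q) (X φ q) (Ge cs isCartan rho))
  rw [hidx] at hPN
  obtain ⟨t, ht, hprim, -, htq⟩ := Cfsg.Agent.Lib.Zsigmondy.exists_primitive (a := q)
    (n := 12) hq2 (by norm_num) (by norm_num) (by omega)
  have hcard : Nat.gcd 3 (q + 1) * Nat.card (twistedE6 K q) = q ^ 36 * ((q ^ 2 - 1) * (q ^ 5 + 1) *
      (q ^ 6 - 1) * (q ^ 8 - 1) * (q ^ 9 + 1)) * (q ^ 12 - 1) := by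
    rw [Cfsg.Agent.S1066.result hq hK]; ring
  have hg : ¬ t ∣ Nat.gcd 3 (q + 1) := by
    intro h
    exact not_dvd_succ hq2 ht (by norm_num) hprim (h.trans (Nat.gcd_dvd_right _ _))
  have hs3 := not_dvd_succ_pow (k := 3) (by norm_num) hprim
  have hs5 := not_dvd_succ_pow (k := 5) (by norm_num) hprim
  have hs9 := not_dvd_succ_pow (k := 9) (by norm_num) hprim
  have hP : ¬ t ∣ Nat.card (PS (T K q) (X φ q) (Ge cs isCartan rho)) := by
    refine not_dvd_P ht (by rw [hPN]; exact hcard) (poly_2E6 (by omega)) (pred_pos hq2 (by norm_num))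
      (not_dvd_pow ht htq) ?_ ?_
    · simp only [ht.dvd_mul, hprim, hs5, hs9, or_false]; omega
    · simp only [ht.dvd_mul, hprim, hs3, or_false]; omega
  have htY : t ∣ Nat.card (twistedE6 K q) := by
    have h1 : t ∣ Nat.gcd 3 (q + 1) * Nat.card (twistedE6 K q) := by
      rw [hcard]
      exact dvd_mul_of_dvd_right ((hprim _).2 dvd_rfl) _
    exact (ht.dvd_mul.1 h1).resolve_left hg
  obtain ⟨w, hw⟩ := KFacts.TwESix.Comb.exists_rep_long cs (rho_root cs) rho_long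
  have htp : t ≠ p := by
    refine ne_char (K := K) p ?_
    rw [hK]
    exact not_dvd_pow ht htq
  have hj : cpr cs isCartan (sr 3) rho = 0 := by
    have h1 := cpr_sign (cs := cs) (h := isCartan) (rho_root cs) 3
    have h2 : pairing A 3 rho = 0 := by decide +kernel
    rw [h2] at h1
    have h3 := h1.1
    have h4 := h1.2
    simp only [lt_self_iff_false, iff_false, not_lt] at h3 h4
    omega
  refine RootLie.lieGood_of_lr hG L hd ht htp hP htY (i₀ := 0) (w := w) hw ?_ hj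
  rw [hcX]
  show ¬ t ∣ q ^ 1 + 1
  rw [pow_one]
  exact not_dvd_succ hq2 ht (by norm_num) hprim

end Cfsg.Agent.H620.RowTwE
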