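import Cfsg.Agent.H620.TwoVanSporAll
import Cfsg.Agent.H387.VO.Known
import Cfsg.Agent.H686.VO.PSL
import Cfsg.Agent.H686.VO.PSp
import Cfsg.Agent.H206.VanPSU.Row
import Cfsg.Agent.H724.VO.Odd
import Cfsg.Agent.H724.VO.MinusRow
import Cfsg.Agent.H829.Van.OPlus
import Cfsg.Agent.H473.Van.Rows
import Cfsg.Agent.H654.Van.F4
import Cfsg.Agent.H654.Van.TwF4
import Cfsg.Agent.H975.VanE.RowE6
import Cfsg.Agent.H975.VanE.RowTwE6
import Cfsg.Agent.H86.Van.E7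
import Cfsg.Agent.H344.VanE8

/-!
# S4987: all the rows (helper620)

`fam : H387.VO.Known.Fam p`, from the rows of the team VAN.
-/

set_option autoImplicit false

namespace Cfsg.Agent.H620.VOFam

open Cfsg Cfsg.Agent.H387.VO Cfsg.Agent.H387.VO.Known

universe u

theorem exc {p : ℕ} [hp : Fact p.Prime] (hp5 : 5 ≤ p) (K : Type u) [Group K] [Finite K] [IsSimpleGroup K] (r : ℕ)
    (hr : r.Prime) (hpr : p ≠ r) (h : IsExceptionalChevChar r K) (hd : p ∣ Nat.card K) : Row p K := by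
  obtain ⟨F, _, _, hc, h⟩ := h
  rcases h with ⟨h3, ⟨e⟩⟩ | e | e | e | h
  · exact Cfsg.Agent.H473.Van.row_g2 (hc := hc) hr h3 e hp5 hpr hd
  · obtain ⟨e⟩ := e
    exact Cfsg.Agent.H654.Van.F4.row_F4 (r := r) e hp5 hpr hd
  · obtain ⟨e⟩ := e
    exact Cfsg.Agent.H975.VanE.row_E6 hr e hp5 hpr hd
  · exact Cfsg.Agent.H86.Van.E7.row (r := r) ⟨F, inferInstance, inferInstance, hc, e⟩ hp5 hpr hd
  · exact Cfsg.Agent.H344.VanE8.row (hc := hc) hr h hp5 hpr hd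

theorem tw {p : ℕ} [hp : Fact p.Prime] (hp5 : 5 ≤ p) (G : Type u) [Group G] [Finite G] [IsSimpleGroup G] (r : ℕ)
    (hr : r.Prime) (hpr : p ≠ r) (h : IsTwistedE6D4Char r G) (hd : p ∣ Nat.card G) : Row p G := by
  obtain ⟨K, _, _, hc, q, hq, h⟩ := h
  rcases h with ⟨hK, ⟨e⟩⟩ | ⟨hK, ⟨e⟩⟩
  · exact Cfsg.Agent.H975.VanE.row_TwE6 hq hK hr e hp5 hpr hd
  · exact Cfsg.Agent.H473.Van.row_3d4 (hc := hc) hr hq hK e hp5 hpr hd

/-- **All the rows of S4987.** -/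
theorem fam {p : ℕ} [hp : Fact p.Prime] (hp5 : 5 ≤ p) : Fam.{u} p where
  psl := fun _ _ _ _ _ hr hpr h hd => Cfsg.Agent.H686.VO.row_psl hr h hp5 hpr hd
  psp := fun _ _ _ _ _ hr hpr h hd => Cfsg.Agent.H686.VO.row_psp hr h hp5 hpr hd
  psu := fun _ _ _ _ _ hr hpr h hd => Cfsg.Agent.H206.VanPSU.row hr h hp5 hpr hd
  oodd := fun _ _ _ _ _ hr hpr h hd => Cfsg.Agent.H724.VO.row_odd hr h hp5 hpr hd
  oplus := fun _ _ _ _ _ hr hpr h hd => Cfsg.Agent.H829.Van.row hr h hp5 hpr hd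
  ominus := fun _ _ _ _ _ hr hpr h hd => Cfsg.Agent.H724.VO.row_minus hr h hp5 hpr hd
  exc := fun K _ _ _ r hr hpr h hd => exc hp5 K r hr hpr h hd
  tw := fun K _ _ _ r hr hpr h hd => tw hp5 K r hr hpr h hd
  twf := fun _ _ _ _ h hd => Cfsg.Agent.H654.Van.TwF4.row_2F4 h hp5 hd
  tits := fun _ _ _ _ h hd => TwoVanSporAll.tits h hp5 hd
  spor := fun _ _ _ _ h hd => TwoVanSporAll.spor h hp5 hd

end Cfsg.Agent.H620.VOFam
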